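import Cfsg.Prelude.Def_ChevStructure
import Cfsg.Prelude.Def_ChevG2
import Cfsg.Prelude.Def_ChevB2
import Cfsg.Prelude.Def_ChevD4
import Cfsg.Prelude.Def_ChevF4
import Cfsg.Prelude.Def_ChevE6
import Cfsg.Prelude.Def_ChevE7
import Cfsg.Prelude.Def_ChevE8

/-!
# Basic generic facts on the matrices `x_r(t)` of a Chevalley datum (helper22)
-/

set_option autoImplicit false

namespace Cfsg.Agent.H22

open Cfsg Cfsg.Lie

variable (D : ChevalleyDatum)

/-- `x_r(t)` for an in-range root is the matrix `xMat`. -/
theorem x_eq_xMat (F : Type*) [Field F] (r : ℕ) (hr : r < D.nroots) (t : F) :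
    D.x F r t = D.xMat F ⟨r, hr⟩ t := by
  simp [ChevalleyDatum.x, hr]

/-- `x_r(t)` for an out-of-range root is the identity. -/
theorem x_eq_one_of_not_lt (F : Type*) [Field F] (r : ℕ) (hr : ¬ r < D.nroots) (t : F) :
    D.x F r t = 1 := by
  simp [ChevalleyDatum.x, hr]

/-- the sum defining the chain part of an entry vanishes at `t = 0`. -/
theorem chainSum_zero (F : Type*) [Field F] (r s u : ℕ) :
    ((D.chainCoeff r s u).map fun km => ((km.2 : ℤ) : F) * (0 : F) ^ km.1).sum = 0 := by
  apply List.sum_eq_zero
  intro x hx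
  rw [List.mem_map] at hx
  obtain ⟨km, hkm, rfl⟩ := hx
  have hk : km.1 ≠ 0 := by
    unfold ChevalleyDatum.chainCoeff at hkm
    rw [List.mem_flatMap] at hkm
    obtain ⟨e, -, he⟩ := hkm
    rw [List.mem_map] at he
    obtain ⟨q, -, rfl⟩ := he
    simp
  simp [hk]

/-- `x_r(0) = 1` as matrices, for every datum. -/
theorem xMat_zero (F : Type*) [Field F] (r : Fin D.nroots) : D.xMat F r 0 = 1 := by
  ext row col
  rcases col with i | s
  · rcases row with i' | u
    · simp [ChevalleyDatum.xMat, Matrix.one_apply]
    · simp [ChevalleyDatum.xMat, Matrix.one_apply]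
  · by_cases hsr : s = r
    · subst hsr
      rcases row with i' | u
      · simp [ChevalleyDatum.xMat, Matrix.one_apply]
      · simp [ChevalleyDatum.xMat, Matrix.one_apply]
    · by_cases hneg : s.val = D.negIdx.getD r.val 0
      · rcases row with i' | u
        · simp [ChevalleyDatum.xMat, Matrix.one_apply, hsr, hneg]
        · by_cases hus : u = s
          · simp [ChevalleyDatum.xMat, Matrix.one_apply, hsr, hneg, hus]
          · by_cases hur : u = r
            · simp [ChevalleyDatum.xMat, Matrix.one_apply, hsr, hneg, hus, hur]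
            · simp [ChevalleyDatum.xMat, Matrix.one_apply, hsr, hneg, hus, hur]
      · rcases row with i' | u
        · simp [ChevalleyDatum.xMat, Matrix.one_apply, hsr, hneg]
        · have h0 := chainSum_zero D F r.val s.val u.val
          simp only [ChevalleyDatum.xMat, Matrix.of_apply, hsr, hneg, if_false, Matrix.one_apply,
            Sum.inr.injEq]
          rw [h0, add_zero]

/-- `x_r(0) = 1`, for every datum and every index. -/
theorem x_zero (F : Type*) [Field F] (r : ℕ) : D.x F r 0 = 1 := by
  by_cases hr : r < D.nroots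
  · rw [x_eq_xMat D F r hr, xMat_zero]
  · exact x_eq_one_of_not_lt D F r hr 0

/-- The entry of `x_r(t)` in row `e_r`, column `e_{-r}` is `-t²`. -/
theorem xMat_apply_r_neg (F : Type*) [Field F] (r : Fin D.nroots) (s : Fin D.nroots)
    (hs : s.val = D.negIdx.getD r.val 0) (hsr : s ≠ r) (t : F) :
    D.xMat F r t (Sum.inr r) (Sum.inr s) = -(t ^ 2) := by
  have hrs : r ≠ s := fun h => hsr h.symm
  simp [ChevalleyDatum.xMat, hsr, hs, hrs]

/-- The list of the seven tabulated data. -/
def dataList : List ChevalleyDatum :=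
  [chevG2, chevB2, chevD4, chevF4, chevE6, chevE7, chevE8]

/-- A property that holds for each of the seven tabulated data holds for every member of the list. -/
theorem forall_mem_dataList {P : ChevalleyDatum → Prop} (hG2 : P chevG2) (hB2 : P chevB2)
    (hD4 : P chevD4) (hF4 : P chevF4) (hE6 : P chevE6) (hE7 : P chevE7) (hE8 : P chevE8)
    (D : ChevalleyDatum)
    (hD : D ∈ [chevG2, chevB2, chevD4, chevF4, chevE6, chevE7, chevE8]) : P D := by
  simp only [List.mem_cons, List.not_mem_nil, or_false] at hD
  rcases hD with rfl | rfl | rfl | rfl | rfl | rfl | rfl <;> assumption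

end Cfsg.Agent.H22
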