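import Cfsg.Agent.H22.ChevHAll

/-!
# The diagonal subgroup `H` (helper22)

Every element of `H` is a diagonal matrix `diag(1, …, 1, Π_i c_i^{A(i,s)})`, the matrix of
`h_{p_1}(c_1) ⋯ h_{p_l}(c_l)`.
-/

set_option autoImplicit false

namespace Cfsg.Agent.H22

open Cfsg Cfsg.Lie

variable (D : ChevalleyDatum) {F : Type*} [Field F]

theorem wordMat_append (w w' : List (ℕ × F)) :
    D.wordMat F (w ++ w') = D.wordMat F w * D.wordMat F w' := by
  simp [ChevalleyDatum.wordMat]

theorem wordMat_flatMap (L : List ℕ) (f : ℕ → List (ℕ × F)) :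
    D.wordMat F (L.flatMap f) = (L.map fun i => D.wordMat F (f i)).prod := by
  induction L with
  | nil => simp [ChevalleyDatum.wordMat]
  | cons i L ih => rw [List.flatMap_cons, wordMat_append, ih, List.map_cons, List.prod_cons]

theorem prod_diagonal {ι : Type*} [Fintype ι] [DecidableEq ι] (L : List ℕ) (f : ℕ → ι → F) :
    (L.map fun i => Matrix.diagonal (f i)).prod =
      Matrix.diagonal (fun j => (L.map fun i => f i j).prod) := by
  induction L with
  | nil => simp
  | cons i L ih =>
    rw [List.map_cons, List.prod_cons, ih, Matrix.diagonal_mul_diagonal]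
    simp

theorem prod_zpow (t : F) (ht : t ≠ 0) (L : List ℕ) (a : ℕ → ℤ) :
    (L.map fun i => t ^ a i).prod = t ^ (L.map a).sum := by
  induction L with
  | nil => simp
  | cons i L ih => rw [List.map_cons, List.prod_cons, ih, List.map_cons, List.sum_cons, zpow_add₀ ht]

/-- the diagonal of `h_{p_1}(c_1) ⋯ h_{p_l}(c_l)` -/
def torusDiag (c : ℕ → F) : D.Idx → F :=
  Sum.elim (fun _ => 1) (fun s : Fin D.nroots =>
    ((List.range D.rank).map fun i => c i ^ D.cartan i s).prod)

theorem torusDiag_one : torusDiag D (fun _ => (1 : F)) = fun _ => 1 := by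
  funext j
  rcases j with a | s
  · rfl
  · simp [torusDiag]

theorem torusDiag_mul (c c' : ℕ → F) :
    torusDiag D (fun i => c i * c' i) = fun j => torusDiag D c j * torusDiag D c' j := by
  funext j
  rcases j with a | s
  · simp [torusDiag]
  · simp only [torusDiag, Sum.elim_inr, mul_zpow]
    exact List.prod_map_mul

variable {D}

theorem torus_wordMat (hD : D ∈ [chevG2, chevB2, chevD4, chevF4, chevE6, chevE7, chevE8])
    (c : ℕ → F) (hc : ∀ i < D.rank, c i ≠ 0) :
    D.wordMat F ((List.range D.rank).flatMap fun i => D.hWord (D.simple i) (c i)) =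
      Matrix.diagonal (torusDiag D c) := by
  rw [wordMat_flatMap]
  have h1 : ((List.range D.rank).map fun i => D.wordMat F (D.hWord (D.simple i) (c i))) =
      (List.range D.rank).map fun i => Matrix.diagonal
        (Sum.elim (fun _ => (1 : F)) (fun s : Fin D.nroots => c i ^ D.cartan i s) : D.Idx → F) := by
    apply List.map_congr_left
    intro i hi
    have hi' := List.mem_range.mp hi
    have h2 := hMat_eq_diagonal D hD (D.simple i) (simple_lt D hD i hi') (c i) (hc i hi')
    rw [ChevalleyDatum.hMat] at h2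
    rw [h2]
    congr 1
    funext j
    rcases j with a | s
    · rfl
    · simp only [Sum.elim_inr]
      rw [pairZ_simple D hD i s hi' s.isLt]
  rw [h1, prod_diagonal]
  congr 1
  funext j
  rcases j with a | s
  · simp [torusDiag]
  · simp [torusDiag]

/-- every element of `H` is the diagonal matrix of some `h_{p_1}(c_1) ⋯ h_{p_l}(c_l)` -/
theorem exists_torusDiag (hD : D ∈ [chevG2, chevB2, chevD4, chevF4, chevE6, chevE7, chevE8])
    (g : GL D.Idx F) (hg : g ∈ D.diagonalSubgroup F) :
    ∃ c : ℕ → F, (∀ i, c i ≠ 0) ∧ (g : Matrix D.Idx D.Idx F) = Matrix.diagonal (torusDiag D c) := by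
  unfold ChevalleyDatum.diagonalSubgroup at hg
  induction hg using Subgroup.closure_induction with
  | mem g hg =>
    obtain ⟨r, t, hr, ht, hgm⟩ := hg
    refine ⟨fun i => t ^ corootF D r i, fun i => zpow_ne_zero _ ht, ?_⟩
    rw [hgm, hMat_eq_diagonal D hD r hr t ht]
    congr 1
    funext j
    rcases j with a | s
    · rfl
    · simp only [torusDiag, Sum.elim_inr]
      have h1 : ((List.range D.rank).map fun i => (t ^ corootF D r i) ^ D.cartan i s) =
          (List.range D.rank).map fun i => t ^ (corootF D r i * cartanF D i s) := by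
        apply List.map_congr_left
        intro i hi
        rw [cartanF_eq (tablesCheck_all D hD) i s (List.mem_range.mp hi) s.isLt, zpow_mul]
      rw [h1, prod_zpow t ht, pairZ_eq]
  | one =>
    refine ⟨fun _ => 1, fun _ => one_ne_zero, ?_⟩
    rw [torusDiag_one]
    simp
  | mul g g' _ _ ih ih' =>
    obtain ⟨c, hc, hg⟩ := ih
    obtain ⟨c', hc', hg'⟩ := ih'
    refine ⟨fun i => c i * c' i, fun i => mul_ne_zero (hc i) (hc' i), ?_⟩
    rw [Units.val_mul, hg, hg', Matrix.diagonal_mul_diagonal, torusDiag_mul]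
  | inv g _ ih =>
    obtain ⟨c, hc, hg⟩ := ih
    refine ⟨fun i => (c i)⁻¹, fun i => inv_ne_zero (hc i), ?_⟩
    rw [Matrix.coe_units_inv]
    apply Matrix.inv_eq_right_inv
    rw [hg, Matrix.diagonal_mul_diagonal]
    have h1 := torusDiag_mul D c (fun i => (c i)⁻¹)
    have h2 : (fun i => c i * (c i)⁻¹) = fun _ : ℕ => (1 : F) := by
      funext i
      exact mul_inv_cancel₀ (hc i)
    rw [h2, torusDiag_one] at h1
    have h3 : (fun j => torusDiag D c j * torusDiag D (fun i => (c i)⁻¹) j) = fun _ => (1 : F) :=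
      h1.symm
    rw [h3]
    simp

end Cfsg.Agent.H22
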