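import Cfsg.Agent.H22.ChevTriData
import Cfsg.Agent.H22.ChevTorus

/-!
# The subgroups `U`, `V`, `H` and `B = UH` (helper22)
-/

set_option autoImplicit false

namespace Cfsg.Agent.H22

open Cfsg Cfsg.Lie

variable {D : ChevalleyDatum} {F : Type*} [Field F]

/-- `H` consists of diagonal matrices, which are triangular for every position function -/
theorem diagonalSubgroup_le_tri (hD : D ∈ [chevG2, chevB2, chevD4, chevF4, chevE6, chevE7, chevE8])
    (p : D.Idx → ℤ) : D.diagonalSubgroup F ≤ triSubgroup p := by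
  intro g hg
  obtain ⟨c, -, hc⟩ := exists_torusDiag hD g hg
  obtain ⟨c', -, hc'⟩ := exists_torusDiag hD g⁻¹ (inv_mem hg)
  refine ⟨?_, ?_⟩
  · rw [hc]; exact IsLev.diagonal p _
  · rw [hc']; exact IsLev.diagonal p _

/-- the inverse of `h_r(c)` -/
theorem hMat_inv (hD : D ∈ [chevG2, chevB2, chevD4, chevF4, chevE6, chevE7, chevE8]) (r : ℕ)
    (hr : r < D.nroots) (c : F) (hc : c ≠ 0) (g : GL D.Idx F)
    (hg : (g : Matrix D.Idx D.Idx F) = D.hMat F r c) :
    ((g⁻¹ : GL D.Idx F) : Matrix D.Idx D.Idx F) = D.hMat F r c⁻¹ := by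
  rw [Matrix.coe_units_inv, hg]
  apply Matrix.inv_eq_right_inv
  rw [hMat_eq_diagonal D hD r hr c hc, hMat_eq_diagonal D hD r hr c⁻¹ (inv_ne_zero hc),
    Matrix.diagonal_mul_diagonal]
  have : (fun j : D.Idx => (Sum.elim (fun _ => (1 : F)) (fun s : Fin D.nroots => c ^ pairZ D r s) j) *
      (Sum.elim (fun _ => (1 : F)) (fun s : Fin D.nroots => c⁻¹ ^ pairZ D r s) j)) =
      fun _ => 1 := by
    funext j
    rcases j with a | s
    · simp
    · simp only [Sum.elim_inr]
      rw [inv_zpow, mul_inv_cancel₀ (zpow_ne_zero _ hc)]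
  rw [this, Matrix.diagonal_one]

/-- conjugation by `h_r(c)` maps `U` into `U` -/
theorem hMat_conj_mem (hD : D ∈ [chevG2, chevB2, chevD4, chevF4, chevE6, chevE7, chevE8]) (r : ℕ)
    (hr : r < D.nroots) (c : F) (hc : c ≠ 0) (g : GL D.Idx F)
    (hg : (g : Matrix D.Idx D.Idx F) = D.hMat F r c) (n : GL D.Idx F)
    (hn : n ∈ D.posUnipotent F) : g * n * g⁻¹ ∈ D.posUnipotent F := by
  unfold ChevalleyDatum.posUnipotent at hn ⊢
  induction hn using Subgroup.closure_induction with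
  | mem n hn =>
    obtain ⟨s, t, hpos, hnv⟩ := hn
    apply Subgroup.subset_closure
    refine ⟨s, c ^ pairZ D r s * t, hpos, ?_⟩
    rw [Units.val_mul, Units.val_mul, hg, hnv, hMat_mul_x D hD r s hr hpos.1 c hc t,
      Matrix.mul_assoc, ← hg, ← Units.val_mul, mul_inv_cancel, Units.val_one, Matrix.mul_one]
  | one => simpa using Subgroup.one_mem _
  | mul a b _ _ iha ihb =>
    have : g * (a * b) * g⁻¹ = (g * a * g⁻¹) * (g * b * g⁻¹) := by group
    rw [this]
    exact Subgroup.mul_mem _ iha ihb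
  | inv a _ iha =>
    have : g * a⁻¹ * g⁻¹ = (g * a * g⁻¹)⁻¹ := by group
    rw [this]
    exact Subgroup.inv_mem _ iha

/-- `H` normalises `U` -/
theorem diag_le_normalizer (hD : D ∈ [chevG2, chevB2, chevD4, chevF4, chevE6, chevE7, chevE8]) :
    D.diagonalSubgroup F ≤ Subgroup.normalizer (D.posUnipotent F : Set (GL D.Idx F)) := by
  unfold ChevalleyDatum.diagonalSubgroup
  rw [Subgroup.closure_le]
  rintro g ⟨r, c, hr, hc, hg⟩
  rw [SetLike.mem_coe, Subgroup.mem_normalizer_iff]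
  intro n
  constructor
  · exact hMat_conj_mem hD r hr c hc g hg n
  · intro h
    have h1 := hMat_conj_mem hD r hr c⁻¹ (inv_ne_zero hc) g⁻¹ (hMat_inv hD r hr c hc g hg) _ h
    have : g⁻¹ * (g * n * g⁻¹) * g⁻¹⁻¹ = n := by group
    rwa [this] at h1

/-- `U ∩ H = 1` -/
theorem pos_inf_diag (hD : D ∈ [chevG2, chevB2, chevD4, chevF4, chevE6, chevE7, chevE8]) :
    D.posUnipotent F ⊓ D.diagonalSubgroup F = ⊥ := by
  rw [Subgroup.eq_bot_iff_forall]
  rintro g ⟨hu, hh⟩
  have h1 := (posUnipotent_le_lev hD hu).1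
  have h2 := (diagonalSubgroup_le_tri hD (fun j => - posZ D j) hh).1
  rw [Nat.cast_one] at h1
  exact eq_one_of_lev_of_up (posZ D) g h1 h2

/-- `B = UH` -/
theorem borel_decomp (hD : D ∈ [chevG2, chevB2, chevD4, chevF4, chevE6, chevE7, chevE8])
    (g : GL D.Idx F) (hg : g ∈ D.borelSubgroup F) :
    ∃ u ∈ D.posUnipotent F, ∃ h ∈ D.diagonalSubgroup F, g = u * h := by
  unfold ChevalleyDatum.borelSubgroup at hg
  rw [Subgroup.sup_eq_closure] at hg
  induction hg using Subgroup.closure_induction with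
  | mem g hg =>
    rcases hg with h | h
    · exact ⟨g, h, 1, one_mem _, by simp⟩
    · exact ⟨1, one_mem _, g, h, by simp⟩
  | one => exact ⟨1, one_mem _, 1, one_mem _, by simp⟩
  | mul a b _ _ iha ihb =>
    obtain ⟨u, hu, h, hh, rfl⟩ := iha
    obtain ⟨u', hu', h', hh', rfl⟩ := ihb
    refine ⟨u * (h * u' * h⁻¹), mul_mem hu ?_, h * h', mul_mem hh hh', by group⟩
    exact ((Subgroup.mem_normalizer_iff.mp (diag_le_normalizer hD hh)) u').mp hu'
  | inv a _ iha =>
    obtain ⟨u, hu, h, hh, rfl⟩ := iha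
    refine ⟨h⁻¹ * u⁻¹ * h⁻¹⁻¹, ?_, h⁻¹, inv_mem hh, by group⟩
    exact ((Subgroup.mem_normalizer_iff.mp (diag_le_normalizer hD (inv_mem hh))) u⁻¹).mp
      (inv_mem hu)

/-- `B` consists of lower triangular matrices -/
theorem borel_le_tri (hD : D ∈ [chevG2, chevB2, chevD4, chevF4, chevE6, chevE7, chevE8]) :
    D.borelSubgroup F ≤ triSubgroup (posZ D) :=
  sup_le ((posUnipotent_le_lev hD).trans (levSubgroup_le_tri _ _)) (diagonalSubgroup_le_tri hD _)

/-- `VH` consists of upper triangular matrices -/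
theorem negdiag_le_tri (hD : D ∈ [chevG2, chevB2, chevD4, chevF4, chevE6, chevE7, chevE8]) :
    D.negUnipotent F ⊔ D.diagonalSubgroup F ≤ triSubgroup (fun j => - posZ D j) :=
  sup_le ((negUnipotent_le_lev hD).trans (levSubgroup_le_tri _ _)) (diagonalSubgroup_le_tri hD _)

/-- `B ∩ V = 1` -/
theorem borel_inf_neg (hD : D ∈ [chevG2, chevB2, chevD4, chevF4, chevE6, chevE7, chevE8]) :
    D.borelSubgroup F ⊓ D.negUnipotent F = ⊥ := by
  rw [Subgroup.eq_bot_iff_forall]
  rintro g ⟨hb, hv⟩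
  have h1 := (negUnipotent_le_lev hD hv).1
  have h2 := (borel_le_tri hD hb).1
  rw [Nat.cast_one] at h1
  apply eq_one_of_lev_of_up (fun j => - posZ D j) g h1
  have : (fun i : D.Idx => - (fun j => - posZ D j) i) = posZ D := by
    funext i
    simp
  rw [this]
  exact h2

/-- `B ∩ VH = H` -/
theorem borel_inf_negdiag (hD : D ∈ [chevG2, chevB2, chevD4, chevF4, chevE6, chevE7, chevE8]) :
    D.borelSubgroup F ⊓ (D.negUnipotent F ⊔ D.diagonalSubgroup F) = D.diagonalSubgroup F := by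
  apply le_antisymm
  · rintro g ⟨hb, hvh⟩
    obtain ⟨u, hu, h, hh, rfl⟩ := borel_decomp hD g hb
    have hu' : u ∈ D.negUnipotent F ⊔ D.diagonalSubgroup F := by
      have h1 : u = u * h * h⁻¹ := by group
      rw [h1]
      exact mul_mem hvh (inv_mem (Subgroup.mem_sup_right hh))
    have h1 := (posUnipotent_le_lev hD hu).1
    have h2 := (negdiag_le_tri hD hu').1
    rw [Nat.cast_one] at h1
    have hu1 : u = 1 := eq_one_of_lev_of_up (posZ D) u h1 h2
    rw [hu1, one_mul]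
    exact hh
  · exact le_inf le_sup_right le_sup_right

end Cfsg.Agent.H22
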