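import Cfsg.Agent.H22.ChevEnt

/-!
# Comparing symbolic matrices by positional hashing (helper22)
-/

set_option autoImplicit false

namespace Cfsg.Agent.H22

open Cfsg Cfsg.Lie

/-- layout of the hash key: exponent of `X` plus `OA` below `A`, exponent of `Y` plus `OB` below
`A2`, row below `256`, column at least `c0`. -/
structure KeyCfg where
  A : ℕ
  OA : ℕ
  A2 : ℕ
  OB : ℕ
  c0 : ℕ

def keyOK (cfg : KeyCfg) (e : Ent) : Bool :=
  Nat.ble e.m.an (Nat.add e.m.ap cfg.OA) &&
  (Nat.blt (Nat.sub (Nat.add e.m.ap cfg.OA) e.m.an) cfg.A &&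
  (Nat.ble e.m.bn (Nat.add e.m.bp cfg.OB) &&
  (Nat.blt (Nat.sub (Nat.add e.m.bp cfg.OB) e.m.bn) cfg.A2 &&
  (Nat.blt e.row 256 && (Nat.ble cfg.c0 e.col && (Nat.blt e.m.cp 256 && Nat.blt e.m.cn 256))))))

def keyOf (cfg : KeyCfg) (e : Ent) : ℕ :=
  Nat.add (Nat.sub (Nat.add e.m.ap cfg.OA) e.m.an)
    (Nat.mul cfg.A (Nat.add (Nat.sub (Nat.add e.m.bp cfg.OB) e.m.bn)
      (Nat.mul cfg.A2 (Nat.add e.row (Nat.mul 256 (Nat.sub e.col cfg.c0))))))

/-- number of entries if all keys are valid, a huge number otherwise -/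
def okCount (cfg : KeyCfg) (L : List Ent) : ℕ :=
  List.rec 0 (fun e _ ih => bif keyOK cfg e then Nat.succ ih else 1000000) L

def hashP (cfg : KeyCfg) (L : List Ent) : ℕ :=
  List.rec 0 (fun e _ ih => bif Nat.beq e.m.cp 0 then ih
    else Nat.add (Nat.shiftLeft e.m.cp (Nat.mul 16 (keyOf cfg e))) ih) L

def hashN (cfg : KeyCfg) (L : List Ent) : ℕ :=
  List.rec 0 (fun e _ ih => bif Nat.beq e.m.cn 0 then ih
    else Nat.add (Nat.shiftLeft e.m.cn (Nat.mul 16 (keyOf cfg e))) ih) L

/-- equality test for two symbolic matrices -/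
def entEq (cfg : KeyCfg) (L R : List Ent) : Bool :=
  Nat.blt (Nat.add (okCount cfg L) (okCount cfg R)) 128 &&
    Nat.beq (Nat.add (hashP cfg L) (hashN cfg R)) (Nat.add (hashP cfg R) (hashN cfg L))

theorem okCount_cons (cfg : KeyCfg) (e : Ent) (L : List Ent) :
    okCount cfg (e :: L) = bif keyOK cfg e then Nat.succ (okCount cfg L) else 1000000 := rfl

theorem okCount_spec (cfg : KeyCfg) (L : List Ent) (h : okCount cfg L < 1000000) :
    (∀ e ∈ L, keyOK cfg e = true) ∧ okCount cfg L = L.length := by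
  induction L with
  | nil => exact ⟨by simp, rfl⟩
  | cons e L ih =>
    rw [okCount_cons] at h ⊢
    by_cases hk : keyOK cfg e = true
    · rw [hk, cond_true] at h ⊢
      have h' : okCount cfg L < 1000000 := by
        have : Nat.succ (okCount cfg L) = okCount cfg L + 1 := rfl
        omega
      obtain ⟨h1, h2⟩ := ih h'
      refine ⟨?_, by simp [h2]⟩
      intro e' he'
      rcases List.mem_cons.mp he' with rfl | h3
      · exact hk
      · exact h1 e' h3
    · have hk' : keyOK cfg e = false := by simpa using hk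
      rw [hk', cond_false] at h
      omega

theorem hashP_eq (cfg : KeyCfg) (L : List Ent) :
    hashP cfg L = hsum 65536 (L.map fun e => (keyOf cfg e, e.m.cp)) := by
  induction L with
  | nil => rfl
  | cons e L ih =>
    have h1 : hashP cfg (e :: L) = bif Nat.beq e.m.cp 0 then hashP cfg L
        else Nat.add (Nat.shiftLeft e.m.cp (Nat.mul 16 (keyOf cfg e))) (hashP cfg L) := rfl
    rw [h1, List.map_cons, hsum_cons, ih]
    by_cases h0 : e.m.cp = 0
    · rw [beq_true' h0, cond_true, h0]; simp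
    · rw [beq_false' h0, cond_false]
      simp only [Nat.add_eq, Nat.mul_eq]
      congr 1
      show e.m.cp <<< (16 * keyOf cfg e) = e.m.cp * 65536 ^ keyOf cfg e
      rw [Nat.shiftLeft_eq, pow_mul]
      norm_num

theorem hashN_eq (cfg : KeyCfg) (L : List Ent) :
    hashN cfg L = hsum 65536 (L.map fun e => (keyOf cfg e, e.m.cn)) := by
  induction L with
  | nil => rfl
  | cons e L ih =>
    have h1 : hashN cfg (e :: L) = bif Nat.beq e.m.cn 0 then hashN cfg L
        else Nat.add (Nat.shiftLeft e.m.cn (Nat.mul 16 (keyOf cfg e))) (hashN cfg L) := rfl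
    rw [h1, List.map_cons, hsum_cons, ih]
    by_cases h0 : e.m.cn = 0
    · rw [beq_true' h0, cond_true, h0]; simp
    · rw [beq_false' h0, cond_false]
      simp only [Nat.add_eq, Nat.mul_eq]
      congr 1
      show e.m.cn <<< (16 * keyOf cfg e) = e.m.cn * 65536 ^ keyOf cfg e
      rw [Nat.shiftLeft_eq, pow_mul]
      norm_num

theorem radix_inj {R a a' x x' : ℕ} (h1 : a < R) (h2 : a' < R) (h : a + R * x = a' + R * x') :
    a = a' ∧ x = x' := by
  have ha : a = a' := by
    have := congrArg (· % R) h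
    simpa [Nat.add_mul_mod_self_left, Nat.mod_eq_of_lt h1, Nat.mod_eq_of_lt h2] using this
  subst ha
  have hR : 0 < R := by omega
  exact ⟨rfl, Nat.eq_of_mul_eq_mul_left hR (by omega)⟩

theorem keyOK_spec (cfg : KeyCfg) (e : Ent) (h : keyOK cfg e = true) :
    e.m.an ≤ e.m.ap + cfg.OA ∧ e.m.ap + cfg.OA - e.m.an < cfg.A ∧
    e.m.bn ≤ e.m.bp + cfg.OB ∧ e.m.bp + cfg.OB - e.m.bn < cfg.A2 ∧
    e.row < 256 ∧ cfg.c0 ≤ e.col ∧ e.m.cp < 256 ∧ e.m.cn < 256 := by
  simp only [keyOK, Bool.and_eq_true, Nat.ble_eq, Nat.blt, Nat.add_eq, Nat.sub_eq, Nat.succ_eq_add_one] at h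
  obtain ⟨h1, h2, h3, h4, h5, h6, h7, h8⟩ := h
  exact ⟨h1, by omega, h3, by omega, by omega, h6, by omega, by omega⟩

theorem key_inj (cfg : KeyCfg) (e e' : Ent) (h : keyOK cfg e = true) (h' : keyOK cfg e' = true)
    (hk : keyOf cfg e = keyOf cfg e') :
    e.m.ap + e'.m.an = e'.m.ap + e.m.an ∧ e.m.bp + e'.m.bn = e'.m.bp + e.m.bn ∧
      e.row = e'.row ∧ e.col = e'.col := by
  obtain ⟨a1, a2, a3, a4, a5, a6, -, -⟩ := keyOK_spec cfg e h
  obtain ⟨b1, b2, b3, b4, b5, b6, -, -⟩ := keyOK_spec cfg e' h'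
  simp only [keyOf, Nat.add_eq, Nat.sub_eq, Nat.mul_eq] at hk
  obtain ⟨k1, hk⟩ := radix_inj a2 b2 hk
  obtain ⟨k2, hk⟩ := radix_inj a4 b4 hk
  obtain ⟨k3, hk⟩ := radix_inj a5 b5 hk
  refine ⟨by omega, by omega, k3, by omega⟩

variable {F : Type*} [Field F]

theorem pow_mul_inv_pow_eq {x : F} (hx : x ≠ 0) {a n a' n' : ℕ} (h : a + n' = a' + n) :
    x ^ a * x⁻¹ ^ n = x ^ a' * x⁻¹ ^ n' := by
  have h1 : ∀ a n : ℕ, x ^ a * x⁻¹ ^ n = x ^ ((a : ℤ) - (n : ℤ)) := by
    intro a n
    rw [zpow_sub₀ hx, zpow_natCast, zpow_natCast, inv_pow, div_eq_mul_inv]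
  rw [h1, h1]
  congr 1
  omega

variable (D : ChevalleyDatum)

/-- the monomial part of an entry -/
def Ent.gen (ρ : Val F) (e : Ent) : Matrix D.Idx D.Idx F := e.m.mon ρ • bmat D F e.row e.col

theorem Ent.eval_eq (ρ : Val F) (e : Ent) :
    e.eval D ρ = ((e.m.cp : F) - (e.m.cn : F)) • e.gen D ρ := by
  simp [Ent.eval, Ent.gen, Mono.eval, smul_smul]

theorem gen_eq_of_key (ρ : Val F) (cfg : KeyCfg) (e e' : Ent) (h : keyOK cfg e = true)
    (h' : keyOK cfg e' = true) (hk : keyOf cfg e = keyOf cfg e') :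
    e.gen D ρ = e'.gen D ρ := by
  obtain ⟨h1, h2, h3, h4⟩ := key_inj cfg e e' h h' hk
  simp only [Ent.gen, Mono.mon, h3, h4, pow_mul_inv_pow_eq ρ.hx h1, pow_mul_inv_pow_eq ρ.hy h2]

theorem wsum_map_le {α : Type*} (L : List α) (g f : α → ℕ) (c : ℕ) (h : ∀ e ∈ L, f e ≤ c) :
    wsum (L.map fun e => (g e, f e)) ≤ c * L.length := by
  induction L with
  | nil => simp [wsum]
  | cons e L ih =>
    have h1 := h e (List.mem_cons_self ..)
    have h2 := ih (fun e' he' => h e' (List.mem_cons_of_mem _ he'))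
    rw [List.map_cons, wsum_cons, List.length_cons]
    simp only
    calc f e + wsum (L.map fun e => (g e, f e)) ≤ c + c * L.length := Nat.add_le_add h1 h2
      _ = c * (L.length + 1) := by ring

theorem entEq_sound (ρ : Val F) (cfg : KeyCfg) (L R : List Ent) (h : entEq cfg L R = true) :
    entsEval D ρ L = entsEval D ρ R := by
  classical
  simp only [entEq, Bool.and_eq_true] at h
  obtain ⟨hc, hh⟩ := h
  have hc' : okCount cfg L + okCount cfg R < 128 := by
    simpa [Nat.blt] using hc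
  have hh' : hashP cfg L + hashN cfg R = hashP cfg R + hashN cfg L := Nat.eq_of_beq_eq_true hh
  obtain ⟨okL, lenL⟩ := okCount_spec cfg L (by omega)
  obtain ⟨okR, lenR⟩ := okCount_spec cfg R (by omega)
  -- representatives of the keys
  let Γ : ℕ → Matrix D.Idx D.Idx F := fun k =>
    match (L ++ R).find? (fun e => decide (keyOf cfg e = k)) with
    | some e => e.gen D ρ
    | none => 0
  have hΓ : ∀ e ∈ L ++ R, Γ (keyOf cfg e) = e.gen D ρ := by
    intro e he
    have hok : ∀ e' ∈ L ++ R, keyOK cfg e' = true := by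
      intro e' he'
      rcases List.mem_append.mp he' with h1 | h1
      · exact okL e' h1
      · exact okR e' h1
    show (match (L ++ R).find? (fun e' => decide (keyOf cfg e' = keyOf cfg e)) with
      | some e => e.gen D ρ
      | none => 0) = e.gen D ρ
    cases hf : (L ++ R).find? (fun e' => decide (keyOf cfg e' = keyOf cfg e)) with
    | none =>
      have := List.find?_eq_none.mp hf e he
      simp at this
    | some e' =>
      have h1 := List.find?_some hf
      have h2 := List.mem_of_find?_eq_some hf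
      simp only [decide_eq_true_eq] at h1
      exact gen_eq_of_key D ρ cfg e' e (hok e' h2) (hok e he) h1
  have hval : ∀ T : List Ent, (∀ e ∈ T, e ∈ L ++ R) →
      entsEval D ρ T = fsum (F := F) Γ (T.map fun e => (keyOf cfg e, e.m.cp, e.m.cn)) := by
    intro T hT
    unfold entsEval fsum
    rw [List.map_map]
    congr 1
    apply List.map_congr_left
    intro e he
    simp only [Function.comp]
    rw [hΓ e (hT e he), Ent.eval_eq]
  rw [hval L (fun e he => List.mem_append_left _ he),
    hval R (fun e he => List.mem_append_right _ he)]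
  apply fsum_eq_of_hash Γ 65536
  · simp only [List.map_map, Function.comp_def]
    have w1 := wsum_map_le L (keyOf cfg) (fun e => e.m.cp) 255
      (fun e he => by have := (keyOK_spec cfg e (okL e he)).2.2.2.2.2.2.1; omega)
    have w2 := wsum_map_le L (keyOf cfg) (fun e => e.m.cn) 255
      (fun e he => by have := (keyOK_spec cfg e (okL e he)).2.2.2.2.2.2.2; omega)
    have w3 := wsum_map_le R (keyOf cfg) (fun e => e.m.cp) 255
      (fun e he => by have := (keyOK_spec cfg e (okR e he)).2.2.2.2.2.2.1; omega)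
    have w4 := wsum_map_le R (keyOf cfg) (fun e => e.m.cn) 255
      (fun e he => by have := (keyOK_spec cfg e (okR e he)).2.2.2.2.2.2.2; omega)
    omega
  · simp only [List.map_map, Function.comp_def]
    rw [← hashP_eq, ← hashN_eq, ← hashP_eq, ← hashN_eq]
    exact hh'

/-! ## Loops and the column-wise check of word identities -/

/-- `p k` holds for all `k < n` -/
def allBelow (n : ℕ) (p : ℕ → Bool) : Bool := Nat.rec true (fun k ih => p k && ih) n

theorem allBelow_iff (n : ℕ) (p : ℕ → Bool) : allBelow n p = true ↔ ∀ k < n, p k = true := by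
  induction n with
  | zero => simp [allBelow]
  | succ n ih =>
    have : allBelow (n + 1) p = (p n && allBelow n p) := rfl
    rw [this, Bool.and_eq_true, ih]
    constructor
    · rintro ⟨h1, h2⟩ k hk
      rcases Nat.lt_succ_iff_lt_or_eq.mp hk with h | rfl
      · exact h2 k h
      · exact h1
    · intro h
      exact ⟨h n (Nat.lt_succ_self n), fun k hk => h k (Nat.lt_succ_of_lt hk)⟩

/-- the unit monomial -/
def Mono.one : Mono := ⟨1, 0, 0, 0, 0, 0⟩

/-- the entry `E_{k,k}` -/
def unitE (k : ℕ) : Ent := ⟨k, k, Mono.one⟩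

theorem entsEval_unitE (ρ : Val F) (k : ℕ) : entsEval D ρ [unitE k] = bmat D F k k := by
  simp [entsEval, Ent.eval, unitE, Mono.one, Mono.eval, Mono.mon]

/-- two matrices agreeing after multiplication with all `E_{k,k}` are equal -/
theorem mat_eq_of_mul_bmat (M N : Matrix D.Idx D.Idx F)
    (h : ∀ k < D.rank + D.nroots, M * bmat D F k k = N * bmat D F k k) : M = N := by
  ext i j
  have h1 := h (enc D j) (enc_lt D j)
  have h2 : ∀ M' : Matrix D.Idx D.Idx F, (M' * bmat D F (enc D j) (enc D j)) i j = M' i j := by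
    intro M'
    rw [bmat_eq_colMat, mul_colMat, bvec_enc, Matrix.mulVec_single_one]
    simp [colMat]
  rw [← h2 M, ← h2 N, h1]

/-- column-wise check of an identity between two words -/
def wordEqCheck (w1 w2 : List (ℕ × Poly)) : Bool :=
  allBelow (D.rank + D.nroots) fun k =>
    entEq ⟨16, 8, 16, 8, k⟩ (leftWord D w1 [unitE k]) (leftWord D w2 [unitE k])

variable {D}

theorem wordMat_eq_of_check (h : tablesCheck D = true) (w1 w2 : List (ℕ × Poly))
    (hc : wordEqCheck D w1 w2 = true) (ρ : Val F) :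
    D.wordMat F (evalWord ρ w1) = D.wordMat F (evalWord ρ w2) := by
  apply mat_eq_of_mul_bmat
  intro k hk
  rw [← entsEval_unitE D ρ k, ← leftWord_sound h, ← leftWord_sound h]
  exact entEq_sound D ρ _ _ _ ((allBelow_iff _ _).mp hc k hk)

end Cfsg.Agent.H22
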