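import Cfsg.Agent.H22.ChevBasic

/-!
# Column description of the matrices `x_r(t)` (helper22)

`colRef D r k` lists the entries of the column `k` of `x_r(t) - 1` (indices encoded as natural
numbers: `h_i ↦ i`, `e_s ↦ rank + s`) as triples `(row, c, j)` standing for `c * t ^ j`.
-/

set_option autoImplicit false

namespace Cfsg.Agent.H22

open Cfsg Cfsg.Lie

variable (D : ChevalleyDatum)

/-- encoded index -/
def enc : D.Idx → ℕ
  | Sum.inl i => i.val
  | Sum.inr s => D.rank + s.val

theorem enc_lt (i : D.Idx) : enc D i < D.rank + D.nroots := by
  rcases i with i | s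
  · simp only [enc]; have := i.isLt; omega
  · simp only [enc]; have := s.isLt; omega

theorem enc_injective : Function.Injective (enc D) := by
  intro a b h
  rcases a with i | s <;> rcases b with j | u
  · simp only [enc] at h; exact congrArg Sum.inl (Fin.ext h)
  · simp only [enc] at h; have := i.isLt; omega
  · simp only [enc] at h; have := j.isLt; omega
  · simp only [enc] at h; exact congrArg Sum.inr (Fin.ext (by omega))

theorem exists_enc_eq (k : ℕ) (hk : k < D.rank + D.nroots) : ∃ i : D.Idx, enc D i = k := by
  by_cases h : k < D.rank
  · exact ⟨Sum.inl ⟨k, h⟩, rfl⟩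
  · exact ⟨Sum.inr ⟨k - D.rank, by omega⟩, by simp only [enc]; omega⟩

/-- basis vector of an encoded index (zero when out of range) -/
def bvec (F : Type*) [Field F] (k : ℕ) : D.Idx → F := fun i => if enc D i = k then 1 else 0

theorem bvec_enc (F : Type*) [Field F] (i : D.Idx) : bvec D F (enc D i) = Pi.single i 1 := by
  funext j
  simp only [bvec, Pi.single_apply]
  by_cases h : j = i
  · simp [h]
  · have : enc D j ≠ enc D i := fun h' => h (enc_injective D h')
    simp [h, this]

theorem bvec_of_not_lt (F : Type*) [Field F] (k : ℕ) (hk : ¬ k < D.rank + D.nroots) :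
    bvec D F k = 0 := by
  funext j
  have := enc_lt D j
  have h : enc D j ≠ k := by omega
  simp [bvec, h]

/-- the chain table of the root `r` as a list of lists -/
def chainList (r : ℕ) : List (ℕ × List (ℕ × ℤ)) :=
  (D.chain.getD r #[]).toList.map fun e => (e.1, e.2.toList)

/-- the column entries coming from one chain -/
def chainCol (rank : ℕ) (l : List (ℕ × ℤ)) : List (ℕ × ℤ × ℕ) :=
  l.zipIdx.map fun q => (rank + q.1.1, q.1.2, q.2 + 1)

/-- the entries `(row, c, j)` (meaning `c * t ^ j` in row `row`) of column `k` of `x_r(t) - 1` -/
def colRef (r k : ℕ) : List (ℕ × ℤ × ℕ) :=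
  if k < D.rank then [(D.rank + r, - D.cartan k r, 1)]
  else if D.rank + D.nroots ≤ k then []
  else if k = D.rank + r then []
  else if k = D.rank + D.neg r then
    ((List.range D.rank).map fun i => (i, (D.coroot.getD r #[]).getD i 0, 1)) ++ [(D.rank + r, -1, 2)]
  else
    ((chainList D r).filter fun e => e.1 = k - D.rank).flatMap fun e => chainCol D.rank e.2

theorem sum_map_range_ite {M : Type*} [AddCommMonoid M] (n i : ℕ) (hi : i < n) (f : ℕ → M) :
    ((List.range n).map fun j => if i = j then f j else 0).sum = f i := by
  induction n with
  | zero => omega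
  | succ n ih =>
    rw [List.range_succ, List.map_append, List.sum_append]
    by_cases h : i < n
    · rw [ih h]
      have : i ≠ n := by omega
      simp [this]
    · have hin : i = n := by omega
      subst hin
      have : ((List.range i).map fun j => if i = j then f j else 0).sum = 0 := by
        apply List.sum_eq_zero
        intro x hx
        rw [List.mem_map] at hx
        obtain ⟨j, hj, rfl⟩ := hx
        have : i ≠ j := by have := List.mem_range.mp hj; omega
        simp [this]
      rw [this]
      simp

theorem sum_map_range_ite_zero {M : Type*} [AddCommMonoid M] (n i : ℕ) (hi : n ≤ i) (f : ℕ → M) :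
    ((List.range n).map fun j => if i = j then f j else 0).sum = 0 := by
  apply List.sum_eq_zero
  intro x hx
  rw [List.mem_map] at hx
  obtain ⟨j, hj, rfl⟩ := hx
  have : i ≠ j := by have := List.mem_range.mp hj; omega
  simp [this]

/-- the chain part of an entry of `x_r(t)`, in terms of `chainList`/`chainCol` -/
theorem chain_sum_eq (F : Type*) [Field F] (t : F) (r s u : ℕ) :
    ((D.chainCoeff r s u).map fun km => ((km.2 : ℤ) : F) * t ^ km.1).sum =
      ((((chainList D r).filter fun e => e.1 = s).flatMap fun e => chainCol D.rank e.2).map
        fun e => if D.rank + u = e.1 then ((e.2.1 : ℤ) : F) * t ^ e.2.2 else 0).sum := by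
  unfold ChevalleyDatum.chainCoeff chainList
  generalize (D.chain.getD r #[]).toList = L
  induction L with
  | nil => simp
  | cons e L ih =>
    have inner : ∀ Z : List ((ℕ × ℤ) × ℕ),
        (((Z.filter fun q => q.1.1 = u).map fun q => (q.2 + 1, q.1.2)).map
          fun km : ℕ × ℤ => ((km.2 : ℤ) : F) * t ^ km.1).sum =
        ((Z.map fun q => (D.rank + q.1.1, q.1.2, q.2 + 1)).map
          fun e : ℕ × ℤ × ℕ => if D.rank + u = e.1 then ((e.2.1 : ℤ) : F) * t ^ e.2.2 else 0).sum := by
      intro Z
      induction Z with
      | nil => simp
      | cons q Z ihZ =>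
        by_cases hq : q.1.1 = u
        · simp only [List.filter_cons, hq, decide_true, if_true, List.map_cons, List.sum_cons]
          rw [ihZ]
        · have hq' : ¬ (D.rank + u = D.rank + q.1.1) := by omega
          simp only [List.filter_cons, hq, decide_false, List.map_cons, List.sum_cons, hq',
            if_false, zero_add]
          rw [← ihZ]
          simp
    by_cases he : e.1 = s
    · simp only [List.filter_cons, he, decide_true, if_true, List.flatMap_cons, List.map_append,
        List.sum_append, List.map_cons]
      rw [ih]
      congr 1
      exact inner _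
    · have he' : ¬ ((e.1, e.2.toList).1 = s) := he
      simp only [List.filter_cons, he, he', decide_false, List.map_cons, Bool.false_eq_true,
        if_false]
      exact ih


theorem xMat_inl_inl (F : Type*) [Field F] (r : Fin D.nroots) (t : F) (i' i : Fin D.rank) :
    D.xMat F r t (Sum.inl i') (Sum.inl i) = if i' = i then 1 else 0 := rfl

theorem xMat_inr_inl (F : Type*) [Field F] (r : Fin D.nroots) (t : F) (u : Fin D.nroots)
    (i : Fin D.rank) :
    D.xMat F r t (Sum.inr u) (Sum.inl i) =
      if u = r then - ((D.cartan i.val r.val : ℤ) : F) * t else 0 := rfl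

theorem xMat_inl_inr (F : Type*) [Field F] (r : Fin D.nroots) (t : F) (i : Fin D.rank)
    (s : Fin D.nroots) :
    D.xMat F r t (Sum.inl i) (Sum.inr s) =
      if s = r then 0
      else if s.val = D.neg r.val then (((D.coroot.getD r.val #[]).getD i.val 0 : ℤ) : F) * t
      else 0 := rfl

theorem xMat_inr_inr (F : Type*) [Field F] (r : Fin D.nroots) (t : F) (u s : Fin D.nroots) :
    D.xMat F r t (Sum.inr u) (Sum.inr s) =
      if s = r then (if u = r then 1 else 0)
      else if s.val = D.neg r.val then (if u = s then 1 else if u = r then -(t ^ 2) else 0)
      else (if u = s then 1 else 0) +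
        ((D.chainCoeff r.val s.val u.val).map fun km => ((km.2 : ℤ) : F) * t ^ km.1).sum := rfl

/-- entries of `x_r(t)` in terms of `colRef` -/
theorem xMat_apply (F : Type*) [Field F] (r : Fin D.nroots) (t : F) (row col : D.Idx) :
    D.xMat F r t row col = (if row = col then 1 else 0) +
      ((colRef D r.val (enc D col)).map
        fun e => if enc D row = e.1 then ((e.2.1 : ℤ) : F) * t ^ e.2.2 else 0).sum := by
  rcases col with i | s
  · have hi : enc D (Sum.inl i : D.Idx) < D.rank := i.isLt
    have hcol : colRef D r.val (enc D (Sum.inl i : D.Idx)) =
        [(D.rank + r.val, - D.cartan i.val r.val, 1)] := by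
      unfold colRef
      rw [if_pos hi]
      rfl
    rw [hcol]
    rcases row with i' | u
    · have h1 : enc D (Sum.inl i' : D.Idx) ≠ D.rank + r.val := by
        have := i'.isLt
        simp only [enc]; omega
      rw [xMat_inl_inl]
      simp [h1]
    · rw [xMat_inr_inl]
      by_cases hur : u = r
      · subst hur
        simp [enc]
      · have h1 : enc D (Sum.inr u : D.Idx) ≠ D.rank + r.val := by
          simp only [enc]
          intro h
          exact hur (Fin.ext (by omega))
        simp [h1, hur]
  · have hs1 : ¬ enc D (Sum.inr s : D.Idx) < D.rank := by simp only [enc]; omega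
    have hs2 : ¬ D.rank + D.nroots ≤ enc D (Sum.inr s : D.Idx) := by
      have := s.isLt
      simp only [enc]; omega
    by_cases hsr : s = r
    · subst hsr
      have hcol : colRef D s.val (enc D (Sum.inr s : D.Idx)) = [] := by
        unfold colRef
        rw [if_neg hs1, if_neg hs2, if_pos (show enc D (Sum.inr s : D.Idx) = D.rank + s.val from rfl)]
      rw [hcol]
      rcases row with i' | u
      · rw [xMat_inl_inr]; simp
      · rw [xMat_inr_inr]; simp
    · have hs3 : ¬ enc D (Sum.inr s : D.Idx) = D.rank + r.val := by
        simp only [enc]
        intro h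
        exact hsr (Fin.ext (by omega))
      by_cases hneg : s.val = D.neg r.val
      · have hs4 : enc D (Sum.inr s : D.Idx) = D.rank + D.neg r.val := by
          simp only [enc]; omega
        have hcol : colRef D r.val (enc D (Sum.inr s : D.Idx)) =
            ((List.range D.rank).map fun i => (i, (D.coroot.getD r.val #[]).getD i 0, 1)) ++
              [(D.rank + r.val, -1, 2)] := by
          unfold colRef
          rw [if_neg hs1, if_neg hs2, if_neg hs3, if_pos hs4]
        rw [hcol, List.map_append, List.sum_append, List.map_map]
        rcases row with i' | u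
        · have h1 : enc D (Sum.inl i' : D.Idx) ≠ D.rank + r.val := by
            have := i'.isLt
            simp only [enc]; omega
          have h2 := sum_map_range_ite D.rank i'.val i'.isLt
            (fun j => (((D.coroot.getD r.val #[]).getD j 0 : ℤ) : F) * t ^ 1)
          rw [xMat_inl_inr, if_neg hsr, if_pos hneg]
          have h3 : (List.map ((fun e : ℕ × ℤ × ℕ => if enc D (Sum.inl i' : D.Idx) = e.1 then
              ((e.2.1 : ℤ) : F) * t ^ e.2.2 else 0) ∘
              fun i => (i, (D.coroot.getD r.val #[]).getD i 0, 1)) (List.range D.rank)).sum =
              (((D.coroot.getD r.val #[]).getD i'.val 0 : ℤ) : F) * t ^ 1 := h2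
          rw [h3]
          simp [h1]
        · have h2 := sum_map_range_ite_zero D.rank (D.rank + u.val) (by omega)
            (fun j => (((D.coroot.getD r.val #[]).getD j 0 : ℤ) : F) * t ^ 1)
          have h3 : (List.map ((fun e : ℕ × ℤ × ℕ => if enc D (Sum.inr u : D.Idx) = e.1 then
              ((e.2.1 : ℤ) : F) * t ^ e.2.2 else 0) ∘
              fun i => (i, (D.coroot.getD r.val #[]).getD i 0, 1)) (List.range D.rank)).sum = 0 := h2
          rw [xMat_inr_inr, if_neg hsr, if_pos hneg, h3]
          by_cases hus : u = s
          · have hur : u ≠ r := fun h => hsr (hus ▸ h)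
            have h4 : ¬ (D.rank + u.val = D.rank + r.val) := by
              intro h; exact hur (Fin.ext (by omega))
            simp [hus, enc]
            intro h
            exact absurd (Fin.ext (by omega)) hsr
          · by_cases hur : u = r
            · have hrs : ¬ r = s := fun h => hsr h.symm
              simp [hus, hur, enc, hrs]
            · have h4 : ¬ (D.rank + u.val = D.rank + r.val) := by
                intro h; exact hur (Fin.ext (by omega))
              simp [hus, hur, h4, enc]
              intro h
              exact absurd (Fin.ext h) hur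
      · have hs4 : ¬ enc D (Sum.inr s : D.Idx) = D.rank + D.neg r.val := by
          simp only [enc]; omega
        have hcol : colRef D r.val (enc D (Sum.inr s : D.Idx)) =
            ((chainList D r.val).filter fun e => e.1 = s.val).flatMap
              fun e => chainCol D.rank e.2 := by
          unfold colRef
          rw [if_neg hs1, if_neg hs2, if_neg hs3, if_neg hs4]
          simp [enc]
        rw [hcol]
        rcases row with i' | u
        · have hz : ((((chainList D r.val).filter fun e => e.1 = s.val).flatMap
              fun e => chainCol D.rank e.2).map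
              fun e => if enc D (Sum.inl i' : D.Idx) = e.1 then ((e.2.1 : ℤ) : F) * t ^ e.2.2
                else 0).sum = 0 := by
            apply List.sum_eq_zero
            intro x hx
            rw [List.mem_map] at hx
            obtain ⟨e, he, rfl⟩ := hx
            rw [List.mem_flatMap] at he
            obtain ⟨e', -, he'⟩ := he
            unfold chainCol at he'
            rw [List.mem_map] at he'
            obtain ⟨q, -, rfl⟩ := he'
            have : enc D (Sum.inl i' : D.Idx) ≠ D.rank + q.1.1 := by
              have := i'.isLt
              simp only [enc]; omega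
            simp [this]
          rw [hz, xMat_inl_inr, if_neg hsr, if_neg hneg]
          simp
        · have hc := chain_sum_eq D F t r.val s.val u.val
          rw [xMat_inr_inr, if_neg hsr, if_neg hneg, hc]
          refine congrArg₂ (· + ·) ?_ rfl
          by_cases hus : u = s <;> simp [hus]


end Cfsg.Agent.H22
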