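import Cfsg.Agent.H22.ChevMask

/-!
# The table checks for the seven tabulated data (helper22)
-/

set_option autoImplicit false
set_option maxRecDepth 1000000

namespace Cfsg.Agent.H22

open Cfsg Cfsg.Lie

theorem tablesCheck_G2 : tablesCheck chevG2 = true := by decide +kernel
theorem tablesCheck_B2 : tablesCheck chevB2 = true := by decide +kernel
theorem tablesCheck_D4 : tablesCheck chevD4 = true := by decide +kernel
theorem tablesCheck_F4 : tablesCheck chevF4 = true := by decide +kernel
theorem tablesCheck_E6 : tablesCheck chevE6 = true := by decide +kernel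
theorem tablesCheck_E7 : tablesCheck chevE7 = true := by decide +kernel
theorem tablesCheck_E8 : tablesCheck chevE8 = true := by decide +kernel

theorem maskCheck_G2 : maskCheck chevG2 = true := by decide +kernel
theorem maskCheck_B2 : maskCheck chevB2 = true := by decide +kernel
theorem maskCheck_D4 : maskCheck chevD4 = true := by decide +kernel
theorem maskCheck_F4 : maskCheck chevF4 = true := by decide +kernel
theorem maskCheck_E6 : maskCheck chevE6 = true := by decide +kernel
theorem maskCheck_E7 : maskCheck chevE7 = true := by decide +kernel
theorem maskCheck_E8 : maskCheck chevE8 = true := by decide +kernel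

theorem tablesCheck_all (D : ChevalleyDatum)
    (hD : D ∈ [chevG2, chevB2, chevD4, chevF4, chevE6, chevE7, chevE8]) : tablesCheck D = true := by
  revert D
  exact forall_mem_dataList tablesCheck_G2 tablesCheck_B2 tablesCheck_D4 tablesCheck_F4
    tablesCheck_E6 tablesCheck_E7 tablesCheck_E8

theorem maskCheck_all (D : ChevalleyDatum)
    (hD : D ∈ [chevG2, chevB2, chevD4, chevF4, chevE6, chevE7, chevE8]) : maskCheck D = true := by
  revert D
  exact forall_mem_dataList maskCheck_G2 maskCheck_B2 maskCheck_D4 maskCheck_F4
    maskCheck_E6 maskCheck_E7 maskCheck_E8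

end Cfsg.Agent.H22
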