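import Mathlib

/-!
# Comparing formal sums by positional hashing (helper22)

If two lists of weighted keys have the same value `Σ w * B ^ key` and the total weight is below
`B`, then for every key the sums of the weights agree (uniqueness of base-`B` digits).  This gives
a cheap kernel-checkable criterion for the equality of two formal sums.
-/

set_option autoImplicit false

namespace Cfsg.Agent.H22

/-- `Σ w * B ^ key` -/
def hsum (B : ℕ) (T : List (ℕ × ℕ)) : ℕ := (T.map fun t => t.2 * B ^ t.1).sum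

/-- total weight -/
def wsum (T : List (ℕ × ℕ)) : ℕ := (T.map Prod.snd).sum

/-- total weight of the key `k` -/
def csum (k : ℕ) (T : List (ℕ × ℕ)) : ℕ := ((T.filter fun t => t.1 = k).map Prod.snd).sum

theorem hsum_cons (B : ℕ) (t : ℕ × ℕ) (T : List (ℕ × ℕ)) :
    hsum B (t :: T) = t.2 * B ^ t.1 + hsum B T := by simp [hsum]

theorem wsum_cons (t : ℕ × ℕ) (T : List (ℕ × ℕ)) : wsum (t :: T) = t.2 + wsum T := by
  simp [wsum]

theorem hsum_append (B : ℕ) (T U : List (ℕ × ℕ)) : hsum B (T ++ U) = hsum B T + hsum B U := by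
  simp [hsum]

theorem wsum_append (T U : List (ℕ × ℕ)) : wsum (T ++ U) = wsum T + wsum U := by
  simp [wsum]

theorem csum_append (k : ℕ) (T U : List (ℕ × ℕ)) : csum k (T ++ U) = csum k T + csum k U := by
  simp [csum]

theorem csum_cons (k : ℕ) (t : ℕ × ℕ) (T : List (ℕ × ℕ)) :
    csum k (t :: T) = (if t.1 = k then t.2 else 0) + csum k T := by
  unfold csum
  by_cases h : t.1 = k
  · simp [List.filter_cons, h]
  · simp [List.filter_cons, h]

theorem hsum_decomp (B : ℕ) (hB : 0 < B) (k : ℕ) (T : List (ℕ × ℕ)) :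
    ∃ A E : ℕ, hsum B T = A + csum k T * B ^ k + E * B ^ (k + 1) ∧ A * B ≤ wsum T * B ^ k := by
  induction T with
  | nil => exact ⟨0, 0, by simp [hsum, csum], by simp⟩
  | cons t T ih =>
    obtain ⟨A, E, h1, h2⟩ := ih
    rw [hsum_cons, csum_cons, wsum_cons, h1]
    rcases Nat.lt_trichotomy t.1 k with hlt | heq | hgt
    · refine ⟨A + t.2 * B ^ t.1, E, ?_, ?_⟩
      · have : ¬ t.1 = k := by omega
        simp only [this, if_false]
        ring
      · have h3 : B ^ (t.1 + 1) ≤ B ^ k := Nat.pow_le_pow_right hB hlt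
        calc (A + t.2 * B ^ t.1) * B = A * B + t.2 * B ^ (t.1 + 1) := by ring
          _ ≤ wsum T * B ^ k + t.2 * B ^ k := Nat.add_le_add h2 (Nat.mul_le_mul_left _ h3)
          _ = (t.2 + wsum T) * B ^ k := by ring
    · refine ⟨A, E, ?_, ?_⟩
      · simp only [heq, if_true]
        ring
      · calc A * B ≤ wsum T * B ^ k := h2
          _ ≤ (t.2 + wsum T) * B ^ k := Nat.mul_le_mul_right _ (Nat.le_add_left _ _)
    · refine ⟨A, E + t.2 * B ^ (t.1 - k - 1), ?_, ?_⟩
      · have : ¬ t.1 = k := by omega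
        simp only [this, if_false]
        have h4 : B ^ t.1 = B ^ (t.1 - k - 1) * B ^ (k + 1) := by
          rw [← pow_add]
          congr 1
          omega
        rw [h4]
        ring
      · calc A * B ≤ wsum T * B ^ k := h2
          _ ≤ (t.2 + wsum T) * B ^ k := Nat.mul_le_mul_right _ (Nat.le_add_left _ _)

theorem csum_le_wsum (k : ℕ) (T : List (ℕ × ℕ)) : csum k T ≤ wsum T := by
  induction T with
  | nil => simp [csum, wsum]
  | cons t T ih =>
    rw [csum_cons, wsum_cons]
    split_ifs <;> omega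

/-- the digit of `hsum B T` at position `k` is the total weight of the key `k` -/
theorem digit_hsum (B : ℕ) (T : List (ℕ × ℕ)) (h : wsum T < B) (k : ℕ) :
    hsum B T / B ^ k % B = csum k T := by
  have hB : 0 < B := by omega
  obtain ⟨A, E, h1, h2⟩ := hsum_decomp B hB k T
  have hA : A < B ^ k := by
    have h3 : A * B < B * B ^ k := by
      calc A * B ≤ wsum T * B ^ k := h2
        _ < B * B ^ k := Nat.mul_lt_mul_of_pos_right h (Nat.pow_pos hB)
    have h4 : A * B < B ^ k * B := by rw [Nat.mul_comm (B ^ k)]; exact h3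
    exact Nat.lt_of_mul_lt_mul_right h4
  have hc : csum k T < B := lt_of_le_of_lt (csum_le_wsum k T) h
  have h5 : hsum B T = A + (csum k T + E * B) * B ^ k := by
    rw [h1, pow_succ]; ring
  rw [h5, Nat.add_mul_div_right _ _ (Nat.pow_pos hB), Nat.div_eq_of_lt hA, zero_add,
    Nat.add_mul_mod_self_right, Nat.mod_eq_of_lt hc]

theorem csum_eq_of_hsum_eq (B : ℕ) (T U : List (ℕ × ℕ)) (hT : wsum T < B) (hU : wsum U < B)
    (h : hsum B T = hsum B U) (k : ℕ) : csum k T = csum k U := by
  rw [← digit_hsum B T hT k, ← digit_hsum B U hU k, h]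

/-! ## formal sums -/

section
variable {F : Type*} [Field F] {M : Type*} [AddCommGroup M] [Module F M]

/-- value of a list of `(key, cp, cn)` -/
def fsum (Γ : ℕ → M) (T : List (ℕ × ℕ × ℕ)) : M :=
  (T.map fun t => (((t.2.1 : ℕ) : F) - ((t.2.2 : ℕ) : F)) • Γ t.1).sum

theorem fsum_eq_finset (Γ : ℕ → M) (T : List (ℕ × ℕ × ℕ)) (S : Finset ℕ)
    (hS : ∀ t ∈ T, t.1 ∈ S) :
    fsum (F := F) Γ T = ∑ k ∈ S, (((csum k (T.map fun t => (t.1, t.2.1)) : ℕ) : F) -
      ((csum k (T.map fun t => (t.1, t.2.2)) : ℕ) : F)) • Γ k := by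
  induction T with
  | nil => simp [fsum, csum]
  | cons t T ih =>
    have hT : ∀ t' ∈ T, t'.1 ∈ S := fun t' ht' => hS t' (List.mem_cons_of_mem _ ht')
    have ht : t.1 ∈ S := hS t (List.mem_cons_self ..)
    have h1 : fsum (F := F) Γ (t :: T) =
        (((t.2.1 : ℕ) : F) - ((t.2.2 : ℕ) : F)) • Γ t.1 + fsum (F := F) Γ T := by
      simp [fsum]
    rw [h1, ih hT]
    simp only [List.map_cons, csum_cons]
    have h2 : ∀ k ∈ S, ((((if t.1 = k then t.2.1 else 0) + csum k (T.map fun t => (t.1, t.2.1)) : ℕ) : F) -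
        (((if t.1 = k then t.2.2 else 0) + csum k (T.map fun t => (t.1, t.2.2)) : ℕ) : F)) • Γ k =
        (if t.1 = k then (((t.2.1 : ℕ) : F) - ((t.2.2 : ℕ) : F)) • Γ k else 0) +
        (((csum k (T.map fun t => (t.1, t.2.1)) : ℕ) : F) -
          ((csum k (T.map fun t => (t.1, t.2.2)) : ℕ) : F)) • Γ k := by
      intro k _
      by_cases h : t.1 = k
      · simp only [h, if_true, Nat.cast_add]
        rw [← add_smul]
        congr 1
        ring
      · simp [h]
    rw [Finset.sum_congr rfl h2, Finset.sum_add_distrib, Finset.sum_ite_eq S t.1, if_pos ht]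

/-- two formal sums with the same hash (and small total weight) are equal -/
theorem fsum_eq_of_hash (Γ : ℕ → M) (B : ℕ) (L R : List (ℕ × ℕ × ℕ))
    (hw : wsum (L.map fun t => (t.1, t.2.1)) + wsum (R.map fun t => (t.1, t.2.2)) +
      (wsum (R.map fun t => (t.1, t.2.1)) + wsum (L.map fun t => (t.1, t.2.2))) < B)
    (hh : hsum B (L.map fun t => (t.1, t.2.1)) + hsum B (R.map fun t => (t.1, t.2.2)) =
      hsum B (R.map fun t => (t.1, t.2.1)) + hsum B (L.map fun t => (t.1, t.2.2))) :
    fsum (F := F) Γ L = fsum (F := F) Γ R := by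
  classical
  set S : Finset ℕ := ((L ++ R).map fun t => t.1).toFinset with hS
  have hL : ∀ t ∈ L, t.1 ∈ S := by
    intro t ht
    simp only [hS, List.mem_toFinset, List.mem_map]
    exact ⟨t, List.mem_append_left _ ht, rfl⟩
  have hR : ∀ t ∈ R, t.1 ∈ S := by
    intro t ht
    simp only [hS, List.mem_toFinset, List.mem_map]
    exact ⟨t, List.mem_append_right _ ht, rfl⟩
  rw [fsum_eq_finset Γ L S hL, fsum_eq_finset Γ R S hR]
  apply Finset.sum_congr rfl
  intro k _
  have h1 := csum_eq_of_hsum_eq B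
    ((L.map fun t => (t.1, t.2.1)) ++ (R.map fun t => (t.1, t.2.2)))
    ((R.map fun t => (t.1, t.2.1)) ++ (L.map fun t => (t.1, t.2.2)))
    (by rw [wsum_append]; omega) (by rw [wsum_append]; omega)
    (by rw [hsum_append, hsum_append]; exact hh) k
  rw [csum_append, csum_append] at h1
  congr 1
  have h2 : ((csum k (L.map fun t => (t.1, t.2.1)) : ℕ) : F) +
      ((csum k (R.map fun t => (t.1, t.2.2)) : ℕ) : F) =
      ((csum k (R.map fun t => (t.1, t.2.1)) : ℕ) : F) +
      ((csum k (L.map fun t => (t.1, t.2.2)) : ℕ) : F) := by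
    exact_mod_cast congrArg (Nat.cast (R := F)) h1
  linear_combination h2

end

end Cfsg.Agent.H22
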