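import Cfsg.Agent.H22.ChevTables
import Cfsg.Agent.H22.ChevHash

/-!
# A symbolic engine for products of root elements (helper22)

Sparse symbolic matrices are lists of entries `(row, col, monomial)`; monomials are
`(cp - cn) * X^(ap - an) * Y^(bp - bn)` with all data natural numbers (kernel arithmetic on natural
number literals is fast), `X`, `Y` two non-zero field elements.  `leftWord` multiplies such a
matrix on the left by a word in root elements; `entEq` compares two entry lists by positional
hashing.
-/

set_option autoImplicit false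

namespace Cfsg.Agent.H22

open Cfsg Cfsg.Lie

/-! ## Scalars -/

/-- the monomial `(cp - cn) * X^(ap - an) * Y^(bp - bn)` -/
structure Mono where
  cp : ℕ
  cn : ℕ
  ap : ℕ
  an : ℕ
  bp : ℕ
  bn : ℕ

/-- polynomials: lists of monomials (sum) -/
abbrev Poly := List Mono

/-- two non-zero field elements -/
structure Val (F : Type*) [Field F] where
  x : F
  y : F
  hx : x ≠ 0
  hy : y ≠ 0

variable {F : Type*} [Field F]

/-- the monomial part `X^(ap - an) * Y^(bp - bn)` -/
def Mono.mon (ρ : Val F) (m : Mono) : F :=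
  (ρ.x ^ m.ap * ρ.x⁻¹ ^ m.an) * (ρ.y ^ m.bp * ρ.y⁻¹ ^ m.bn)

def Mono.eval (ρ : Val F) (m : Mono) : F := ((m.cp : F) - (m.cn : F)) * m.mon ρ

def Mono.mul (m n : Mono) : Mono :=
  ⟨Nat.add (Nat.mul m.cp n.cp) (Nat.mul m.cn n.cn), Nat.add (Nat.mul m.cp n.cn) (Nat.mul m.cn n.cp),
    Nat.add m.ap n.ap, Nat.add m.an n.an, Nat.add m.bp n.bp, Nat.add m.bn n.bn⟩

theorem Mono.eval_mul (ρ : Val F) (m n : Mono) : (m.mul n).eval ρ = m.eval ρ * n.eval ρ := by
  simp only [Mono.eval, Mono.mon, Mono.mul, Nat.add_eq, Nat.mul_eq, Nat.cast_add, Nat.cast_mul,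
    pow_add]
  ring

def Poly.eval (ρ : Val F) (p : Poly) : F := (p.map (Mono.eval ρ)).sum

@[simp] theorem Poly.eval_nil (ρ : Val F) : Poly.eval ρ [] = 0 := rfl

@[simp] theorem Poly.eval_cons (ρ : Val F) (m : Mono) (p : Poly) :
    Poly.eval ρ (m :: p) = m.eval ρ + Poly.eval ρ p := by
  simp [Poly.eval]

theorem Poly.eval_append (ρ : Val F) (p q : Poly) :
    Poly.eval ρ (p ++ q) = Poly.eval ρ p + Poly.eval ρ q := by
  simp [Poly.eval]

def Poly.mul (p q : Poly) : Poly := p.flatMap fun m => q.map fun n => m.mul n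

theorem Poly.eval_map_mul (ρ : Val F) (m : Mono) (q : Poly) :
    Poly.eval ρ (q.map fun n => m.mul n) = m.eval ρ * Poly.eval ρ q := by
  induction q with
  | nil => simp
  | cons n q ihq =>
    simp only [List.map_cons, Poly.eval_cons, ihq, Mono.eval_mul]
    ring

theorem Poly.eval_mul (ρ : Val F) (p q : Poly) :
    Poly.eval ρ (p.mul q) = Poly.eval ρ p * Poly.eval ρ q := by
  induction p with
  | nil => simp [Poly.mul]
  | cons m p ih =>
    have h1 := Poly.eval_map_mul ρ m q
    have h2 : Poly.mul (m :: p) q = (q.map fun n => m.mul n) ++ Poly.mul p q := by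
      simp [Poly.mul]
    rw [h2, Poly.eval_append, h1, ih, Poly.eval_cons]
    ring

/-- powers of a polynomial -/
def Poly.pw (p : Poly) : ℕ → Poly
  | 0 => [⟨1, 0, 0, 0, 0, 0⟩]
  | j + 1 => (Poly.pw p j).mul p

theorem Poly.eval_pw (ρ : Val F) (p : Poly) (j : ℕ) :
    Poly.eval ρ (p.pw j) = Poly.eval ρ p ^ j := by
  induction j with
  | zero => simp [Poly.pw, Mono.eval, Mono.mon]
  | succ j ih => rw [Poly.pw, Poly.eval_mul, ih, pow_succ]

/-- the `j`-th power of `p`, with shortcuts for `j = 1, 2, 3` -/
def selPw (p : Poly) (j : ℕ) : Poly :=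
  bif Nat.beq j 1 then p else bif Nat.beq j 2 then p.mul p
  else bif Nat.beq j 3 then (p.mul p).mul p else p.pw j

theorem eval_selPw (ρ : Val F) (p : Poly) (j : ℕ) :
    Poly.eval ρ (selPw p j) = Poly.eval ρ p ^ j := by
  unfold selPw
  by_cases h1 : j = 1
  · subst h1; simp
  · rw [beq_false' h1, cond_false]
    by_cases h2 : j = 2
    · subst h2; simp [Poly.eval_mul, pow_two]
    · rw [beq_false' h2, cond_false]
      by_cases h3 : j = 3
      · subst h3; simp [Poly.eval_mul]; ring
      · rw [beq_false' h3, cond_false, Poly.eval_pw]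

/-! ## Matrices -/

variable (D : ChevalleyDatum)

/-- the matrix unit of a pair of encoded indices (zero when out of range) -/
def bmat (F : Type*) [Field F] (r c : ℕ) : Matrix D.Idx D.Idx F :=
  fun i j => if enc D i = r ∧ enc D j = c then 1 else 0

/-- the matrix with the vector `v` in the column of encoded index `b` -/
def colMat (v : D.Idx → F) (b : ℕ) : Matrix D.Idx D.Idx F :=
  fun i j => if enc D j = b then v i else 0

theorem bmat_eq_colMat (a b : ℕ) : bmat D F a b = colMat D (bvec D F a) b := by
  ext i j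
  simp only [bmat, colMat, bvec]
  by_cases h1 : enc D i = a <;> by_cases h2 : enc D j = b <;> simp [h1, h2]

theorem mul_colMat (M : Matrix D.Idx D.Idx F) (v : D.Idx → F) (b : ℕ) :
    M * colMat D v b = colMat D (M.mulVec v) b := by
  ext i j
  simp only [Matrix.mul_apply, colMat, Matrix.mulVec, dotProduct]
  by_cases h : enc D j = b
  · simp [h]
  · simp [h]

theorem colMat_add (v w : D.Idx → F) (b : ℕ) :
    colMat D (v + w) b = colMat D v b + colMat D w b := by
  ext i j
  simp only [colMat, Matrix.add_apply, Pi.add_apply]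
  split_ifs <;> simp

theorem colMat_smul (c : F) (v : D.Idx → F) (b : ℕ) :
    colMat D (c • v) b = c • colMat D v b := by
  ext i j
  simp only [colMat, Matrix.smul_apply, Pi.smul_apply]
  split_ifs <;> simp

theorem colMat_zero (b : ℕ) : colMat D (0 : D.Idx → F) b = 0 := by
  ext i j
  simp [colMat]

theorem colMat_list_sum {α : Type*} (l : List α) (f : α → D.Idx → F) (b : ℕ) :
    colMat D (l.map f).sum b = (l.map fun a => colMat D (f a) b).sum := by
  induction l with
  | nil => simp [colMat_zero]
  | cons a l ih => simp [colMat_add, ih]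

/-- an entry `m * E_{row,col}` -/
structure Ent where
  row : ℕ
  col : ℕ
  m : Mono

def Ent.eval (ρ : Val F) (e : Ent) : Matrix D.Idx D.Idx F := e.m.eval ρ • bmat D F e.row e.col

def entsEval (ρ : Val F) (L : List Ent) : Matrix D.Idx D.Idx F := (L.map (Ent.eval D ρ)).sum

@[simp] theorem entsEval_nil (ρ : Val F) : entsEval D ρ [] = 0 := rfl

@[simp] theorem entsEval_cons (ρ : Val F) (e : Ent) (L : List Ent) :
    entsEval D ρ (e :: L) = e.eval D ρ + entsEval D ρ L := by
  simp [entsEval]

theorem entsEval_append (ρ : Val F) (L L' : List Ent) :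
    entsEval D ρ (L ++ L') = entsEval D ρ L + entsEval D ρ L' := by
  simp [entsEval]

/-! ## Left multiplication by a matrix given by its columns -/

/-- the monomial with coefficient `cp - cn` -/
def Mono.const (cp cn : ℕ) : Mono := ⟨cp, cn, 0, 0, 0, 0⟩

theorem Mono.eval_const (ρ : Val F) (cp cn : ℕ) :
    (Mono.const cp cn).eval ρ = (cp : F) - (cn : F) := by
  simp [Mono.eval, Mono.mon, Mono.const]

def addMonos (row col cp cn : ℕ) (m0 : Mono) (q : Poly) (acc : List Ent) : List Ent :=
  List.rec acc (fun m _ ih => (⟨row, col, (Mono.const cp cn).mul (m.mul m0)⟩ : Ent) :: ih) q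

theorem entsEval_addMonos (ρ : Val F) (row col cp cn : ℕ) (m0 : Mono) (q : Poly)
    (acc : List Ent) :
    entsEval D ρ (addMonos row col cp cn m0 q acc) =
      ((((cp : F) - (cn : F)) * Poly.eval ρ q) * m0.eval ρ) • bmat D F row col +
        entsEval D ρ acc := by
  induction q with
  | nil => simp [addMonos]
  | cons m q ih =>
    have h1 : addMonos row col cp cn m0 (m :: q) acc =
        (⟨row, col, (Mono.const cp cn).mul (m.mul m0)⟩ : Ent) :: addMonos row col cp cn m0 q acc :=
      rfl
    rw [h1, entsEval_cons, ih, Poly.eval_cons, Ent.eval, Mono.eval_mul, Mono.eval_mul,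
      Mono.eval_const, ← add_assoc, ← add_smul]
    congr 2
    ring

def addExtras (e : Ent) (p : Poly) (xs : List (ℕ × ℕ × ℕ × ℕ)) (acc : List Ent) : List Ent :=
  List.rec acc (fun x _ ih => addMonos x.1 e.col x.2.1 x.2.2.1 e.m (selPw p x.2.2.2) ih) xs

theorem entsEval_addExtras (ρ : Val F) (e : Ent) (p : Poly) (xs : List (ℕ × ℕ × ℕ × ℕ))
    (acc : List Ent) :
    entsEval D ρ (addExtras e p xs acc) =
      (xs.map fun x => ((((x.2.1 : F) - (x.2.2.1 : F)) * Poly.eval ρ p ^ x.2.2.2) * e.m.eval ρ) •
        bmat D F x.1 e.col).sum + entsEval D ρ acc := by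
  induction xs with
  | nil => simp [addExtras]
  | cons x xs ih =>
    have h1 : addExtras e p (x :: xs) acc =
        addMonos x.1 e.col x.2.1 x.2.2.1 e.m (selPw p x.2.2.2) (addExtras e p xs acc) := rfl
    rw [h1, entsEval_addMonos, ih, eval_selPw, List.map_cons, List.sum_cons, add_assoc]

/-- left multiplication by the matrix `1 + Σ (cp - cn) p^j E_{row,k}` given by its columns -/
def leftCol (col : ℕ → List (ℕ × ℕ × ℕ × ℕ)) (p : Poly) (L : List Ent) : List Ent :=
  List.rec [] (fun e _ ih => e :: addExtras e p (col e.row) ih) L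

theorem leftCol_sound (ρ : Val F) (col : ℕ → List (ℕ × ℕ × ℕ × ℕ)) (p : Poly)
    (M : Matrix D.Idx D.Idx F)
    (hM : ∀ k, M.mulVec (bvec D F k) = bvec D F k +
      ((col k).map fun x => (((x.2.1 : F) - (x.2.2.1 : F)) * Poly.eval ρ p ^ x.2.2.2) •
        bvec D F x.1).sum)
    (L : List Ent) :
    entsEval D ρ (leftCol col p L) = M * entsEval D ρ L := by
  induction L with
  | nil => simp [leftCol]
  | cons e L ih =>
    have h1 : leftCol col p (e :: L) = e :: addExtras e p (col e.row) (leftCol col p L) := rfl
    rw [h1, entsEval_cons, entsEval_addExtras, ih, entsEval_cons, Matrix.mul_add]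
    rw [← add_assoc]
    congr 1
    rw [Ent.eval, Matrix.mul_smul, bmat_eq_colMat, mul_colMat, hM, colMat_add, smul_add,
      colMat_list_sum, List.smul_sum, List.map_map]
    congr 2
    apply List.map_congr_left
    intro x _
    simp only [Function.comp, colMat_smul, bmat_eq_colMat, smul_smul]
    congr 1
    ring

/-! ## Words -/

/-- the fast column function with natural number data: `(row, cp, cn, j)` -/
def decodeSlotN (rank v : ℕ) : List (ℕ × ℕ × ℕ × ℕ) :=
  bif Nat.beq (Nat.land v 2047) 0 then [] else
  (Nat.add rank (Nat.land (Nat.land v 2047) 255),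
    Nat.sub (Nat.shiftRight (Nat.land v 2047) 8) 4, Nat.sub 4 (Nat.shiftRight (Nat.land v 2047) 8),
    1) ::
    (bif Nat.beq (Nat.land (Nat.shiftRight v 11) 2047) 0 then [] else
    (Nat.add rank (Nat.land (Nat.land (Nat.shiftRight v 11) 2047) 255),
      Nat.sub (Nat.shiftRight (Nat.land (Nat.shiftRight v 11) 2047) 8) 4,
      Nat.sub 4 (Nat.shiftRight (Nat.land (Nat.shiftRight v 11) 2047) 8), 2) ::
      (bif Nat.beq (Nat.land (Nat.shiftRight v 22) 2047) 0 then [] else
      [(Nat.add rank (Nat.land (Nat.land (Nat.shiftRight v 22) 2047) 255),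
        Nat.sub (Nat.shiftRight (Nat.land (Nat.shiftRight v 22) 2047) 8) 4,
        Nat.sub 4 (Nat.shiftRight (Nat.land (Nat.shiftRight v 22) 2047) 8), 3)]))

/-- Cartan integer plus 128 -/
def cartanN (i s : ℕ) : ℕ :=
  Nat.land (Nat.shiftRight (cartanPack D) (Nat.mul 8 (Nat.add (Nat.mul i D.nroots) s))) 255

/-- coroot coefficient plus 128 -/
def corootN (r i : ℕ) : ℕ :=
  Nat.land (Nat.shiftRight (corootPack D) (Nat.mul 8 (Nat.add (Nat.mul r D.rank) i))) 255

def colN (r k : ℕ) : List (ℕ × ℕ × ℕ × ℕ) :=
  bif Nat.blt k D.rank then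
    [(Nat.add D.rank r, Nat.sub 128 (cartanN D k r), Nat.sub (cartanN D k r) 128, 1)]
  else bif Nat.ble (Nat.add D.rank D.nroots) k then []
  else bif Nat.beq k (Nat.add D.rank r) then []
  else bif Nat.beq k (Nat.add D.rank (Nat.sub (Nat.sub D.nroots 1) r)) then
    ((List.range D.rank).map fun i =>
      (i, Nat.sub (corootN D r i) 128, Nat.sub 128 (corootN D r i), 1)) ++
      [(Nat.add D.rank r, 0, 1, 2)]
  else decodeSlotN D.rank (slotF D r (Nat.sub k D.rank))

/-- conversion of an entry with natural number data to the integer form -/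
def toZ (x : ℕ × ℕ × ℕ × ℕ) : ℕ × ℤ × ℕ := (x.1, (x.2.1 : ℤ) - (x.2.2.1 : ℤ), x.2.2.2)

theorem decodeSlotN_map (rank v : ℕ) :
    (decodeSlotN rank v).map toZ = chainCol rank (decodeSlot v) := by
  unfold decodeSlotN decodeSlot chainCol toZ
  simp only [Nat.land_eq, Nat.shiftRight_eq, Nat.add_eq, Nat.sub_eq]
  cases h1 : Nat.beq (v &&& 2047) 0 with
  | true => simp
  | false =>
    cases h2 : Nat.beq (v >>> 11 &&& 2047) 0 with
    | true =>
      simp only [cond_false, cond_true, List.map_cons, List.map_nil, List.zipIdx_cons,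
        List.zipIdx_nil]
      refine congrArg₂ _ (Prod.ext rfl (Prod.ext ?_ rfl)) rfl
      simp only
      omega
    | false =>
      cases h3 : Nat.beq (v >>> 22 &&& 2047) 0 with
      | true =>
        simp only [cond_false, cond_true, List.map_cons, List.map_nil, List.zipIdx_cons,
          List.zipIdx_nil]
        refine congrArg₂ _ (Prod.ext rfl (Prod.ext ?_ rfl))
          (congrArg₂ _ (Prod.ext rfl (Prod.ext ?_ rfl)) rfl)
        · simp only; omega
        · simp only; omega
      | false =>
        simp only [cond_false, List.map_cons, List.map_nil, List.zipIdx_cons,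
          List.zipIdx_nil]
        refine congrArg₂ _ (Prod.ext rfl (Prod.ext ?_ rfl))
          (congrArg₂ _ (Prod.ext rfl (Prod.ext ?_ rfl))
            (congrArg₂ _ (Prod.ext rfl (Prod.ext ?_ rfl)) rfl))
        · simp only; omega
        · simp only; omega
        · simp only; omega

theorem colN_map (r k : ℕ) : (colN D r k).map toZ = colFast D r k := by
  unfold colN colFast
  simp only [Nat.add_eq, Nat.sub_eq]
  cases h1 : Nat.blt k D.rank with
  | true =>
    simp only [cond_true, List.map_cons, List.map_nil, toZ, cartanF, cartanN, Nat.land_eq,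
      Nat.shiftRight_eq, Nat.add_eq, Nat.mul_eq]
    refine congrArg₂ _ (Prod.ext rfl (Prod.ext ?_ rfl)) rfl
    simp only
    omega
  | false =>
    simp only [cond_false]
    cases h2 : Nat.ble (D.rank + D.nroots) k with
    | true => simp
    | false =>
      simp only [cond_false]
      cases h3 : Nat.beq k (D.rank + r) with
      | true => simp
      | false =>
        simp only [cond_false]
        cases h4 : Nat.beq k (D.rank + (D.nroots - 1 - r)) with
        | true =>
          simp only [cond_true, List.map_append, List.map_map, List.map_cons, List.map_nil]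
          refine congrArg₂ (· ++ ·) ?_ ?_
          · apply List.map_congr_left
            intro i _
            simp only [Function.comp, toZ, corootF, corootN, Nat.land_eq, Nat.shiftRight_eq,
              Nat.add_eq, Nat.mul_eq]
            refine Prod.ext rfl (Prod.ext ?_ rfl)
            simp only
            omega
          · refine congrArg₂ _ (Prod.ext rfl (Prod.ext ?_ rfl)) rfl
            show ((0 : ℕ) : ℤ) - ((1 : ℕ) : ℤ) = -1
            omega
        | false =>
          simp only [cond_false]
          exact decodeSlotN_map _ _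

/-- left multiplication by `x_r(p)` -/
def leftX (r : ℕ) (p : Poly) (L : List Ent) : List Ent :=
  bif Nat.blt r D.nroots then leftCol (colN D r) p L else L

/-- left multiplication by a word -/
def leftWord (w : List (ℕ × Poly)) (L : List Ent) : List Ent :=
  List.rec L (fun l _ ih => leftX D l.1 l.2 ih) w

/-- the value of a symbolic word -/
def evalWord (ρ : Val F) (w : List (ℕ × Poly)) : List (ℕ × F) :=
  w.map fun l => (l.1, Poly.eval ρ l.2)

variable {D}

theorem leftX_sound (h : tablesCheck D = true) (ρ : Val F) (r : ℕ) (p : Poly) (L : List Ent) :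
    entsEval D ρ (leftX D r p L) = D.x F r (Poly.eval ρ p) * entsEval D ρ L := by
  unfold leftX
  by_cases hr : r < D.nroots
  · rw [blt_true' hr, cond_true, x_eq_xMat D F r hr]
    apply leftCol_sound
    intro k
    rw [xMat_mulVec_bvec, ← colFast_eq h r hr, ← colN_map, List.map_map]
    congr 2
    apply List.map_congr_left
    intro x _
    simp [toZ]
  · rw [blt_false' hr, cond_false, x_eq_one_of_not_lt D F r hr, Matrix.one_mul]

theorem leftWord_sound (h : tablesCheck D = true) (ρ : Val F) (w : List (ℕ × Poly))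
    (L : List Ent) :
    entsEval D ρ (leftWord D w L) = D.wordMat F (evalWord ρ w) * entsEval D ρ L := by
  induction w with
  | nil => simp [leftWord, evalWord, ChevalleyDatum.wordMat]
  | cons l w ih =>
    have h1 : leftWord D (l :: w) L = leftX D l.1 l.2 (leftWord D w L) := rfl
    have h2 : D.wordMat F (evalWord ρ (l :: w)) =
        D.x F l.1 (Poly.eval ρ l.2) * D.wordMat F (evalWord ρ w) := by
      simp [ChevalleyDatum.wordMat, evalWord]
    rw [h1, h2, leftX_sound h, ih, Matrix.mul_assoc]

end Cfsg.Agent.H22
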