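import Cfsg.Agent.H22.ChevNorm

/-!
# The elements `h_r(c)` are diagonal (helper22): generic part

`h_r(c) = diag(1, …, 1, c^⟨s, r∨⟩)` with `⟨s, r∨⟩ = Σ_i coroot(r, i) A(i, s)`.
-/

set_option autoImplicit false

namespace Cfsg.Agent.H22

open Cfsg Cfsg.Lie

variable (D : ChevalleyDatum)

/-- positive part of `Σ_{i < n} coroot(r, i) A(i, s)` -/
def pairPn (r s n : ℕ) : ℕ :=
  Nat.rec 0 (fun i ih => Nat.add (Nat.add
    (Nat.mul (Nat.sub (corootN D r i) 128) (Nat.sub (cartanN D i s) 128))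
    (Nat.mul (Nat.sub 128 (corootN D r i)) (Nat.sub 128 (cartanN D i s)))) ih) n

/-- negative part of `Σ_{i < n} coroot(r, i) A(i, s)` -/
def pairNn (r s n : ℕ) : ℕ :=
  Nat.rec 0 (fun i ih => Nat.add (Nat.add
    (Nat.mul (Nat.sub (corootN D r i) 128) (Nat.sub 128 (cartanN D i s)))
    (Nat.mul (Nat.sub 128 (corootN D r i)) (Nat.sub (cartanN D i s) 128))) ih) n

def pairP (r s : ℕ) : ℕ := pairPn D r s D.rank

def pairN (r s : ℕ) : ℕ := pairNn D r s D.rank

/-- the integer `⟨s, r∨⟩ = Σ_i coroot(r, i) A(i, s)` -/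
def pairZ (r s : ℕ) : ℤ := (pairP D r s : ℤ) - (pairN D r s : ℤ)

theorem corootF_eq_N (r i : ℕ) : corootF D r i = (corootN D r i : ℤ) - 128 := rfl

theorem cartanF_eq_N (i s : ℕ) : cartanF D i s = (cartanN D i s : ℤ) - 128 := rfl

theorem pair_key (a b : ℕ) :
    (((a - 128) * (b - 128) + (128 - a) * (128 - b) : ℕ) : ℤ) -
      (((a - 128) * (128 - b) + (128 - a) * (b - 128) : ℕ) : ℤ) =
      ((a : ℤ) - 128) * ((b : ℤ) - 128) := by
  have h1 : ((a - 128 : ℕ) : ℤ) - ((128 - a : ℕ) : ℤ) = (a : ℤ) - 128 := by omega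
  have h2 : ((b - 128 : ℕ) : ℤ) - ((128 - b : ℕ) : ℤ) = (b : ℤ) - 128 := by omega
  rw [← h1, ← h2]
  push_cast
  ring

theorem pairn_eq (r s n : ℕ) :
    (pairPn D r s n : ℤ) - (pairNn D r s n : ℤ) =
      ((List.range n).map fun i => corootF D r i * cartanF D i s).sum := by
  induction n with
  | zero => simp [pairPn, pairNn]
  | succ n ih =>
    have h1 : pairPn D r s (n + 1) = ((corootN D r n - 128) * (cartanN D n s - 128) +
        (128 - corootN D r n) * (128 - cartanN D n s)) + pairPn D r s n := rfl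
    have h2 : pairNn D r s (n + 1) = ((corootN D r n - 128) * (128 - cartanN D n s) +
        (128 - corootN D r n) * (cartanN D n s - 128)) + pairNn D r s n := rfl
    rw [List.range_succ, List.map_append, List.sum_append, ← ih, h1, h2, List.map_cons,
      List.map_nil, List.sum_cons, List.sum_nil, add_zero, corootF_eq_N, cartanF_eq_N,
      ← pair_key]
    push_cast
    ring

theorem pairZ_eq (r s : ℕ) :
    pairZ D r s = ((List.range D.rank).map fun i => corootF D r i * cartanF D i s).sum :=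
  pairn_eq D r s D.rank

/-- the diagonal entries of `h_r(X)` -/
def hDiag (r k : ℕ) : Mono :=
  bif Nat.blt k D.rank then Mono.one
  else ⟨1, 0, pairP D r (Nat.sub k D.rank), pairN D r (Nat.sub k D.rank), 0, 0⟩

/-- the word of `h_r(X)` -/
def hW (r : ℕ) : List (ℕ × Poly) :=
  [(r, [⟨1, 0, 1, 0, 0, 0⟩]), (Nat.sub (Nat.sub D.nroots 1) r, [⟨0, 1, 0, 1, 0, 0⟩]),
    (r, [⟨1, 0, 1, 0, 0, 0⟩]), (r, [⟨0, 1, 0, 0, 0, 0⟩]),
    (Nat.sub (Nat.sub D.nroots 1) r, [⟨1, 0, 0, 0, 0, 0⟩]), (r, [⟨0, 1, 0, 0, 0, 0⟩])]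

/-- the check that `h_r(X)` is diagonal for the roots `lo ≤ r < lo + n` -/
def hChk (lo n : ℕ) : Bool :=
  allBelow n fun i => diagCheck D 8 4 (hW D (Nat.add lo i)) (hDiag D (Nat.add lo i))

theorem hChk_spec (lo n : ℕ) (h : hChk D lo n = true) (r : ℕ) (h1 : lo ≤ r) (h2 : r < lo + n) :
    diagCheck D 8 4 (hW D r) (hDiag D r) = true := by
  have h3 := (allBelow_iff _ _).mp h (r - lo) (by omega)
  have h4 : Nat.add lo (r - lo) = r := by
    show lo + (r - lo) = r
    omega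
  rw [h4] at h3
  exact h3

variable {D} {F : Type*} [Field F]

theorem hMat_eq_diagonal_of_check (h : tablesCheck D = true) (hm : maskCheck D = true) (r : ℕ)
    (hr : r < D.nroots) (hc : diagCheck D 8 4 (hW D r) (hDiag D r) = true) (c : F) (hc0 : c ≠ 0) :
    D.hMat F r c = Matrix.diagonal
      (Sum.elim (fun _ => (1 : F)) (fun s : Fin D.nroots => c ^ pairZ D r s)) := by
  have hw : D.hWord r c = evalWord (⟨c, 1, hc0, one_ne_zero⟩ : Val F) (hW D r) := by
    simp [ChevalleyDatum.hWord, ChevalleyDatum.nWord, evalWord, hW, Poly.eval, Mono.eval,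
      Mono.mon, neg_eq h r hr]
  rw [ChevalleyDatum.hMat, hw, wordMat_eq_diagonal h hm 8 4 (hW D r) (hDiag D r) hc]
  congr 1
  funext j
  rcases j with a | s
  · have h1 : Nat.blt (enc D (Sum.inl a)) D.rank = true := blt_true' a.isLt
    simp [hDiag, h1, Mono.one, Mono.eval, Mono.mon]
  · have h1 : enc D (Sum.inr s) = D.rank + s.val := rfl
    have h2 : Nat.blt (enc D (Sum.inr s)) D.rank = false := blt_false' (by rw [h1]; omega)
    have h3 : Nat.sub (enc D (Sum.inr s)) D.rank = s.val := by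
      rw [h1]; exact Nat.add_sub_cancel_left ..
    simp only [hDiag, h2, cond_false, h3, Sum.elim_inr, Mono.eval, Mono.mon]
    rw [pairZ, zpow_sub₀ hc0, zpow_natCast, zpow_natCast]
    simp [div_eq_mul_inv]

end Cfsg.Agent.H22
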