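import Cfsg.Agent.H22.ChevH

/-!
# The elements `h_r(c)` are diagonal (helper22): kernel computations, part b
-/

set_option autoImplicit false
set_option maxRecDepth 1000000

namespace Cfsg.Agent.H22

open Cfsg Cfsg.Lie

theorem hChk_E7a : hChk chevE7 0 42 = true := by decide +kernel
theorem hChk_E7b : hChk chevE7 42 42 = true := by decide +kernel
theorem hChk_E7c : hChk chevE7 84 42 = true := by decide +kernel

end Cfsg.Agent.H22
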