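import Cfsg.Agent.H22.ChevH

/-!
# The elements `h_r(c)` are diagonal (helper22): kernel computations, part c
-/

set_option autoImplicit false
set_option maxRecDepth 1000000

namespace Cfsg.Agent.H22

open Cfsg Cfsg.Lie

theorem hChk_E8_0 : hChk chevE8 0 20 = true := by decide +kernel
theorem hChk_E8_1 : hChk chevE8 20 20 = true := by decide +kernel
theorem hChk_E8_2 : hChk chevE8 40 20 = true := by decide +kernel

end Cfsg.Agent.H22
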