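import Cfsg.Agent.H22.ChevWt

/-!
# Compatibility of the Cartan tables and the fundamental roots (helper22): kernel computations
-/

set_option autoImplicit false
set_option maxRecDepth 1000000

namespace Cfsg.Agent.H22

open Cfsg Cfsg.Lie

theorem compatChk_G2 : compatChk chevG2 = true := by decide +kernel
theorem compatChk_B2 : compatChk chevB2 = true := by decide +kernel
theorem compatChk_D4 : compatChk chevD4 = true := by decide +kernel
theorem compatChk_F4 : compatChk chevF4 = true := by decide +kernel
theorem compatChk_E6 : compatChk chevE6 = true := by decide +kernel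
theorem compatChk_E7 : compatChk chevE7 = true := by decide +kernel
theorem compatChk_E8 : compatChk chevE8 = true := by decide +kernel

theorem compatChk_all (D : ChevalleyDatum)
    (hD : D ∈ [chevG2, chevB2, chevD4, chevF4, chevE6, chevE7, chevE8]) :
    compatChk D = true := by
  simp only [List.mem_cons, List.not_mem_nil, or_false] at hD
  rcases hD with rfl | rfl | rfl | rfl | rfl | rfl | rfl
  exacts [compatChk_G2, compatChk_B2, compatChk_D4, compatChk_F4, compatChk_E6, compatChk_E7,
    compatChk_E8]

/-- the index of the `i`-th fundamental root, computed from the literal array -/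
def simpleN (D : ChevalleyDatum) (i : ℕ) : ℕ := D.simpleIdx.toList.getD i 0

theorem simpleN_eq (D : ChevalleyDatum) (i : ℕ) : simpleN D i = D.simple i := by
  unfold simpleN ChevalleyDatum.simple
  simp

/-- check: the fundamental roots are in range and `⟨s, p_i∨⟩ = A(i, s)` -/
def simpleChk (D : ChevalleyDatum) : Bool :=
  allBelow D.rank fun i => Nat.blt (simpleN D i) D.nroots && allBelow D.nroots fun s =>
    Nat.beq (Nat.add (pairP D (simpleN D i) s) 128)
      (Nat.add (pairN D (simpleN D i) s) (cartanN D i s))

theorem simpleChk_G2 : simpleChk chevG2 = true := by decide +kernel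
theorem simpleChk_B2 : simpleChk chevB2 = true := by decide +kernel
theorem simpleChk_D4 : simpleChk chevD4 = true := by decide +kernel
theorem simpleChk_F4 : simpleChk chevF4 = true := by decide +kernel
theorem simpleChk_E6 : simpleChk chevE6 = true := by decide +kernel
theorem simpleChk_E7 : simpleChk chevE7 = true := by decide +kernel
theorem simpleChk_E8 : simpleChk chevE8 = true := by decide +kernel

theorem simpleChk_all (D : ChevalleyDatum)
    (hD : D ∈ [chevG2, chevB2, chevD4, chevF4, chevE6, chevE7, chevE8]) :
    simpleChk D = true := by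
  simp only [List.mem_cons, List.not_mem_nil, or_false] at hD
  rcases hD with rfl | rfl | rfl | rfl | rfl | rfl | rfl
  exacts [simpleChk_G2, simpleChk_B2, simpleChk_D4, simpleChk_F4, simpleChk_E6, simpleChk_E7,
    simpleChk_E8]

theorem simple_lt (D : ChevalleyDatum)
    (hD : D ∈ [chevG2, chevB2, chevD4, chevF4, chevE6, chevE7, chevE8]) (i : ℕ)
    (hi : i < D.rank) : D.simple i < D.nroots := by
  have h1 := (allBelow_iff _ _).mp (simpleChk_all D hD) i hi
  rw [Bool.and_eq_true] at h1
  have h2 := h1.1
  rw [simpleN_eq] at h2
  simpa [Nat.blt] using h2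

theorem pairZ_simple (D : ChevalleyDatum)
    (hD : D ∈ [chevG2, chevB2, chevD4, chevF4, chevE6, chevE7, chevE8]) (i s : ℕ)
    (hi : i < D.rank) (hs : s < D.nroots) : pairZ D (D.simple i) s = D.cartan i s := by
  have h1 := (allBelow_iff _ _).mp (simpleChk_all D hD) i hi
  rw [Bool.and_eq_true] at h1
  have h2 := (allBelow_iff _ _).mp h1.2 s hs
  rw [simpleN_eq] at h2
  have h3 : pairP D (D.simple i) s + 128 = pairN D (D.simple i) s + cartanN D i s :=
    Nat.eq_of_beq_eq_true h2
  rw [← cartanF_eq (tablesCheck_all D hD) i s hi hs, cartanF_eq_N, pairZ]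
  omega

end Cfsg.Agent.H22
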