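import Cfsg.Agent.H22.ChevHa
import Cfsg.Agent.H22.ChevHb
import Cfsg.Agent.H22.ChevHc
import Cfsg.Agent.H22.ChevHd
import Cfsg.Agent.H22.ChevHe
import Cfsg.Agent.H22.ChevHf
import Cfsg.Agent.H22.ChevWtData

/-!
# The elements `h_r(c)` are diagonal and conjugate root elements to root elements (helper22)
-/

set_option autoImplicit false

namespace Cfsg.Agent.H22

open Cfsg Cfsg.Lie

theorem hChk_all (D : ChevalleyDatum)
    (hD : D ∈ [chevG2, chevB2, chevD4, chevF4, chevE6, chevE7, chevE8]) (r : ℕ)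
    (hr : r < D.nroots) : diagCheck D 8 4 (hW D r) (hDiag D r) = true := by
  simp only [List.mem_cons, List.not_mem_nil, or_false] at hD
  rcases hD with rfl | rfl | rfl | rfl | rfl | rfl | rfl
  · exact hChk_spec _ 0 12 hChk_G2 r (by omega) hr
  · exact hChk_spec _ 0 8 hChk_B2 r (by omega) hr
  · exact hChk_spec _ 0 24 hChk_D4 r (by omega) hr
  · exact hChk_spec _ 0 48 hChk_F4 r (by omega) hr
  · have hr' : r < 72 := hr
    by_cases h1 : r < 36
    · exact hChk_spec _ 0 36 hChk_E6a r (by omega) (by omega)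
    · exact hChk_spec _ 36 36 hChk_E6b r (by omega) (by omega)
  · have hr' : r < 126 := hr
    by_cases h1 : r < 42
    · exact hChk_spec _ 0 42 hChk_E7a r (by omega) (by omega)
    by_cases h2 : r < 84
    · exact hChk_spec _ 42 42 hChk_E7b r (by omega) (by omega)
    · exact hChk_spec _ 84 42 hChk_E7c r (by omega) (by omega)
  · have hr' : r < 240 := hr
    by_cases h0 : r < 20
    · exact hChk_spec _ 0 20 hChk_E8_0 r (by omega) (by omega)
    by_cases h1 : r < 40
    · exact hChk_spec _ 20 20 hChk_E8_1 r (by omega) (by omega)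
    by_cases h2 : r < 60
    · exact hChk_spec _ 40 20 hChk_E8_2 r (by omega) (by omega)
    by_cases h3 : r < 80
    · exact hChk_spec _ 60 20 hChk_E8_3 r (by omega) (by omega)
    by_cases h4 : r < 100
    · exact hChk_spec _ 80 20 hChk_E8_4 r (by omega) (by omega)
    by_cases h5 : r < 120
    · exact hChk_spec _ 100 20 hChk_E8_5 r (by omega) (by omega)
    by_cases h6 : r < 140
    · exact hChk_spec _ 120 20 hChk_E8_6 r (by omega) (by omega)
    by_cases h7 : r < 160
    · exact hChk_spec _ 140 20 hChk_E8_7 r (by omega) (by omega)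
    by_cases h8 : r < 180
    · exact hChk_spec _ 160 20 hChk_E8_8 r (by omega) (by omega)
    by_cases h9 : r < 200
    · exact hChk_spec _ 180 20 hChk_E8_9 r (by omega) (by omega)
    by_cases h10 : r < 220
    · exact hChk_spec _ 200 20 hChk_E8_10 r (by omega) (by omega)
    · exact hChk_spec _ 220 20 hChk_E8_11 r (by omega) (by omega)

variable {F : Type*} [Field F]

/-- `h_r(c)` is the diagonal matrix `diag(1, …, 1, c^⟨s, r∨⟩)` -/
theorem hMat_eq_diagonal (D : ChevalleyDatum)
    (hD : D ∈ [chevG2, chevB2, chevD4, chevF4, chevE6, chevE7, chevE8]) (r : ℕ)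
    (hr : r < D.nroots) (c : F) (hc : c ≠ 0) :
    D.hMat F r c = Matrix.diagonal
      (Sum.elim (fun _ => (1 : F)) (fun s : Fin D.nroots => c ^ pairZ D r s)) :=
  hMat_eq_diagonal_of_check (tablesCheck_all D hD) (maskCheck_all D hD) r hr (hChk_all D hD r hr)
    c hc

/-- `h_r(c) x_s(t) = x_s(c^⟨s, r∨⟩ t) h_r(c)` -/
theorem hMat_mul_x (D : ChevalleyDatum)
    (hD : D ∈ [chevG2, chevB2, chevD4, chevF4, chevE6, chevE7, chevE8]) (r s : ℕ)
    (hr : r < D.nroots) (hs : s < D.nroots) (c : F) (hc : c ≠ 0) (t : F) :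
    D.hMat F r c * D.x F s t = D.x F s (c ^ pairZ D r s * t) * D.hMat F r c := by
  rw [hMat_eq_diagonal D hD r hr c hc, hDiag_eq_wt]
  exact diagonal_mul_x (pairZ D r)
    (compat_pairZ (tablesCheck_all D hD) (maskCheck_all D hD) (compatChk_all D hD) r) c hc s hs t

end Cfsg.Agent.H22
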