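import Cfsg.Agent.H22.ChevH

/-!
# The elements `h_r(c)` are diagonal (helper22): kernel computations, part a
-/

set_option autoImplicit false
set_option maxRecDepth 1000000

namespace Cfsg.Agent.H22

open Cfsg Cfsg.Lie

theorem hChk_G2 : hChk chevG2 0 12 = true := by decide +kernel
theorem hChk_B2 : hChk chevB2 0 8 = true := by decide +kernel
theorem hChk_D4 : hChk chevD4 0 24 = true := by decide +kernel
theorem hChk_F4 : hChk chevF4 0 48 = true := by decide +kernel
theorem hChk_E6a : hChk chevE6 0 36 = true := by decide +kernel
theorem hChk_E6b : hChk chevE6 36 36 = true := by decide +kernel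

end Cfsg.Agent.H22
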