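import Cfsg.Agent.H22.ChevCmp

/-!
# Skipping the columns on which a word acts trivially (helper22)
-/

set_option autoImplicit false

namespace Cfsg.Agent.H22

open Cfsg Cfsg.Lie

variable (D : ChevalleyDatum)

/-- for every root `r`, a block of `rank + nroots` bits marking the columns on which `x_r(t)` may
act non-trivially: all `h_i`, `e_{-r}` and the sources of the chains of `r` -/
def maskPack : ℕ :=
  pickLit D maskLitG2 maskLitB2 maskLitD4 maskLitF4 maskLitE6 maskLitE7 maskLitE8 0

/-- the block of the root `r` -/
def rootMask (r : ℕ) : ℕ :=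
  bif Nat.blt r D.nroots then
    Nat.land (Nat.shiftRight (maskPack D) (Nat.mul (Nat.add D.rank D.nroots) r))
      (Nat.sub (Nat.pow 2 (Nat.add D.rank D.nroots)) 1)
  else 0

/-- the union of the blocks of the letters of a word -/
def wordMask (w : List (ℕ × Poly)) : ℕ :=
  List.rec 0 (fun l _ ih => Nat.lor (rootMask D l.1) ih) w

/-- the bit `k` of `m` is clear -/
def clearW (m k : ℕ) : Bool := Nat.beq (Nat.land (Nat.shiftRight m k) 1) 0

theorem clearW_eq (m k : ℕ) : clearW m k = !m.testBit k := by
  unfold clearW
  rw [Nat.testBit]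
  show Nat.beq ((m >>> k) &&& 1) 0 = !(1 &&& m >>> k != 0)
  rw [Nat.and_comm]
  cases h : (1 &&& m >>> k) with
  | zero => rfl
  | succ n => rfl

theorem clearW_lor (m m' k : ℕ) (h : clearW (Nat.lor m m') k = true) :
    clearW m k = true ∧ clearW m' k = true := by
  rw [clearW_eq] at h ⊢
  rw [clearW_eq]
  have : (m ||| m').testBit k = (m.testBit k || m'.testBit k) := Nat.testBit_lor m m' k
  have h' : (m ||| m').testBit k = false := by simpa using h
  rw [this] at h'
  simp only [Bool.or_eq_false_iff] at h'
  simp [h'.1, h'.2]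

theorem clearW_wordMask (w : List (ℕ × Poly)) (k : ℕ) (h : clearW (wordMask D w) k = true) :
    ∀ l ∈ w, clearW (rootMask D l.1) k = true := by
  induction w with
  | nil => simp
  | cons l w ih =>
    have h1 : wordMask D (l :: w) = Nat.lor (rootMask D l.1) (wordMask D w) := rfl
    rw [h1] at h
    obtain ⟨h2, h3⟩ := clearW_lor _ _ _ h
    intro l' hl'
    rcases List.mem_cons.mp hl' with rfl | h4
    · exact h2
    · exact ih h3 l' h4

/-- the check that clear bits mark trivial columns -/
def maskCheck : Bool :=
  allBelow D.nroots fun r => allBelow (D.rank + D.nroots) fun k =>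
    bif clearW (rootMask D r) k then (colN D r k).isEmpty else true

variable {D}

theorem colN_nil_of_clear (h : maskCheck D = true) (r : ℕ) (hr : r < D.nroots) (k : ℕ)
    (hk : clearW (rootMask D r) k = true) : colN D r k = [] := by
  by_cases hk' : k < D.rank + D.nroots
  · have h1 := (allBelow_iff _ _).mp ((allBelow_iff _ _).mp h r hr) k hk'
    rw [hk, cond_true] at h1
    exact List.isEmpty_iff.mp h1
  · unfold colN
    have h1 : ¬ k < D.rank := by omega
    have h2 : D.rank + D.nroots ≤ k := by omega
    rw [blt_false' h1, cond_false]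
    have h3 : Nat.ble (Nat.add D.rank D.nroots) k = true := ble_true' h2
    rw [h3, cond_true]

theorem leftX_unit_of_nil (r : ℕ) (p : Poly) (e : Ent)
    (h : r < D.nroots → colN D r e.row = []) : leftX D r p [e] = [e] := by
  unfold leftX
  by_cases hr : r < D.nroots
  · rw [blt_true' hr, cond_true]
    have h1 : leftCol (colN D r) p [e] = e :: addExtras e p (colN D r e.row) [] := rfl
    rw [h1, h hr]
    rfl
  · rw [blt_false' hr, cond_false]

theorem leftWord_unit_of_clear (h : maskCheck D = true) (w : List (ℕ × Poly)) (k : ℕ)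
    (hk : clearW (wordMask D w) k = true) : leftWord D w [unitE k] = [unitE k] := by
  have hall := clearW_wordMask D w k hk
  clear hk
  induction w with
  | nil => rfl
  | cons l w ih =>
    have h1 : leftWord D (l :: w) [unitE k] = leftX D l.1 l.2 (leftWord D w [unitE k]) := rfl
    rw [h1, ih (fun l' hl' => hall l' (List.mem_cons_of_mem _ hl'))]
    apply leftX_unit_of_nil
    intro hr
    exact colN_nil_of_clear h l.1 hr k (hall l (List.mem_cons_self ..))

variable (D)

/-- column-wise check of an identity between two words, skipping the columns on which both words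
act trivially -/
def wordEqCheck2 (A OA A2 OB : ℕ) (w1 w2 : List (ℕ × Poly)) : Bool :=
  allBelow (D.rank + D.nroots) fun k =>
    bif clearW (Nat.lor (wordMask D w1) (wordMask D w2)) k then true
    else entEq ⟨A, OA, A2, OB, k⟩ (leftWord D w1 [unitE k]) (leftWord D w2 [unitE k])

variable {D} {F : Type*} [Field F]

theorem wordMat_eq_of_check2 (h : tablesCheck D = true) (hm : maskCheck D = true)
    (A OA A2 OB : ℕ) (w1 w2 : List (ℕ × Poly)) (hc : wordEqCheck2 D A OA A2 OB w1 w2 = true)
    (ρ : Val F) :
    D.wordMat F (evalWord ρ w1) = D.wordMat F (evalWord ρ w2) := by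
  apply mat_eq_of_mul_bmat
  intro k hk
  rw [← entsEval_unitE D ρ k, ← leftWord_sound h, ← leftWord_sound h]
  have h1 := (allBelow_iff _ _).mp hc k hk
  by_cases hcl : clearW (Nat.lor (wordMask D w1) (wordMask D w2)) k = true
  · obtain ⟨h2, h3⟩ := clearW_lor _ _ _ hcl
    rw [leftWord_unit_of_clear hm w1 k h2, leftWord_unit_of_clear hm w2 k h3]
  · have hcl' : clearW (Nat.lor (wordMask D w1) (wordMask D w2)) k = false := by
      simpa using hcl
    rw [hcl', cond_false] at h1
    exact entEq_sound D ρ _ _ _ h1

end Cfsg.Agent.H22
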