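import Cfsg.Agent.H22.ChevMono

/-!
# The elements `n_r` normalise the diagonal subgroup (helper22): kernel computations, part b
-/

set_option autoImplicit false
set_option maxRecDepth 1000000

namespace Cfsg.Agent.H22

open Cfsg Cfsg.Lie

theorem normChk_E7a : normChk chevE7 0 42 = true := by decide +kernel
theorem normChk_E7b : normChk chevE7 42 42 = true := by decide +kernel
theorem normChk_E7c : normChk chevE7 84 42 = true := by decide +kernel

end Cfsg.Agent.H22
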