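import Cfsg.Agent.H22.ChevMono

/-!
# The elements `n_r` normalise the diagonal subgroup (helper22): kernel computations, part e
-/

set_option autoImplicit false
set_option maxRecDepth 1000000

namespace Cfsg.Agent.H22

open Cfsg Cfsg.Lie

theorem normChk_E8_6 : normChk chevE8 120 20 = true := by decide +kernel
theorem normChk_E8_7 : normChk chevE8 140 20 = true := by decide +kernel
theorem normChk_E8_8 : normChk chevE8 160 20 = true := by decide +kernel

end Cfsg.Agent.H22
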