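import Cfsg.Agent.H22.ChevBorel

/-!
# The elements `n_r` normalise the diagonal subgroup (helper22): generic part

The columns of `n_r = n_r(1)` are computed by the symbolic engine; a kernel computation checks
that for every possibly non-zero entry `(row, col)` of `n_r` and every `i` the weight of `row`
for the coroot of the root `q = q(r, i)` (the image of the `i`-th fundamental root) equals the
weight of `col` for the `i`-th fundamental coroot.  Hence
`n_r · h_{p_1}(c_1) ⋯ h_{p_l}(c_l) · n_r⁻¹ = h_{q_1}(c_1) ⋯ h_{q_l}(c_l)`.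
-/

set_option autoImplicit false

namespace Cfsg.Agent.H22

open Cfsg Cfsg.Lie

variable (D : ChevalleyDatum) {F : Type*} [Field F]

/-- the word of `n_r(1)` -/
def nW (r : ℕ) : List (ℕ × Poly) :=
  [(r, [⟨1, 0, 0, 0, 0, 0⟩]), (Nat.sub (Nat.sub D.nroots 1) r, [⟨0, 1, 0, 0, 0, 0⟩]),
    (r, [⟨1, 0, 0, 0, 0, 0⟩])]

/-- the column `k` of `n_r(1)` -/
def nCol (r k : ℕ) : List Ent := leftWordN D (nW D r) [unitE k]

/-- the root to which `n_r` maps the `i`-th fundamental root -/
def qOf (r i : ℕ) : ℕ :=
  List.rec 0 (fun e _ ih => bif Nat.beq e.m.cp e.m.cn then ih else Nat.sub e.row D.rank)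
    (nCol D r (Nat.add D.rank (simpleN D i)))

/-- positive part of the weight of an encoded index for the coroot of `q` -/
def wqP (q row : ℕ) : ℕ := bif Nat.blt row D.rank then 0 else pairP D q (Nat.sub row D.rank)

/-- negative part of the weight of an encoded index for the coroot of `q` -/
def wqN (q row : ℕ) : ℕ := bif Nat.blt row D.rank then 0 else pairN D q (Nat.sub row D.rank)

/-- the check for the roots `lo ≤ r < lo + n` -/
def normChk (lo n : ℕ) : Bool :=
  allBelow n fun j =>
    (allBelow D.rank fun i => Nat.blt (qOf D (Nat.add lo j) i) D.nroots) &&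
    allBelow (D.rank + D.nroots) fun k =>
      allL (fun e : Ent => bif Nat.beq e.m.cp e.m.cn then true else allBelow D.rank fun i =>
        Nat.beq (Nat.add (wqP D (qOf D (Nat.add lo j) i) e.row) 128)
          (Nat.add (wqN D (qOf D (Nat.add lo j) i) e.row) (wtN D i k))) (nCol D (Nat.add lo j) k)

/-- the property checked by `normChk` for one root -/
def NormOK (r : ℕ) : Prop :=
  (∀ i < D.rank, qOf D r i < D.nroots) ∧
  ∀ k < D.rank + D.nroots, ∀ e ∈ nCol D r k, e.m.cp ≠ e.m.cn → ∀ i < D.rank,
    wqP D (qOf D r i) e.row + 128 = wqN D (qOf D r i) e.row + wtN D i k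

theorem normChk_spec (lo n : ℕ) (h : normChk D lo n = true) (r : ℕ) (h1 : lo ≤ r)
    (h2 : r < lo + n) : NormOK D r := by
  have h3 := (allBelow_iff _ _).mp h (r - lo) (by omega)
  have h4 : Nat.add lo (r - lo) = r := by
    show lo + (r - lo) = r
    omega
  rw [h4, Bool.and_eq_true] at h3
  refine ⟨?_, ?_⟩
  · intro i hi
    have := (allBelow_iff _ _).mp h3.1 i hi
    simpa [Nat.blt] using this
  · intro k hk e he hne i hi
    have h5 := (allL_iff _ _).mp ((allBelow_iff _ _).mp h3.2 k hk) e he
    rw [beq_false' hne, cond_false] at h5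
    exact Nat.eq_of_beq_eq_true ((allBelow_iff _ _).mp h5 i hi)

variable {D}

theorem wtIdx_pairZ (q row : ℕ) :
    wtIdx D (pairZ D q) row = (wqP D q row : ℤ) - (wqN D q row : ℤ) := by
  unfold wtIdx wqP wqN
  by_cases h : row < D.rank
  · rw [if_pos h, blt_true' h, cond_true, cond_true]; simp
  · rw [if_neg h, blt_false' h, cond_false, cond_false]; rfl

theorem entsEval_apply (ρ : Val F) (L : List Ent) (row col : D.Idx) :
    entsEval D ρ L row col =
      (L.map fun e => if enc D row = e.row ∧ enc D col = e.col then e.m.eval ρ else 0).sum := by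
  induction L with
  | nil => simp
  | cons e L ih =>
    rw [entsEval_cons, Matrix.add_apply, ih, List.map_cons, List.sum_cons]
    congr 1
    simp only [Ent.eval, Matrix.smul_apply, bmat, smul_eq_mul]
    split_ifs <;> simp

theorem mul_bmat_apply_self (M : Matrix D.Idx D.Idx F) (i j : D.Idx) :
    (M * bmat D F (enc D j) (enc D j)) i j = M i j := by
  rw [bmat_eq_colMat, mul_colMat, bvec_enc, Matrix.mulVec_single_one]
  simp [colMat]

theorem nWord_eq (h : tablesCheck D = true) (r : ℕ) (hr : r < D.nroots) (ρ : Val F) :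
    D.nWord r (1 : F) = evalWord ρ (nW D r) := by
  simp [ChevalleyDatum.nWord, evalWord, nW, Poly.eval, Mono.eval, Mono.mon, neg_eq h r hr]

/-- a non-zero entry of `n_r` is listed in `nCol` -/
theorem exists_nCol_entry (h : tablesCheck D = true) (r : ℕ) (hr : r < D.nroots)
    (row col : D.Idx) (hne : D.nMat F r 1 row col ≠ 0) :
    ∃ e ∈ nCol D r (enc D col), e.row = enc D row ∧ e.m.cp ≠ e.m.cn := by
  by_contra hcon
  push Not at hcon
  apply hne
  have ρ : Val F := ⟨1, 1, one_ne_zero, one_ne_zero⟩
  rw [← mul_bmat_apply_self (D.nMat F r 1) row col, ChevalleyDatum.nMat, nWord_eq h r hr ρ,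
    ← entsEval_unitE D ρ (enc D col), ← leftWordN_sound h, entsEval_apply]
  apply List.sum_eq_zero
  intro y hy
  obtain ⟨e, he, rfl⟩ := List.mem_map.mp hy
  by_cases h1 : enc D row = e.row ∧ enc D col = e.col
  · rw [if_pos h1, Mono.eval, hcon e he h1.1.symm, sub_self, zero_mul]
  · rw [if_neg h1]

/-- the diagonal of `h_{q_1}(c_1) ⋯ h_{q_l}(c_l)` -/
def torusDiagQ (D : ChevalleyDatum) (q : ℕ → ℕ) (c : ℕ → F) : D.Idx → F :=
  fun j => ((List.range D.rank).map fun i => c i ^ wtIdx D (pairZ D (q i)) (enc D j)).prod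

theorem torusDiag_eq_wt (h : tablesCheck D = true) (c : ℕ → F) :
    torusDiag D c = fun j =>
      ((List.range D.rank).map fun i => c i ^ wtIdx D (fun s => cartanF D i s) (enc D j)).prod := by
  funext j
  rcases j with a | s
  · have : ∀ i, wtIdx D (fun s => cartanF D i s) (enc D (Sum.inl a)) = 0 := by
      intro i
      unfold wtIdx
      rw [if_pos (show enc D (Sum.inl a) < D.rank from a.isLt)]
    simp [torusDiag, this]
  · have h1 : enc D (Sum.inr s) = D.rank + s.val := rfl
    simp only [torusDiag, Sum.elim_inr]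
    congr 1
    apply List.map_congr_left
    intro i hi
    have : wtIdx D (fun s => cartanF D i s) (enc D (Sum.inr s)) = D.cartan i s := by
      unfold wtIdx
      rw [h1, if_neg (by omega), Nat.add_sub_cancel_left]
      exact cartanF_eq h i s (List.mem_range.mp hi) s.isLt
    rw [this]

/-- `n_r · diag = diag' · n_r` -/
theorem nMat_mul_torus (h : tablesCheck D = true) (r : ℕ) (hr : r < D.nroots)
    (hok : NormOK D r) (c : ℕ → F) :
    D.nMat F r 1 * Matrix.diagonal (torusDiag D c) =
      Matrix.diagonal (torusDiagQ D (qOf D r) c) * D.nMat F r 1 := by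
  ext row col
  rw [Matrix.mul_diagonal, Matrix.diagonal_mul]
  by_cases hne : D.nMat F r 1 row col = 0
  · rw [hne, zero_mul, mul_zero]
  · obtain ⟨e, he, hrow, hcoef⟩ := exists_nCol_entry h r hr row col hne
    have h1 := hok.2 (enc D col) (enc_lt D col) e he hcoef
    rw [torusDiag_eq_wt h, mul_comm]
    congr 1
    simp only [torusDiagQ]
    congr 1
    apply List.map_congr_left
    intro i hi
    have h2 := h1 i (List.mem_range.mp hi)
    rw [wtIdx_pairZ, wtIdx_cartan, ← hrow]
    congr 1
    omega

end Cfsg.Agent.H22
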