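import Cfsg.Agent.H22.ChevMa
import Cfsg.Agent.H22.ChevMb
import Cfsg.Agent.H22.ChevMc
import Cfsg.Agent.H22.ChevMd
import Cfsg.Agent.H22.ChevMe
import Cfsg.Agent.H22.ChevMf

/-!
# The elements `n_r` normalise the diagonal subgroup (helper22)
-/

set_option autoImplicit false

namespace Cfsg.Agent.H22

open Cfsg Cfsg.Lie

theorem normOK_all (D : ChevalleyDatum)
    (hD : D ∈ [chevG2, chevB2, chevD4, chevF4, chevE6, chevE7, chevE8]) (r : ℕ)
    (hr : r < D.nroots) : NormOK D r := by
  simp only [List.mem_cons, List.not_mem_nil, or_false] at hD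
  rcases hD with rfl | rfl | rfl | rfl | rfl | rfl | rfl
  · exact normChk_spec _ 0 12 normChk_G2 r (by omega) hr
  · exact normChk_spec _ 0 8 normChk_B2 r (by omega) hr
  · exact normChk_spec _ 0 24 normChk_D4 r (by omega) hr
  · exact normChk_spec _ 0 48 normChk_F4 r (by omega) hr
  · have hr' : r < 72 := hr
    by_cases h1 : r < 36
    · exact normChk_spec _ 0 36 normChk_E6a r (by omega) (by omega)
    · exact normChk_spec _ 36 36 normChk_E6b r (by omega) (by omega)
  · have hr' : r < 126 := hr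
    by_cases h1 : r < 42
    · exact normChk_spec _ 0 42 normChk_E7a r (by omega) (by omega)
    by_cases h2 : r < 84
    · exact normChk_spec _ 42 42 normChk_E7b r (by omega) (by omega)
    · exact normChk_spec _ 84 42 normChk_E7c r (by omega) (by omega)
  · have hr' : r < 240 := hr
    by_cases h0 : r < 20
    · exact normChk_spec _ 0 20 normChk_E8_0 r (by omega) (by omega)
    by_cases h1 : r < 40
    · exact normChk_spec _ 20 20 normChk_E8_1 r (by omega) (by omega)
    by_cases h2 : r < 60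
    · exact normChk_spec _ 40 20 normChk_E8_2 r (by omega) (by omega)
    by_cases h3 : r < 80
    · exact normChk_spec _ 60 20 normChk_E8_3 r (by omega) (by omega)
    by_cases h4 : r < 100
    · exact normChk_spec _ 80 20 normChk_E8_4 r (by omega) (by omega)
    by_cases h5 : r < 120
    · exact normChk_spec _ 100 20 normChk_E8_5 r (by omega) (by omega)
    by_cases h6 : r < 140
    · exact normChk_spec _ 120 20 normChk_E8_6 r (by omega) (by omega)
    by_cases h7 : r < 160
    · exact normChk_spec _ 140 20 normChk_E8_7 r (by omega) (by omega)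
    by_cases h8 : r < 180
    · exact normChk_spec _ 160 20 normChk_E8_8 r (by omega) (by omega)
    by_cases h9 : r < 200
    · exact normChk_spec _ 180 20 normChk_E8_9 r (by omega) (by omega)
    by_cases h10 : r < 220
    · exact normChk_spec _ 200 20 normChk_E8_10 r (by omega) (by omega)
    · exact normChk_spec _ 220 20 normChk_E8_11 r (by omega) (by omega)

variable {D : ChevalleyDatum} {F : Type*} [Field F]

theorem hMat_mul_hMat_inv (hD : D ∈ [chevG2, chevB2, chevD4, chevF4, chevE6, chevE7, chevE8])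
    (r : ℕ) (hr : r < D.nroots) (c : F) (hc : c ≠ 0) : D.hMat F r c * D.hMat F r c⁻¹ = 1 := by
  rw [hMat_eq_diagonal D hD r hr c hc, hMat_eq_diagonal D hD r hr c⁻¹ (inv_ne_zero hc),
    Matrix.diagonal_mul_diagonal]
  have : (fun j : D.Idx => (Sum.elim (fun _ => (1 : F)) (fun s : Fin D.nroots => c ^ pairZ D r s) j) *
      (Sum.elim (fun _ => (1 : F)) (fun s : Fin D.nroots => c⁻¹ ^ pairZ D r s) j)) =
      fun _ => 1 := by
    funext j
    rcases j with a | s
    · simp
    · simp only [Sum.elim_inr]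
      rw [inv_zpow, mul_inv_cancel₀ (zpow_ne_zero _ hc)]
  rw [this, Matrix.diagonal_one]

/-- an element of `H` with matrix `h_r(c)` -/
theorem exists_mem_hMat (hD : D ∈ [chevG2, chevB2, chevD4, chevF4, chevE6, chevE7, chevE8])
    (r : ℕ) (hr : r < D.nroots) (c : F) (hc : c ≠ 0) :
    ∃ g ∈ D.diagonalSubgroup F, (g : Matrix D.Idx D.Idx F) = D.hMat F r c := by
  have h1 := hMat_mul_hMat_inv hD r hr c hc
  have h2 := hMat_mul_hMat_inv hD r hr c⁻¹ (inv_ne_zero hc)
  rw [inv_inv] at h2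
  exact ⟨⟨D.hMat F r c, D.hMat F r c⁻¹, h1, h2⟩, Subgroup.subset_closure ⟨r, c, hr, hc, rfl⟩, rfl⟩

/-- an element of `H` with a given product of `h`'s as matrix -/
theorem exists_mem_prod_hMat (hD : D ∈ [chevG2, chevB2, chevD4, chevF4, chevE6, chevE7, chevE8])
    (L : List ℕ) (q : ℕ → ℕ) (c : ℕ → F) (hq : ∀ i ∈ L, q i < D.nroots) (hc : ∀ i ∈ L, c i ≠ 0) :
    ∃ g ∈ D.diagonalSubgroup F,
      (g : Matrix D.Idx D.Idx F) = (L.map fun i => D.hMat F (q i) (c i)).prod := by
  induction L with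
  | nil => exact ⟨1, one_mem _, by simp⟩
  | cons i L ih =>
    obtain ⟨g, hg, hgv⟩ := ih (fun j hj => hq j (List.mem_cons_of_mem _ hj))
      (fun j hj => hc j (List.mem_cons_of_mem _ hj))
    obtain ⟨g', hg', hgv'⟩ := exists_mem_hMat hD (q i) (hq i (List.mem_cons_self ..)) (c i)
      (hc i (List.mem_cons_self ..))
    refine ⟨g' * g, mul_mem hg' hg, ?_⟩
    rw [Units.val_mul, hgv, hgv', List.map_cons, List.prod_cons]

theorem torusDiagQ_eq_prod (hD : D ∈ [chevG2, chevB2, chevD4, chevF4, chevE6, chevE7, chevE8])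
    (q : ℕ → ℕ) (hq : ∀ i < D.rank, q i < D.nroots) (c : ℕ → F) (hc : ∀ i, c i ≠ 0) :
    Matrix.diagonal (torusDiagQ D q c) =
      ((List.range D.rank).map fun i => D.hMat F (q i) (c i)).prod := by
  have h1 : ((List.range D.rank).map fun i => D.hMat F (q i) (c i)) =
      (List.range D.rank).map fun i => Matrix.diagonal
        (fun j : D.Idx => c i ^ wtIdx D (pairZ D (q i)) (enc D j)) := by
    apply List.map_congr_left
    intro i hi
    rw [hMat_eq_diagonal D hD (q i) (hq i (List.mem_range.mp hi)) (c i) (hc i), hDiag_eq_wt]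
  rw [h1, prod_diagonal]
  rfl

/-- conjugation by `n_r` maps `H` into `H` -/
theorem nMat_conj_mem (hD : D ∈ [chevG2, chevB2, chevD4, chevF4, chevE6, chevE7, chevE8]) (r : ℕ)
    (hr : r < D.nroots) (k : GL D.Idx F) (hk : (k : Matrix D.Idx D.Idx F) = D.nMat F r 1)
    (h : GL D.Idx F) (hh : h ∈ D.diagonalSubgroup F) : k * h * k⁻¹ ∈ D.diagonalSubgroup F := by
  obtain ⟨c, hc, hv⟩ := exists_torusDiag hD h hh
  have hok := normOK_all D hD r hr
  obtain ⟨g, hg, hgv⟩ := exists_mem_prod_hMat hD (List.range D.rank) (qOf D r) c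
    (fun i hi => hok.1 i (List.mem_range.mp hi)) (fun i _ => hc i)
  have : k * h * k⁻¹ = g := by
    apply Units.ext
    rw [Units.val_mul, Units.val_mul, hk, hv, nMat_mul_torus (tablesCheck_all D hD) r hr hok c,
      Matrix.mul_assoc, ← hk, ← Units.val_mul, mul_inv_cancel, Units.val_one, Matrix.mul_one, hgv,
      torusDiagQ_eq_prod hD (qOf D r) hok.1 c hc]
  rw [this]
  exact hg

theorem six_mul {n : Type*} [Fintype n] [DecidableEq n] (A B C C' B' A' : Matrix n n F)
    (hC : C * C' = 1) (hB : B * B' = 1) (hA : A * A' = 1) :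
    (A * (B * C)) * (C' * (B' * A')) = 1 := by
  have : (A * (B * C)) * (C' * (B' * A')) = A * (B * ((C * C') * B')) * A' := by
    simp only [Matrix.mul_assoc]
  rw [this, hC, Matrix.one_mul, hB, Matrix.mul_one, hA]

theorem nMat_mul_nMat_neg (hD : D ∈ [chevG2, chevB2, chevD4, chevF4, chevE6, chevE7, chevE8])
    (r : ℕ) (hr : r < D.nroots) (t : F) : D.nMat F r t * D.nMat F r (-t) = 1 := by
  have hn := neg_lt (tablesCheck_all D hD) r hr
  have a1 : ∀ s, s < D.nroots → ∀ u : F, D.x F s u * D.x F s (-u) = 1 := fun s hs u => by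
    rw [Cfsg.Agent.S1023.result D hD s hs, add_neg_cancel, x_zero]
  simp only [ChevalleyDatum.nMat, ChevalleyDatum.nWord, ChevalleyDatum.wordMat, List.map_cons,
    List.map_nil, List.prod_cons, List.prod_nil, Matrix.mul_one]
  have e : -(-t)⁻¹ = -(-t⁻¹) := by rw [inv_neg]
  rw [e]
  exact six_mul _ _ _ _ _ _ (a1 r hr t) (a1 _ hn _) (a1 r hr t)

/-- `n_r⁻¹ = h_r(-1) n_r` -/
theorem n_inv_eq (hD : D ∈ [chevG2, chevB2, chevD4, chevF4, chevE6, chevE7, chevE8]) (r : ℕ)
    (hr : r < D.nroots) (k : GL D.Idx F) (hk : (k : Matrix D.Idx D.Idx F) = D.nMat F r 1) :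
    ∃ h' ∈ D.diagonalSubgroup F, k⁻¹ = h' * k := by
  obtain ⟨h', hh', hv'⟩ := exists_mem_hMat hD r hr (-1 : F) (neg_ne_zero.mpr one_ne_zero)
  refine ⟨h', hh', ?_⟩
  apply Units.ext
  have h1 := nMat_mul_nMat_neg hD r hr (1 : F)
  have h2 := nMat_mul_nMat_neg hD r hr (-1 : F)
  rw [_root_.neg_neg] at h2
  have h3 : D.hMat F r (-1) = D.nMat F r (-1) * D.nMat F r (-1) := by
    rw [ChevalleyDatum.hMat, ChevalleyDatum.hWord, wordMat_append]
    rfl
  rw [Units.val_mul, hv', hk, h3, Matrix.mul_assoc, h2, Matrix.mul_one, Matrix.coe_units_inv, hk]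
  exact Matrix.inv_eq_right_inv h1

/-- `H` is normalised by `N` -/
theorem monomial_conj_mem (hD : D ∈ [chevG2, chevB2, chevD4, chevF4, chevE6, chevE7, chevE8])
    (k : GL D.Idx F) (hk : k ∈ D.monomialSubgroup F) :
    ∀ h ∈ D.diagonalSubgroup F, k * h * k⁻¹ ∈ D.diagonalSubgroup F ∧
      k⁻¹ * h * k ∈ D.diagonalSubgroup F := by
  unfold ChevalleyDatum.monomialSubgroup at hk
  have e : D.diagonalSubgroup F ⊔ Subgroup.closure {g : GL D.Idx F | ∃ r : ℕ, r < D.nroots ∧
      (g : Matrix D.Idx D.Idx F) = D.nMat F r 1} =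
      Subgroup.closure ((D.diagonalSubgroup F : Set (GL D.Idx F)) ∪ {g : GL D.Idx F | ∃ r : ℕ,
        r < D.nroots ∧ (g : Matrix D.Idx D.Idx F) = D.nMat F r 1}) := by
    rw [Subgroup.closure_union, Subgroup.closure_eq]
  rw [e] at hk
  induction hk using Subgroup.closure_induction with
  | mem k hk =>
    rcases hk with hk | ⟨r, hr, hkv⟩
    · intro h hh
      exact ⟨mul_mem (mul_mem hk hh) (inv_mem hk), mul_mem (mul_mem (inv_mem hk) hh) hk⟩
    · intro h hh
      refine ⟨nMat_conj_mem hD r hr k hkv h hh, ?_⟩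
      obtain ⟨h', hh', hinv⟩ := n_inv_eq hD r hr k hkv
      have e1 : k⁻¹ * h * k = h' * (k * h * k⁻¹) * h'⁻¹ := by
        calc k⁻¹ * h * k = k⁻¹ * h * (k⁻¹)⁻¹ := by rw [inv_inv]
          _ = (h' * k) * h * (h' * k)⁻¹ := by rw [hinv]
          _ = h' * (k * h * k⁻¹) * h'⁻¹ := by group
      rw [e1]
      exact mul_mem (mul_mem hh' (nMat_conj_mem hD r hr k hkv h hh)) (inv_mem hh')
  | one =>
    intro h hh
    simpa using hh
  | mul a b _ _ iha ihb =>
    intro h hh
    refine ⟨?_, ?_⟩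
    · have := (iha _ ((ihb h hh).1)).1
      have e1 : a * b * h * (a * b)⁻¹ = a * (b * h * b⁻¹) * a⁻¹ := by group
      rw [e1]
      exact this
    · have := (ihb _ ((iha h hh).2)).2
      have e1 : (a * b)⁻¹ * h * (a * b) = b⁻¹ * (a⁻¹ * h * a) * b := by group
      rw [e1]
      exact this
  | inv a _ iha =>
    intro h hh
    refine ⟨?_, ?_⟩
    · have := (iha h hh).2
      rwa [inv_inv]
    · have := (iha h hh).1
      rwa [inv_inv]

end Cfsg.Agent.H22
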