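import Cfsg.Agent.H22.ChevData

/-!
# The symbolic engine with collection of like terms (helper22)

`leftWordN` is `leftWord` with every new entry merged into an existing entry with the same position
and exponents; this keeps the entry lists short for long words.
-/

set_option autoImplicit false

namespace Cfsg.Agent.H22

open Cfsg Cfsg.Lie

variable (D : ChevalleyDatum) {F : Type*} [Field F]

/-- same position and same exponents -/
def sameKey (e e' : Ent) : Bool :=
  Nat.beq e.row e'.row && (Nat.beq e.col e'.col &&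
    (Nat.beq (Nat.add e.m.ap e'.m.an) (Nat.add e'.m.ap e.m.an) &&
      Nat.beq (Nat.add e.m.bp e'.m.bn) (Nat.add e'.m.bp e.m.bn)))

/-- the sum of two entries with the same key: nothing if it vanishes -/
def mergeEnt (e e' : Ent) (tl : List Ent) : List Ent :=
  bif Nat.beq (Nat.add e.m.cp e'.m.cp) (Nat.add e.m.cn e'.m.cn) then tl
  else (⟨e'.row, e'.col, ⟨Nat.sub (Nat.add e.m.cp e'.m.cp) (Nat.add e.m.cn e'.m.cn),
    Nat.sub (Nat.add e.m.cn e'.m.cn) (Nat.add e.m.cp e'.m.cp), e'.m.ap, e'.m.an, e'.m.bp,
      e'.m.bn⟩⟩ : Ent) :: tl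

/-- insertion of an entry with merging -/
def ins (e : Ent) (acc : List Ent) : List Ent :=
  List.rec [e] (fun e' tl ih => bif sameKey e e' then mergeEnt e e' tl else e' :: ih) acc

theorem ins_nil (e : Ent) : ins e [] = [e] := rfl

theorem ins_cons (e e' : Ent) (tl : List Ent) :
    ins e (e' :: tl) = bif sameKey e e' then mergeEnt e e' tl else e' :: ins e tl := rfl

theorem sameKey_spec (e e' : Ent) (h : sameKey e e' = true) :
    e.row = e'.row ∧ e.col = e'.col ∧ e.m.ap + e'.m.an = e'.m.ap + e.m.an ∧
      e.m.bp + e'.m.bn = e'.m.bp + e.m.bn := by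
  simp only [sameKey, Bool.and_eq_true] at h
  obtain ⟨h1, h2, h3, h4⟩ := h
  exact ⟨Nat.eq_of_beq_eq_true h1, Nat.eq_of_beq_eq_true h2, Nat.eq_of_beq_eq_true h3,
    Nat.eq_of_beq_eq_true h4⟩

theorem natCast_sub_sub (a b : ℕ) : ((a - b : ℕ) : F) - ((b - a : ℕ) : F) = (a : F) - (b : F) := by
  rcases Nat.le_total a b with h | h
  · rw [Nat.sub_eq_zero_of_le h, Nat.cast_sub h]; simp
  · rw [Nat.sub_eq_zero_of_le h, Nat.cast_sub h]; simp

theorem eval_mergeEnt (ρ : Val F) (e e' : Ent) (tl : List Ent) (h : sameKey e e' = true) :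
    entsEval D ρ (mergeEnt e e' tl) = e.eval D ρ + (e'.eval D ρ + entsEval D ρ tl) := by
  obtain ⟨h1, h2, h3, h4⟩ := sameKey_spec e e' h
  have hmon : e.m.mon ρ = e'.m.mon ρ := by
    simp only [Mono.mon, pow_mul_inv_pow_eq ρ.hx h3, pow_mul_inv_pow_eq ρ.hy h4]
  have he : e.eval D ρ = (((e.m.cp : F) - (e.m.cn : F)) * e'.m.mon ρ) • bmat D F e'.row e'.col := by
    rw [Ent.eval, Mono.eval, hmon, h1, h2]
  have he' : e'.eval D ρ = (((e'.m.cp : F) - (e'.m.cn : F)) * e'.m.mon ρ) •
      bmat D F e'.row e'.col := rfl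
  unfold mergeEnt
  by_cases hz : e.m.cp + e'.m.cp = e.m.cn + e'.m.cn
  · have hz' : Nat.beq (Nat.add e.m.cp e'.m.cp) (Nat.add e.m.cn e'.m.cn) = true := beq_true' hz
    rw [hz', cond_true, ← add_assoc, he, he', ← add_smul]
    have : ((e.m.cp : F) - (e.m.cn : F)) * e'.m.mon ρ + ((e'.m.cp : F) - (e'.m.cn : F)) *
        e'.m.mon ρ = 0 := by
      have h5 : ((e.m.cp : F) + (e'.m.cp : F)) = ((e.m.cn : F) + (e'.m.cn : F)) := by
        exact_mod_cast congrArg (Nat.cast : ℕ → F) hz
      linear_combination e'.m.mon ρ * h5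
    rw [this, zero_smul, zero_add]
  · have hz' : Nat.beq (Nat.add e.m.cp e'.m.cp) (Nat.add e.m.cn e'.m.cn) = false := beq_false' hz
    rw [hz', cond_false, entsEval_cons, ← add_assoc, he, he', ← add_smul]
    congr 1
    rw [Ent.eval, Mono.eval]
    congr 1
    have h6 := natCast_sub_sub (F := F) (e.m.cp + e'.m.cp) (e.m.cn + e'.m.cn)
    simp only [Nat.add_eq, Nat.sub_eq]
    have h7 : (⟨e.m.cp + e'.m.cp - (e.m.cn + e'.m.cn), e.m.cn + e'.m.cn - (e.m.cp + e'.m.cp),
        e'.m.ap, e'.m.an, e'.m.bp, e'.m.bn⟩ : Mono).mon ρ = e'.m.mon ρ := rfl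
    rw [h7, h6]
    push_cast
    ring

theorem entsEval_ins (ρ : Val F) (e : Ent) (acc : List Ent) :
    entsEval D ρ (ins e acc) = e.eval D ρ + entsEval D ρ acc := by
  induction acc with
  | nil => rw [ins_nil, entsEval_cons]
  | cons e' tl ih =>
    rw [ins_cons]
    by_cases h : sameKey e e' = true
    · rw [h, cond_true, eval_mergeEnt D ρ e e' tl h, entsEval_cons]
    · have h' : sameKey e e' = false := by simpa using h
      rw [h', cond_false, entsEval_cons, ih, entsEval_cons]
      abel

/-! ## the normalising versions of `leftCol`, `leftX`, `leftWord` -/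

def addMonosN (row col cp cn : ℕ) (m0 : Mono) (q : Poly) (acc : List Ent) : List Ent :=
  List.rec acc (fun m _ ih => ins (⟨row, col, (Mono.const cp cn).mul (m.mul m0)⟩ : Ent) ih) q

theorem entsEval_addMonosN (ρ : Val F) (row col cp cn : ℕ) (m0 : Mono) (q : Poly)
    (acc : List Ent) :
    entsEval D ρ (addMonosN row col cp cn m0 q acc) =
      ((((cp : F) - (cn : F)) * Poly.eval ρ q) * m0.eval ρ) • bmat D F row col +
        entsEval D ρ acc := by
  induction q with
  | nil => simp [addMonosN]
  | cons m q ih =>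
    have h1 : addMonosN row col cp cn m0 (m :: q) acc =
        ins (⟨row, col, (Mono.const cp cn).mul (m.mul m0)⟩ : Ent)
          (addMonosN row col cp cn m0 q acc) := rfl
    rw [h1, entsEval_ins, ih, Poly.eval_cons, Ent.eval, Mono.eval_mul, Mono.eval_mul,
      Mono.eval_const, ← add_assoc, ← add_smul]
    congr 2
    ring

def addExtrasN (e : Ent) (p : Poly) (xs : List (ℕ × ℕ × ℕ × ℕ)) (acc : List Ent) : List Ent :=
  List.rec acc (fun x _ ih => addMonosN x.1 e.col x.2.1 x.2.2.1 e.m (selPw p x.2.2.2) ih) xs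

theorem entsEval_addExtrasN (ρ : Val F) (e : Ent) (p : Poly) (xs : List (ℕ × ℕ × ℕ × ℕ))
    (acc : List Ent) :
    entsEval D ρ (addExtrasN e p xs acc) =
      (xs.map fun x => ((((x.2.1 : F) - (x.2.2.1 : F)) * Poly.eval ρ p ^ x.2.2.2) * e.m.eval ρ) •
        bmat D F x.1 e.col).sum + entsEval D ρ acc := by
  induction xs with
  | nil => simp [addExtrasN]
  | cons x xs ih =>
    have h1 : addExtrasN e p (x :: xs) acc =
        addMonosN x.1 e.col x.2.1 x.2.2.1 e.m (selPw p x.2.2.2) (addExtrasN e p xs acc) := rfl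
    rw [h1, entsEval_addMonosN, ih, eval_selPw, List.map_cons, List.sum_cons, add_assoc]

/-- left multiplication by the matrix `1 + Σ (cp - cn) p^j E_{row,k}` given by its columns, with
collection of like terms -/
def leftColN (col : ℕ → List (ℕ × ℕ × ℕ × ℕ)) (p : Poly) (L : List Ent) : List Ent :=
  List.rec [] (fun e _ ih => ins e (addExtrasN e p (col e.row) ih)) L

theorem leftColN_sound (ρ : Val F) (col : ℕ → List (ℕ × ℕ × ℕ × ℕ)) (p : Poly)
    (M : Matrix D.Idx D.Idx F)
    (hM : ∀ k, M.mulVec (bvec D F k) = bvec D F k +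
      ((col k).map fun x => (((x.2.1 : F) - (x.2.2.1 : F)) * Poly.eval ρ p ^ x.2.2.2) •
        bvec D F x.1).sum)
    (L : List Ent) :
    entsEval D ρ (leftColN col p L) = M * entsEval D ρ L := by
  induction L with
  | nil => simp [leftColN]
  | cons e L ih =>
    have h1 : leftColN col p (e :: L) = ins e (addExtrasN e p (col e.row) (leftColN col p L)) := rfl
    rw [h1, entsEval_ins, entsEval_addExtrasN, ih, entsEval_cons, Matrix.mul_add]
    rw [← add_assoc]
    congr 1
    rw [Ent.eval, Matrix.mul_smul, bmat_eq_colMat, mul_colMat, hM, colMat_add, smul_add,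
      colMat_list_sum, List.smul_sum, List.map_map]
    congr 2
    apply List.map_congr_left
    intro x _
    simp only [Function.comp, colMat_smul, bmat_eq_colMat, smul_smul]
    congr 1
    ring

/-- left multiplication by `x_r(p)` with collection of like terms -/
def leftXN (r : ℕ) (p : Poly) (L : List Ent) : List Ent :=
  bif Nat.blt r D.nroots then leftColN (colN D r) p L else L

/-- left multiplication by a word with collection of like terms -/
def leftWordN (w : List (ℕ × Poly)) (L : List Ent) : List Ent :=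
  List.rec L (fun l _ ih => leftXN D l.1 l.2 ih) w

variable {D}

theorem leftXN_sound (h : tablesCheck D = true) (ρ : Val F) (r : ℕ) (p : Poly) (L : List Ent) :
    entsEval D ρ (leftXN D r p L) = D.x F r (Poly.eval ρ p) * entsEval D ρ L := by
  unfold leftXN
  by_cases hr : r < D.nroots
  · rw [blt_true' hr, cond_true, x_eq_xMat D F r hr]
    apply leftColN_sound
    intro k
    rw [xMat_mulVec_bvec, ← colFast_eq h r hr, ← colN_map, List.map_map]
    congr 2
    apply List.map_congr_left
    intro x _
    simp [toZ]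
  · rw [blt_false' hr, cond_false, x_eq_one_of_not_lt D F r hr, Matrix.one_mul]

theorem leftWordN_sound (h : tablesCheck D = true) (ρ : Val F) (w : List (ℕ × Poly))
    (L : List Ent) :
    entsEval D ρ (leftWordN D w L) = D.wordMat F (evalWord ρ w) * entsEval D ρ L := by
  induction w with
  | nil => simp [leftWordN, evalWord, ChevalleyDatum.wordMat]
  | cons l w ih =>
    have h1 : leftWordN D (l :: w) L = leftXN D l.1 l.2 (leftWordN D w L) := rfl
    have h2 : D.wordMat F (evalWord ρ (l :: w)) =
        D.x F l.1 (Poly.eval ρ l.2) * D.wordMat F (evalWord ρ w) := by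
      simp [ChevalleyDatum.wordMat, evalWord]
    rw [h1, h2, leftXN_sound h, ih, Matrix.mul_assoc]

/-! ## identities between words and diagonal words -/

variable (D)

/-- column-wise check of an identity between two words, skipping the columns on which both words
act trivially -/
def wordEqCheckN (A OA A2 OB : ℕ) (w1 w2 : List (ℕ × Poly)) : Bool :=
  allBelow (D.rank + D.nroots) fun k =>
    bif clearW (Nat.lor (wordMask D w1) (wordMask D w2)) k then true
    else entEq ⟨A, OA, A2, OB, k⟩ (leftWordN D w1 [unitE k]) (leftWordN D w2 [unitE k])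

/-- column-wise check that a word is the diagonal matrix with the entries `d k` -/
def diagCheck (A OA : ℕ) (w : List (ℕ × Poly)) (d : ℕ → Mono) : Bool :=
  allBelow (D.rank + D.nroots) fun k =>
    entEq ⟨A, OA, 1, 0, k⟩ (bif clearW (wordMask D w) k then [unitE k] else leftWordN D w [unitE k])
      [⟨k, k, d k⟩]

variable {D}

theorem leftXN_unit_of_nil (r : ℕ) (p : Poly) (e : Ent)
    (h : r < D.nroots → colN D r e.row = []) : leftXN D r p [e] = [e] := by
  unfold leftXN
  by_cases hr : r < D.nroots
  · rw [blt_true' hr, cond_true]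
    have h1 : leftColN (colN D r) p [e] = ins e (addExtrasN e p (colN D r e.row) []) := rfl
    rw [h1, h hr]
    rfl
  · rw [blt_false' hr, cond_false]

theorem leftWordN_unit_of_clear (h : maskCheck D = true) (w : List (ℕ × Poly)) (k : ℕ)
    (hk : clearW (wordMask D w) k = true) : leftWordN D w [unitE k] = [unitE k] := by
  have hall := clearW_wordMask D w k hk
  clear hk
  induction w with
  | nil => rfl
  | cons l w ih =>
    have h1 : leftWordN D (l :: w) [unitE k] = leftXN D l.1 l.2 (leftWordN D w [unitE k]) := rfl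
    rw [h1, ih (fun l' hl' => hall l' (List.mem_cons_of_mem _ hl'))]
    apply leftXN_unit_of_nil
    intro hr
    exact colN_nil_of_clear h l.1 hr k (hall l (List.mem_cons_self ..))

theorem wordMat_eq_of_checkN (h : tablesCheck D = true) (hm : maskCheck D = true)
    (A OA A2 OB : ℕ) (w1 w2 : List (ℕ × Poly)) (hc : wordEqCheckN D A OA A2 OB w1 w2 = true)
    (ρ : Val F) :
    D.wordMat F (evalWord ρ w1) = D.wordMat F (evalWord ρ w2) := by
  apply mat_eq_of_mul_bmat
  intro k hk
  rw [← entsEval_unitE D ρ k, ← leftWordN_sound h, ← leftWordN_sound h]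
  have h1 := (allBelow_iff _ _).mp hc k hk
  by_cases hcl : clearW (Nat.lor (wordMask D w1) (wordMask D w2)) k = true
  · obtain ⟨h2, h3⟩ := clearW_lor _ _ _ hcl
    rw [leftWordN_unit_of_clear hm w1 k h2, leftWordN_unit_of_clear hm w2 k h3]
  · have hcl' : clearW (Nat.lor (wordMask D w1) (wordMask D w2)) k = false := by
      simpa using hcl
    rw [hcl', cond_false] at h1
    exact entEq_sound D ρ _ _ _ h1

theorem diagonal_mul_bmat (f : D.Idx → F) (j : D.Idx) :
    Matrix.diagonal f * bmat D F (enc D j) (enc D j) = f j • bmat D F (enc D j) (enc D j) := by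
  ext a b
  rw [Matrix.diagonal_mul]
  simp only [bmat, Matrix.smul_apply, smul_eq_mul]
  by_cases hab : enc D a = enc D j ∧ enc D b = enc D j
  · rw [if_pos hab, enc_injective D hab.1]
  · rw [if_neg hab]; simp

theorem wordMat_eq_diagonal (h : tablesCheck D = true) (hm : maskCheck D = true)
    (A OA : ℕ) (w : List (ℕ × Poly)) (d : ℕ → Mono) (hc : diagCheck D A OA w d = true)
    (ρ : Val F) :
    D.wordMat F (evalWord ρ w) = Matrix.diagonal fun j => (d (enc D j)).eval ρ := by
  apply mat_eq_of_mul_bmat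
  intro k hk
  obtain ⟨j, rfl⟩ := exists_enc_eq D k hk
  have h3 : D.wordMat F (evalWord ρ w) * bmat D F (enc D j) (enc D j) =
      entsEval D ρ (leftWordN D w [unitE (enc D j)]) := by
    rw [leftWordN_sound h, entsEval_unitE]
  rw [diagonal_mul_bmat, h3]
  have h1 := entEq_sound D ρ _ _ _ ((allBelow_iff _ _).mp hc (enc D j) hk)
  have h2 : entsEval D ρ [(⟨enc D j, enc D j, d (enc D j)⟩ : Ent)] =
      (d (enc D j)).eval ρ • bmat D F (enc D j) (enc D j) := by
    simp [entsEval, Ent.eval]
  rw [← h2, ← h1]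
  by_cases hcl : clearW (wordMask D w) (enc D j) = true
  · rw [hcl, cond_true, leftWordN_unit_of_clear hm w _ hcl]
  · have hcl' : clearW (wordMask D w) (enc D j) = false := by simpa using hcl
    rw [hcl', cond_false]

end Cfsg.Agent.H22
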