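import Cfsg.Agent.H22.ChevWtData

/-!
# Conjugation of root elements by `n_p` (helper22): generic part

The columns of `n_p = n_p(1)` are computed once by the symbolic engine and stored in a list;
`n_p x_s(Y) = x_{s'}(±Y) n_p` is then checked column by column.
-/

set_option autoImplicit false

namespace Cfsg.Agent.H22

open Cfsg Cfsg.Lie

variable (D : ChevalleyDatum) {F : Type*} [Field F]

/-- the word of `n_r(1)` -/
def nWord1 (r : ℕ) : List (ℕ × Poly) :=
  [(r, [⟨1, 0, 0, 0, 0, 0⟩]), (Nat.sub (Nat.sub D.nroots 1) r, [⟨0, 1, 0, 0, 0, 0⟩]),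
    (r, [⟨1, 0, 0, 0, 0, 0⟩])]

/-- the `k`-th element of a list, with default -/
def getG {α : Type} (d : α) (L : List α) (k : ℕ) : α :=
  List.rec (fun _ => d) (fun x _ ih k => Nat.rec x (fun k' _ => ih k') k) L k

theorem getG_eq {α : Type} (d : α) (L : List α) (k : ℕ) : getG d L k = L.getD k d := by
  induction L generalizing k with
  | nil => simp [getG]
  | cons x L ih =>
    cases k with
    | zero => simp [getG]
    | succ k =>
      have : getG d (x :: L) (k + 1) = getG d L k := rfl
      rw [this, ih]
      simp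

theorem getG_map_range {α : Type} (d : α) (n : ℕ) (f : ℕ → α) (k : ℕ) :
    getG d ((List.range n).map f) k = if k < n then f k else d := by
  rw [getG_eq]
  by_cases hk : k < n
  · rw [if_pos hk]
    simp [hk]
  · rw [if_neg hk]
    simp [hk]

/-- the columns of `n_r(1)`, in blocks of 16 -/
def nTab (r : ℕ) : List (List (List Ent)) :=
  (List.range (Nat.div (Nat.add (D.rank + D.nroots) 15) 16)).map fun b =>
    (List.range 16).map fun j =>
      bif Nat.blt (Nat.add (Nat.mul 16 b) j) (D.rank + D.nroots) then
        leftWordN D (nWord1 D r) [unitE (Nat.add (Nat.mul 16 b) j)]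
      else []

/-- the column `k` of `n_r(1)`, looked up in the table -/
def nColT (r k : ℕ) : List Ent := getG [] (getG [] (nTab D r) (Nat.div k 16)) (Nat.mod k 16)

theorem nColT_eq (r k : ℕ) :
    nColT D r k =
      if k < D.rank + D.nroots then leftWordN D (nWord1 D r) [unitE k] else [] := by
  unfold nColT nTab
  rw [getG_map_range]
  have h16 : 16 * (k / 16) + k % 16 = k := Nat.div_add_mod k 16
  have hmod : Nat.mod k 16 < 16 := Nat.mod_lt _ (by norm_num)
  by_cases hb : Nat.div k 16 < Nat.div (Nat.add (D.rank + D.nroots) 15) 16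
  · rw [if_pos hb, getG_map_range, if_pos hmod]
    have e : Nat.add (Nat.mul 16 (Nat.div k 16)) (Nat.mod k 16) = k := h16
    rw [e]
    by_cases hk : k < D.rank + D.nroots
    · rw [blt_true' hk, cond_true, if_pos hk]
    · rw [blt_false' hk, cond_false, if_neg hk]
  · rw [if_neg hb]
    have hb' : ¬ k / 16 < (D.rank + D.nroots + 15) / 16 := hb
    have hk : ¬ k < D.rank + D.nroots := by omega
    rw [if_neg hk]
    rfl

/-- the entries of `M e` for an entry `e` and the column `T` of `M` -/
def tabExtras (e : Ent) (T : List Ent) (acc : List Ent) : List Ent :=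
  List.rec acc (fun e' _ ih' =>
    bif Nat.beq e'.col e.row then ins (⟨e'.row, e.col, e'.m.mul e.m⟩ : Ent) ih' else ih') T

/-- left multiplication by the matrix with the columns `tab` -/
def leftTab (tab : ℕ → List Ent) (L : List Ent) : List Ent :=
  List.rec [] (fun e _ ih => tabExtras e (tab e.row) ih) L

theorem bmat_eq_zero_right (a b : ℕ) (hb : ¬ b < D.rank + D.nroots) : bmat D F a b = 0 := by
  ext i j
  simp only [bmat, Matrix.zero_apply]
  rw [if_neg]
  intro h
  exact hb (h.2 ▸ enc_lt D j)

theorem bmat_eq_zero_left (a b : ℕ) (ha : ¬ a < D.rank + D.nroots) : bmat D F a b = 0 := by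
  ext i j
  simp only [bmat, Matrix.zero_apply]
  rw [if_neg]
  intro h
  exact ha (h.1 ▸ enc_lt D i)

theorem bmat_mul_bmat (a b r c : ℕ) (hr : r < D.rank + D.nroots) :
    bmat D F a b * bmat D F r c = if b = r then bmat D F a c else 0 := by
  obtain ⟨x₀, hx₀⟩ := exists_enc_eq D r hr
  ext i j
  rw [Matrix.mul_apply]
  by_cases hbr : b = r
  · subst hbr
    rw [if_pos rfl, Finset.sum_eq_single x₀]
    · simp only [bmat, hx₀, and_true, true_and]
      split_ifs <;> simp_all
    · intro x _ hx
      have : enc D x ≠ b := fun h => hx (enc_injective D (h.trans hx₀.symm))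
      simp [bmat, this]
    · intro h
      exact absurd (Finset.mem_univ _) h
  · rw [if_neg hbr, Matrix.zero_apply]
    apply Finset.sum_eq_zero
    intro x _
    simp only [bmat]
    by_cases h1 : enc D x = b
    · have : ¬ enc D x = r := fun h => hbr (h1.symm.trans h)
      simp [this]
    · simp [h1]

theorem entsEval_tabExtras (ρ : Val F) (e : Ent) (he : e.row < D.rank + D.nroots)
    (T acc : List Ent) :
    entsEval D ρ (tabExtras e T acc) =
      e.m.eval ρ • (entsEval D ρ T * bmat D F e.row e.col) + entsEval D ρ acc := by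
  induction T with
  | nil => simp [tabExtras]
  | cons e' T ih =>
    have h1 : tabExtras e (e' :: T) acc =
        bif Nat.beq e'.col e.row then
          ins (⟨e'.row, e.col, e'.m.mul e.m⟩ : Ent) (tabExtras e T acc)
        else tabExtras e T acc := rfl
    rw [h1, entsEval_cons, add_mul, smul_add, add_assoc, ← ih, Ent.eval, Matrix.smul_mul,
      bmat_mul_bmat D e'.row e'.col e.row e.col he]
    by_cases hc : e'.col = e.row
    · rw [beq_true' hc, cond_true, if_pos hc, entsEval_ins, Ent.eval, Mono.eval_mul, smul_smul,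
        mul_comm]
    · rw [beq_false' hc, cond_false, if_neg hc, smul_zero, smul_zero, zero_add]

theorem leftTab_sound (ρ : Val F) (tab : ℕ → List Ent) (M : Matrix D.Idx D.Idx F)
    (hM : ∀ k, entsEval D ρ (tab k) = M * bmat D F k k)
    (hdim : ∀ k, ¬ k < D.rank + D.nroots → tab k = []) (L : List Ent) :
    entsEval D ρ (leftTab tab L) = M * entsEval D ρ L := by
  induction L with
  | nil => simp [leftTab]
  | cons e L ih =>
    have h1 : leftTab tab (e :: L) = tabExtras e (tab e.row) (leftTab tab L) := rfl
    rw [h1, entsEval_cons, Matrix.mul_add]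
    by_cases he : e.row < D.rank + D.nroots
    · rw [entsEval_tabExtras D ρ e he, ih, hM, Matrix.mul_assoc,
        bmat_mul_bmat D e.row e.row e.row e.col he, if_pos rfl, Ent.eval, Matrix.mul_smul]
    · rw [hdim e.row he, Ent.eval, bmat_eq_zero_left D e.row e.col he, smul_zero, Matrix.mul_zero,
        zero_add]
      exact ih

/-- the check of `n_p x_s(Y) = x_{s'}(pe) n_p` on all columns; the columns `k` on which `x_s` acts
trivially while `x_{s'}` acts trivially on `n_p e_k` are skipped -/
def reflChk1 (p s s' : ℕ) (pe : Poly) : Bool :=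
  allBelow (D.rank + D.nroots) fun k =>
    bif clearW (rootMask D s) k &&
        allL (fun e : Ent => clearW (rootMask D s') e.row) (nColT D p k) then true
    else entEq ⟨1, 0, 4, 0, k⟩
      (leftTab (nColT D p) (leftXN D s [⟨1, 0, 0, 0, 1, 0⟩] [unitE k]))
      (leftXN D s' pe (nColT D p k))

/-- the check of `n_p x_s(Y) = x_{s'}(±Y) n_p` for the `i`-th fundamental root `p` and the
reflected root `s'` -/
def reflChk (i s : ℕ) : Bool :=
  reflChk1 D (simpleN D i) s (D.reflectRoot i s) [⟨1, 0, 0, 0, 1, 0⟩] ||
    reflChk1 D (simpleN D i) s (D.reflectRoot i s) [⟨0, 1, 0, 0, 1, 0⟩]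

/-- the check for the `i`-th fundamental root and the roots `lo ≤ s < lo + n` -/
def reflChkR (i lo n : ℕ) : Bool := allBelow n fun j => reflChk D i (Nat.add lo j)

theorem reflChkR_spec (i lo n : ℕ) (h : reflChkR D i lo n = true) (s : ℕ) (h1 : lo ≤ s)
    (h2 : s < lo + n) : reflChk D i s = true := by
  have h3 := (allBelow_iff _ _).mp h (s - lo) (by omega)
  have h4 : Nat.add lo (s - lo) = s := by
    show lo + (s - lo) = s
    omega
  rw [h4] at h3
  exact h3

variable {D}

theorem nTab_sound (h : tablesCheck D = true) (p : ℕ) (hp : p < D.nroots) (ρ : Val F) (k : ℕ) :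
    entsEval D ρ (nColT D p k) = D.nMat F p 1 * bmat D F k k := by
  rw [nColT_eq]
  by_cases hk : k < D.rank + D.nroots
  · rw [if_pos hk, leftWordN_sound h, entsEval_unitE, ChevalleyDatum.nMat]
    congr 2
    simp [ChevalleyDatum.nWord, evalWord, nWord1, Poly.eval, Mono.eval, Mono.mon, neg_eq h p hp]
  · rw [if_neg hk, bmat_eq_zero_right D k k hk, Matrix.mul_zero]
    rfl

theorem leftXN_eval_of_clear (hm : maskCheck D = true) (ρ : Val F) (r : ℕ) (p : Poly)
    (L : List Ent) (hL : ∀ e ∈ L, clearW (rootMask D r) e.row = true) :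
    entsEval D ρ (leftXN D r p L) = entsEval D ρ L := by
  unfold leftXN
  by_cases hr : r < D.nroots
  · rw [blt_true' hr, cond_true]
    induction L with
    | nil => rfl
    | cons e L ih =>
      have h1 : leftColN (colN D r) p (e :: L) =
          ins e (addExtrasN e p (colN D r e.row) (leftColN (colN D r) p L)) := rfl
      have h2 : colN D r e.row = [] :=
        colN_nil_of_clear hm r hr e.row (hL e (List.mem_cons_self ..))
      rw [h1, h2, entsEval_ins, entsEval_cons]
      congr 1
      exact ih (fun e' he' => hL e' (List.mem_cons_of_mem _ he'))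
  · rw [blt_false' hr, cond_false]

theorem refl_of_check1 (h : tablesCheck D = true) (hm : maskCheck D = true) (p s s' : ℕ)
    (hp : p < D.nroots) (pe : Poly) (hc : reflChk1 D p s s' pe = true) (ρ : Val F) :
    D.nMat F p 1 * D.x F s ρ.y = D.x F s' (Poly.eval ρ pe) * D.nMat F p 1 := by
  apply mat_eq_of_mul_bmat
  intro k hk
  have h2 : Poly.eval ρ [⟨1, 0, 0, 0, 1, 0⟩] = ρ.y := by
    simp [Poly.eval, Mono.eval, Mono.mon]
  have h0 := (allBelow_iff _ _).mp hc k hk
  rw [Matrix.mul_assoc, Matrix.mul_assoc]
  by_cases hsk : (clearW (rootMask D s) k &&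
      allL (fun e : Ent => clearW (rootMask D s') e.row) (nColT D p k)) = true
  · rw [Bool.and_eq_true] at hsk
    have h3 : D.x F s ρ.y * bmat D F k k = bmat D F k k := by
      rw [← h2, ← entsEval_unitE D ρ k, ← leftXN_sound h,
        leftXN_unit_of_nil s _ (unitE k) (fun hs => colN_nil_of_clear hm s hs k hsk.1)]
    rw [h3, ← nTab_sound h p hp ρ k, ← leftXN_sound h,
      leftXN_eval_of_clear hm ρ s' pe _ ((allL_iff _ _).mp hsk.2)]
  · have hsk' : (clearW (rootMask D s) k &&
        allL (fun e : Ent => clearW (rootMask D s') e.row) (nColT D p k)) = false := by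
      simpa using hsk
    rw [hsk', cond_false] at h0
    have h1 := entEq_sound D ρ _ _ _ h0
    rw [leftTab_sound D ρ (nColT D p) (D.nMat F p 1) (nTab_sound h p hp ρ)
      (fun k hk => by rw [nColT_eq, if_neg hk]), leftXN_sound h, leftXN_sound h,
      nTab_sound h p hp ρ, entsEval_unitE, h2] at h1
    exact h1

/-- `n_p x_s(t) = x_{s'}(η t) n_p` with a sign `η` -/
theorem refl_of_check (h : tablesCheck D = true) (hm : maskCheck D = true) (i s : ℕ)
    (hp : D.simple i < D.nroots)
    (hc : reflChk D i s = true) :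
    ∃ η : ℤ, (η = 1 ∨ η = -1) ∧ ∀ t : F, D.nMat F (D.simple i) 1 * D.x F s t =
      D.x F (D.reflectRoot i s) ((η : F) * t) * D.nMat F (D.simple i) 1 := by
  unfold reflChk at hc
  rw [simpleN_eq, Bool.or_eq_true] at hc
  rcases hc with hc | hc
  · refine ⟨1, Or.inl rfl, fun t => ?_⟩
    by_cases ht : t = 0
    · subst ht
      simp [x_zero]
    · have := refl_of_check1 h hm _ s _ hp _ hc (⟨1, t, one_ne_zero, ht⟩ : Val F)
      simpa [Poly.eval, Mono.eval, Mono.mon] using this
  · refine ⟨-1, Or.inr rfl, fun t => ?_⟩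
    by_cases ht : t = 0
    · subst ht
      simp [x_zero]
    · have := refl_of_check1 h hm _ s _ hp _ hc (⟨1, t, one_ne_zero, ht⟩ : Val F)
      simpa [Poly.eval, Mono.eval, Mono.mon] using this

end Cfsg.Agent.H22
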