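import Cfsg.Agent.H22.SL2Hom
import Cfsg.Agent.H22.ChevRefl
import Cfsg.Agent.H22.ChevHAll
import Cfsg.Agent.H22.ChevMonoAll
import Cfsg.Agent.S1023

/-!
# The homomorphism `SL₂(F) → ⟨X_r, X_{-r}⟩` (helper22)

The rank one relations for `x_r(t)`, `x_{-r}(t)` are obtained from the kernel check of
`n_r x_r(u) = x_{-r}(-u) n_r` and `n_r x_{-r}(u) = x_r(-u) n_r`, together with the diagonal form of `h_r(t)`.
-/

set_option autoImplicit false

namespace Cfsg.Agent.H22

open Cfsg Cfsg.Lie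

variable (D : ChevalleyDatum)

/-- the rank one check for the root `r` -/
def sl2Chk1 (r : ℕ) : Bool :=
  reflChk1 D r r (Nat.sub (Nat.sub D.nroots 1) r) [⟨0, 1, 0, 0, 1, 0⟩] &&
  reflChk1 D r (Nat.sub (Nat.sub D.nroots 1) r) r [⟨0, 1, 0, 0, 1, 0⟩] &&
  Nat.beq (pairP D r r) (Nat.add (pairN D r r) 2) &&
  Nat.beq (Nat.add (pairP D r (Nat.sub (Nat.sub D.nroots 1) r)) 2)
    (pairN D r (Nat.sub (Nat.sub D.nroots 1) r))

/-- the rank one check for the roots `lo ≤ r < lo + n` -/
def sl2Chk (lo n : ℕ) : Bool := allBelow n fun j => sl2Chk1 D (Nat.add lo j)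

theorem sl2Chk_spec (lo n : ℕ) (h : sl2Chk D lo n = true) (r : ℕ) (h1 : lo ≤ r)
    (h2 : r < lo + n) : sl2Chk1 D r = true := by
  have h3 := (allBelow_iff _ _).mp h (r - lo) (by omega)
  have h4 : Nat.add lo (r - lo) = r := by
    show lo + (r - lo) = r
    omega
  rwa [h4] at h3

variable {D} {F : Type*} [Field F]

/-- the facts about the root `r` used for the rank one relations -/
structure SL2Facts (D : ChevalleyDatum) (F : Type*) [Field F] (r : ℕ) : Prop where
  nx : ∀ u : F, D.nMat F r 1 * D.x F r u = D.x F (D.neg r) (-u) * D.nMat F r 1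
  ny : ∀ u : F, D.nMat F r 1 * D.x F (D.neg r) u = D.x F r (-u) * D.nMat F r 1
  prr : pairZ D r r = 2
  prn : pairZ D r (D.neg r) = -2

theorem sl2Facts_of_check (h : tablesCheck D = true) (hm : maskCheck D = true) (r : ℕ)
    (hr : r < D.nroots) (hc : sl2Chk1 D r = true) : SL2Facts D F r := by
  simp only [sl2Chk1, Bool.and_eq_true] at hc
  obtain ⟨⟨⟨c1, c2⟩, c3⟩, c4⟩ := hc
  have hneg : D.neg r = Nat.sub (Nat.sub D.nroots 1) r := neg_eq h r hr
  have hn : D.neg r < D.nroots := neg_lt h r hr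
  refine ⟨?_, ?_, ?_, ?_⟩
  · intro u
    by_cases hu : u = 0
    · subst hu
      simp [x_zero]
    · have := refl_of_check1 h hm r r _ hr _ c1 (⟨1, u, one_ne_zero, hu⟩ : Val F)
      rw [hneg]
      simpa [Poly.eval, Mono.eval, Mono.mon] using this
  · intro u
    by_cases hu : u = 0
    · subst hu
      simp [x_zero]
    · have := refl_of_check1 h hm r _ r hr _ c2 (⟨1, u, one_ne_zero, hu⟩ : Val F)
      rw [hneg]
      simpa [Poly.eval, Mono.eval, Mono.mon] using this
  · have e := Nat.eq_of_beq_eq_true c3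
    have e' : pairP D r r = pairN D r r + 2 := e
    unfold pairZ
    omega
  · have e := Nat.eq_of_beq_eq_true c4
    rw [hneg]
    have e' : pairP D r (Nat.sub (Nat.sub D.nroots 1) r) + 2
        = pairN D r (Nat.sub (Nat.sub D.nroots 1) r) := e
    unfold pairZ
    omega

/-- the root element as a unit -/
def xU (hD : D ∈ [chevG2, chevB2, chevD4, chevF4, chevE6, chevE7, chevE8]) (r : ℕ)
    (hr : r < D.nroots) (t : F) : GL D.Idx F :=
  ⟨D.x F r t, D.x F r (-t),
    by rw [Cfsg.Agent.S1023.result D hD r hr, add_neg_cancel, x_zero],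
    by rw [Cfsg.Agent.S1023.result D hD r hr, neg_add_cancel, x_zero]⟩

theorem xU_val (hD : D ∈ [chevG2, chevB2, chevD4, chevF4, chevE6, chevE7, chevE8]) (r : ℕ)
    (hr : r < D.nroots) (t : F) :
    ((xU hD r hr t : GL D.Idx F) : Matrix D.Idx D.Idx F) = D.x F r t := rfl

theorem wE_val (hD : D ∈ [chevG2, chevB2, chevD4, chevF4, chevE6, chevE7, chevE8]) (r : ℕ)
    (hr : r < D.nroots) (hn : D.neg r < D.nroots) (t : F) :
    ((SL2.wE (xU hD r hr) (xU hD (D.neg r) hn) t : GL D.Idx F) : Matrix D.Idx D.Idx F)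
      = D.nMat F r t := by
  simp only [SL2.wE, Units.val_mul, xU_val, ChevalleyDatum.nMat, ChevalleyDatum.nWord,
    ChevalleyDatum.wordMat, List.map_cons, List.map_nil, List.prod_cons, List.prod_nil,
    Matrix.mul_one, Matrix.mul_assoc]

theorem hMat_eq_nn (r : ℕ) (t : F) : D.hMat F r t = D.nMat F r t * D.nMat F r (-1) := by
  rw [ChevalleyDatum.hMat, ChevalleyDatum.hWord, wordMat_append]
  rfl

theorem hE_val (hD : D ∈ [chevG2, chevB2, chevD4, chevF4, chevE6, chevE7, chevE8]) (r : ℕ)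
    (hr : r < D.nroots) (hn : D.neg r < D.nroots) (t : F) :
    ((SL2.hE (xU hD r hr) (xU hD (D.neg r) hn) t : GL D.Idx F) : Matrix D.Idx D.Idx F)
      = D.hMat F r t := by
  rw [SL2.hE, Units.val_mul, wE_val, wE_val, hMat_eq_nn]

theorem hMat_mul_n1 (hD : D ∈ [chevG2, chevB2, chevD4, chevF4, chevE6, chevE7, chevE8]) (r : ℕ)
    (hr : r < D.nroots) (t : F) : D.hMat F r t * D.nMat F r 1 = D.nMat F r t := by
  have h2 := nMat_mul_nMat_neg hD r hr (-1 : F)
  rw [_root_.neg_neg] at h2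
  rw [hMat_eq_nn, Matrix.mul_assoc, h2, Matrix.mul_one]

theorem sl2_rel (hD : D ∈ [chevG2, chevB2, chevD4, chevF4, chevE6, chevE7, chevE8]) (r : ℕ)
    (hr : r < D.nroots) (hn : D.neg r < D.nroots) (S : SL2Facts D F r) :
    SL2.Rel (xU (F := F) hD r hr) (xU hD (D.neg r) hn) where
  xadd := fun s t => Units.ext (Cfsg.Agent.S1023.result D hD r hr s t)
  yadd := fun s t => Units.ext (Cfsg.Agent.S1023.result D hD (D.neg r) hn s t)
  wx := by
    intro t u ht
    apply Units.ext
    rw [Units.val_mul, Units.val_mul, wE_val, xU_val, xU_val, ← hMat_mul_n1 hD r hr t,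
      Matrix.mul_assoc, S.nx, ← Matrix.mul_assoc, hMat_mul_x D hD r (D.neg r) hr hn t ht, S.prn,
      Matrix.mul_assoc]
    congr 2
    rw [zpow_neg, mul_neg, inv_pow]
    norm_cast
  wy := by
    intro t u ht
    apply Units.ext
    rw [Units.val_mul, Units.val_mul, wE_val, xU_val, xU_val, ← hMat_mul_n1 hD r hr t,
      Matrix.mul_assoc, S.ny, ← Matrix.mul_assoc, hMat_mul_x D hD r r hr hr t ht, S.prr,
      Matrix.mul_assoc]
    congr 2
    rw [mul_neg]
    norm_cast
  hmul := by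
    intro t u ht hu
    apply Units.ext
    rw [Units.val_mul, hE_val, hE_val, hE_val, hMat_eq_diagonal D hD r hr t ht,
      hMat_eq_diagonal D hD r hr u hu, hMat_eq_diagonal D hD r hr (t * u) (mul_ne_zero ht hu),
      Matrix.diagonal_mul_diagonal]
    congr 1
    funext j
    rcases j with a | s
    · simp
    · simp [mul_zpow]

/-- the homomorphism from `SL₂(F)` onto `⟨X_r, X_{-r}⟩` -/
theorem sl2_hom (hD : D ∈ [chevG2, chevB2, chevD4, chevF4, chevE6, chevE7, chevE8]) (r : ℕ)
    (hr : r < D.nroots) (S : SL2Facts D F r) :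
    ∃ φ : Matrix.SpecialLinearGroup (Fin 2) F →* GL D.Idx F,
      φ.range = D.rootSubgroup F r ⊔ D.rootSubgroup F (D.neg r) ∧
      ∀ (g : Matrix.SpecialLinearGroup (Fin 2) F) (t : F),
        ((g : Matrix (Fin 2) (Fin 2) F) = !![1, t; 0, 1] →
          ((φ g : GL D.Idx F) : Matrix D.Idx D.Idx F) = D.x F r t) ∧
        ((g : Matrix (Fin 2) (Fin 2) F) = !![1, 0; t, 1] →
          ((φ g : GL D.Idx F) : Matrix D.Idx D.Idx F) = D.x F (D.neg r) t) := by
  have hn := neg_lt (tablesCheck_all D hD) r hr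
  have R := sl2_rel hD r hr hn S
  refine ⟨SL2.phiHom R, ?_, ?_⟩
  · apply le_antisymm
    · rintro _ ⟨g, rfl⟩
      rw [SL2.phiHom_apply]
      apply SL2.phi_mem
      · intro t
        exact Subgroup.mem_sup_left (Subgroup.subset_closure ⟨t, rfl⟩)
      · intro t
        exact Subgroup.mem_sup_right (Subgroup.subset_closure ⟨t, rfl⟩)
    · rw [sup_le_iff]
      constructor
      · unfold ChevalleyDatum.rootSubgroup
        rw [Subgroup.closure_le]
        rintro g ⟨t, hg⟩
        refine ⟨SL2.uM t, ?_⟩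
        rw [SL2.phiHom_apply, SL2.phi_uM R]
        exact Units.ext hg.symm
      · unfold ChevalleyDatum.rootSubgroup
        rw [Subgroup.closure_le]
        rintro g ⟨t, hg⟩
        refine ⟨SL2.lM t, ?_⟩
        rw [SL2.phiHom_apply, SL2.phi_lM R]
        exact Units.ext hg.symm
  · intro g t
    constructor
    · intro hg
      have e : g = SL2.uM t := Subtype.ext hg
      rw [e, SL2.phiHom_apply, SL2.phi_uM R]
      rfl
    · intro hg
      have e : g = SL2.lM t := Subtype.ext hg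
      rw [e, SL2.phiHom_apply, SL2.phi_lM R]
      rfl

end Cfsg.Agent.H22
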