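import Cfsg.Agent.H22.ChevCol
import Cfsg.Agent.H22.ChevLit

/-!
# Packed tables for fast kernel evaluation of the columns of `x_r(t)` (helper22)
-/

set_option autoImplicit false

namespace Cfsg.Agent.H22

open Cfsg Cfsg.Lie

variable (D : ChevalleyDatum)

/-! ## generic list/array helpers -/

theorem blt_true' {k n : ℕ} (h : k < n) : Nat.blt k n = true := by
  simp only [Nat.blt, Nat.ble_eq]; omega
theorem blt_false' {k n : ℕ} (h : ¬ k < n) : Nat.blt k n = false := by
  rw [Bool.eq_false_iff]; simp only [Nat.blt, ne_eq, Nat.ble_eq]; omega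
theorem ble_true' {k n : ℕ} (h : k ≤ n) : Nat.ble k n = true := by
  simp only [Nat.ble_eq]; omega
theorem ble_false' {k n : ℕ} (h : ¬ k ≤ n) : Nat.ble k n = false := by
  rw [Bool.eq_false_iff]; simp only [ne_eq, Nat.ble_eq]; omega
theorem beq_true' {k n : ℕ} (h : k = n) : Nat.beq k n = true := by
  subst h; exact Nat.beq_refl k
theorem beq_false' {k n : ℕ} (h : ¬ k = n) : Nat.beq k n = false := by
  rw [Bool.eq_false_iff]; intro h'; exact h (Nat.eq_of_beq_eq_true h')

theorem arr_getD_of_eq {α : Type*} (a : Array α) (n : ℕ) (f : ℕ → α) (d : α)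
    (h : a.toList = (List.range n).map f) (s : ℕ) (hs : s < n) : a.getD s d = f s := by
  rw [Array.getD_eq_getD_getElem?, ← Array.getElem?_toList, h]
  simp [hs]

theorem arr_getD_map_of_eq {α β : Type*} (A : Array α) (g : α → β) (n : ℕ) (f : ℕ → β)
    (h : A.toList.map g = (List.range n).map f) (i : ℕ) (hi : i < n) (d : α) :
    g (A.getD i d) = f i := by
  have h1 : (A.toList.map g)[i]? = some (f i) := by
    rw [h]; simp [hi]
  rw [List.getElem?_map] at h1
  rw [Array.getD_eq_getD_getElem?, ← Array.getElem?_toList]
  cases h2 : A.toList[i]? with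
  | none => rw [h2] at h1; simp at h1
  | some a =>
    rw [h2] at h1
    simp only [Option.map_some, Option.some.injEq] at h1
    simpa using h1

theorem filter_filterMap_key {β : Type*} (L : List ℕ) (hL : L.Nodup) (φ : ℕ → Option (ℕ × β))
    (hφ : ∀ s e, φ s = some e → e.1 = s) (s : ℕ) :
    (L.filterMap φ).filter (fun e => e.1 = s) = if s ∈ L then (φ s).toList else [] := by
  induction L with
  | nil => simp
  | cons a L ih =>
    rw [List.nodup_cons] at hL
    obtain ⟨ha, hL⟩ := hL
    have ih' := ih hL
    cases hφa : φ a with
    | none =>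
      rw [List.filterMap_cons_none hφa, ih']
      by_cases hs : s = a
      · subst hs
        simp [ha, hφa]
      · simp [hs]
    | some e =>
      have he := hφ a e hφa
      rw [List.filterMap_cons_some hφa, List.filter_cons, ih']
      by_cases hs : s = a
      · subst hs
        simp [ha, hφa, he]
      · have : ¬ e.1 = s := by rw [he]; exact fun h => hs h.symm
        simp [hs, this]

/-! ## the packed tables -/

/-- dispatch on the number of roots to one of the literal tables of `ChevLit` (the tables are
verified against the datum by `tablesCheck` below, so any choice here is sound) -/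
def pickLit {α : Type} (g2 b2 d4 f4 e6 e7 e8 dflt : α) : α :=
  bif Nat.beq D.nroots 12 then g2 else bif Nat.beq D.nroots 8 then b2
  else bif Nat.beq D.nroots 24 then d4 else bif Nat.beq D.nroots 48 then f4
  else bif Nat.beq D.nroots 72 then e6 else bif Nat.beq D.nroots 126 then e7
  else bif Nat.beq D.nroots 240 then e8 else dflt

/-- packed Cartan integers: 8 bits per pair `(i, s)`, offset 128 -/
def cartanPack : ℕ :=
  pickLit D cartanLitG2 cartanLitB2 cartanLitD4 cartanLitF4 cartanLitE6 cartanLitE7 cartanLitE8 0

def cartanF (i s : ℕ) : ℤ :=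
  (((cartanPack D >>> (8 * (i * D.nroots + s))) &&& 255 : ℕ) : ℤ) - 128

/-- packed coroot coefficients: 8 bits per pair `(r, i)`, offset 128 -/
def corootPack : ℕ :=
  pickLit D corootLitG2 corootLitB2 corootLitD4 corootLitF4 corootLitE6 corootLitE7 corootLitE8 0

def corootF (r i : ℕ) : ℤ :=
  (((corootPack D >>> (8 * (r * D.rank + i))) &&& 255 : ℕ) : ℤ) - 128

/-- packed chains of the root `r`: 33 bits per root `s`, 11 bits per link (8 bits root index,
3 bits `M + 4`) -/
def chainRow (r : ℕ) : ℕ :=
  pickLit D chainRowG2 chainRowB2 chainRowD4 chainRowF4 chainRowE6 chainRowE7 chainRowE8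
    (fun _ => 0) r

def slotF (r s : ℕ) : ℕ := Nat.land (Nat.shiftRight (chainRow D r) (Nat.mul 33 s)) 8589934591

def decodeSlot (v : ℕ) : List (ℕ × ℤ) :=
  bif Nat.beq (v &&& 2047) 0 then [] else
  ((v &&& 2047) &&& 255, (((v &&& 2047) >>> 8 : ℕ) : ℤ) - 4) ::
    (bif Nat.beq ((v >>> 11) &&& 2047) 0 then [] else
    (((v >>> 11) &&& 2047) &&& 255, ((((v >>> 11) &&& 2047) >>> 8 : ℕ) : ℤ) - 4) ::
      (bif Nat.beq ((v >>> 22) &&& 2047) 0 then [] else
      [(((v >>> 22) &&& 2047) &&& 255, ((((v >>> 22) &&& 2047) >>> 8 : ℕ) : ℤ) - 4)]))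

def decodeAll (r : ℕ) : List (ℕ × List (ℕ × ℤ)) :=
  (List.range D.nroots).filterMap fun s =>
    bif (decodeSlot (slotF D r s)).isEmpty then none else some (s, decodeSlot (slotF D r s))

/-- the fast column function -/
def colFast (r k : ℕ) : List (ℕ × ℤ × ℕ) :=
  bif Nat.blt k D.rank then [(D.rank + r, - cartanF D k r, 1)]
  else bif Nat.ble (D.rank + D.nroots) k then []
  else bif Nat.beq k (D.rank + r) then []
  else bif Nat.beq k (D.rank + (D.nroots - 1 - r)) then
    ((List.range D.rank).map fun i => (i, corootF D r i, 1)) ++ [(D.rank + r, -1, 2)]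
  else chainCol D.rank (decodeSlot (slotF D r (k - D.rank)))

/-! ## the checks -/

def cartanCheck : Bool :=
  decide (D.cartanSR.toList.map Array.toList =
    (List.range D.rank).map fun i => (List.range D.nroots).map fun s => cartanF D i s)

def corootCheck : Bool :=
  decide (D.coroot.toList.map Array.toList =
    (List.range D.nroots).map fun r => (List.range D.rank).map fun i => corootF D r i)

def negTabCheck : Bool :=
  decide (D.negIdx.toList = (List.range D.nroots).map fun r => D.nroots - 1 - r)

def chainCheck : Bool :=
  decide (D.chain.toList.map (fun a => a.toList.map fun e => (e.1, e.2.toList)) =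
    (List.range D.nroots).map (decodeAll D))

def tablesCheck : Bool := cartanCheck D && corootCheck D && negTabCheck D && chainCheck D

variable {D}

theorem cartanF_eq (h : tablesCheck D = true) (i s : ℕ) (hi : i < D.rank) (hs : s < D.nroots) :
    cartanF D i s = D.cartan i s := by
  simp only [tablesCheck, Bool.and_eq_true] at h
  have h1 := h.1.1.1
  simp only [cartanCheck, decide_eq_true_eq] at h1
  have h2 := arr_getD_map_of_eq D.cartanSR Array.toList D.rank _ h1 i hi #[]
  exact (arr_getD_of_eq _ D.nroots _ 0 h2 s hs).symm

theorem corootF_eq (h : tablesCheck D = true) (r i : ℕ) (hr : r < D.nroots) (hi : i < D.rank) :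
    corootF D r i = (D.coroot.getD r #[]).getD i 0 := by
  simp only [tablesCheck, Bool.and_eq_true] at h
  have h1 := h.1.1.2
  simp only [corootCheck, decide_eq_true_eq] at h1
  have h2 := arr_getD_map_of_eq D.coroot Array.toList D.nroots _ h1 r hr #[]
  exact (arr_getD_of_eq _ D.rank _ 0 h2 i hi).symm

theorem neg_eq (h : tablesCheck D = true) (r : ℕ) (hr : r < D.nroots) :
    D.neg r = D.nroots - 1 - r := by
  simp only [tablesCheck, Bool.and_eq_true] at h
  have h1 := h.1.2
  simp only [negTabCheck, decide_eq_true_eq] at h1
  exact arr_getD_of_eq _ D.nroots _ 0 h1 r hr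

theorem neg_lt (h : tablesCheck D = true) (r : ℕ) (hr : r < D.nroots) : D.neg r < D.nroots := by
  rw [neg_eq h r hr]; omega

theorem neg_neg (h : tablesCheck D = true) (r : ℕ) (hr : r < D.nroots) : D.neg (D.neg r) = r := by
  rw [neg_eq h _ (neg_lt h r hr), neg_eq h r hr]; omega

theorem chainList_eq (h : tablesCheck D = true) (r : ℕ) (hr : r < D.nroots) :
    chainList D r = decodeAll D r := by
  simp only [tablesCheck, Bool.and_eq_true] at h
  have h1 := h.2
  simp only [chainCheck, decide_eq_true_eq] at h1
  exact arr_getD_map_of_eq D.chain (fun a => a.toList.map fun e => (e.1, e.2.toList)) D.nroots _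
    h1 r hr #[]

theorem chain_filter_eq (h : tablesCheck D = true) (r s : ℕ) (hr : r < D.nroots)
    (hs : s < D.nroots) :
    (((chainList D r).filter fun e => e.1 = s).flatMap fun e => chainCol D.rank e.2) =
      chainCol D.rank (decodeSlot (slotF D r s)) := by
  rw [chainList_eq h r hr]
  unfold decodeAll
  rw [filter_filterMap_key (List.range D.nroots) List.nodup_range _ _ s]
  · rw [if_pos (List.mem_range.mpr hs)]
    cases hl : (decodeSlot (slotF D r s)).isEmpty with
    | true =>
      have : decodeSlot (slotF D r s) = [] := List.isEmpty_iff.mp hl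
      simp [this, chainCol]
    | false => simp
  · intro s' e he
    cases hl : (decodeSlot (slotF D r s')).isEmpty with
    | true => rw [hl] at he; simp at he
    | false =>
      rw [hl] at he
      simp only [cond_false, Option.some.injEq] at he
      rw [← he]

theorem colFast_eq (h : tablesCheck D = true) (r : ℕ) (hr : r < D.nroots) (k : ℕ) :
    colFast D r k = colRef D r k := by
  unfold colFast colRef
  by_cases h1 : k < D.rank
  · have : Nat.blt k D.rank = true := blt_true' h1
    rw [this, cond_true, if_pos h1, cartanF_eq h k r h1 hr]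
  · have : Nat.blt k D.rank = false := blt_false' h1
    rw [this, cond_false, if_neg h1]
    by_cases h2 : D.rank + D.nroots ≤ k
    · have : Nat.ble (D.rank + D.nroots) k = true := ble_true' h2
      rw [this, cond_true, if_pos h2]
    · have : Nat.ble (D.rank + D.nroots) k = false := ble_false' h2
      rw [this, cond_false, if_neg h2]
      by_cases h3 : k = D.rank + r
      · have : Nat.beq k (D.rank + r) = true := beq_true' h3
        rw [this, cond_true, if_pos h3]
      · have : Nat.beq k (D.rank + r) = false := beq_false' h3
        rw [this, cond_false, if_neg h3, neg_eq h r hr]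
        by_cases h4 : k = D.rank + (D.nroots - 1 - r)
        · have : Nat.beq k (D.rank + (D.nroots - 1 - r)) = true := beq_true' h4
          rw [this, cond_true, if_pos h4]
          congr 1
          apply List.map_congr_left
          intro i hi
          rw [corootF_eq h r i hr (List.mem_range.mp hi)]
        · have : Nat.beq k (D.rank + (D.nroots - 1 - r)) = false := beq_false' h4
          rw [this, cond_false, if_neg h4]
          exact (chain_filter_eq h r (k - D.rank) hr (by omega)).symm

/-! ## soundness of the engine for words -/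

variable {F : Type*} [Field F]

theorem xMat_mulVec_bvec (r : Fin D.nroots) (t : F) (k : ℕ) :
    (D.xMat F r t).mulVec (bvec D F k) = bvec D F k +
      ((colRef D r.val k).map fun e => (((e.2.1 : ℤ) : F) * t ^ e.2.2) • bvec D F e.1).sum := by
  by_cases hk : k < D.rank + D.nroots
  · obtain ⟨col, rfl⟩ := exists_enc_eq D k hk
    rw [bvec_enc, Matrix.mulVec_single_one]
    funext row
    rw [Matrix.col_apply, xMat_apply, Pi.add_apply, Pi.list_sum_apply, List.map_map]
    congr 1
    · simp [Pi.single_apply]
    · apply congrArg
      apply List.map_congr_left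
      intro e _
      simp [bvec]
  · have h1 : ¬ k < D.rank := by omega
    have : colRef D r.val k = [] := by
      unfold colRef
      rw [if_neg h1, if_pos (by omega)]
    rw [this, bvec_of_not_lt D F k hk]
    simp

end Cfsg.Agent.H22
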