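import Cfsg.Agent.H22.ChevH

/-!
# Diagonal matrices of weight type and root elements (helper22)

A function `lam` on root indices is *compatible* if it is additive along all columns of all root
elements; the diagonal matrix `diag(1, …, 1, c^lam(u))` then conjugates `x_s(t)` to
`x_s(c^lam(s) t)`.  The rows of the Cartan table are compatible (a kernel computation), hence so
are the functions `⟨·, r∨⟩`.
-/

set_option autoImplicit false

namespace Cfsg.Agent.H22

open Cfsg Cfsg.Lie

variable (D : ChevalleyDatum)

/-- the weight of an encoded index -/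
def wtIdx (lam : ℕ → ℤ) (k : ℕ) : ℤ := if k < D.rank then 0 else lam (k - D.rank)

/-- `lam` is additive along the columns of all root elements -/
def Compat (lam : ℕ → ℤ) : Prop :=
  ∀ s < D.nroots, ∀ k < D.rank + D.nroots, ∀ e ∈ colRef D s k,
    wtIdx D lam e.1 = (e.2.2 : ℤ) * lam s + wtIdx D lam k

theorem Compat.zero : Compat D (fun _ => 0) := by
  intro s _ k _ e _
  simp [wtIdx]

variable {D}

theorem Compat.add {lam lam' : ℕ → ℤ} (h : Compat D lam) (h' : Compat D lam') :
    Compat D (fun s => lam s + lam' s) := by
  intro s hs k hk e he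
  have h1 := h s hs k hk e he
  have h2 := h' s hs k hk e he
  simp only [wtIdx] at h1 h2 ⊢
  split_ifs at h1 h2 ⊢ <;> linarith

theorem Compat.smul {lam : ℕ → ℤ} (a : ℤ) (h : Compat D lam) : Compat D (fun s => a * lam s) := by
  intro s hs k hk e he
  have h1 := h s hs k hk e he
  simp only [wtIdx] at h1 ⊢
  split_ifs at h1 ⊢
  · linear_combination a * h1
  · linear_combination a * h1
  · linear_combination a * h1
  · linear_combination a * h1

theorem Compat.listSum (L : List ℕ) (a : ℕ → ℤ) (lam : ℕ → ℕ → ℤ)
    (h : ∀ i ∈ L, Compat D (lam i)) : Compat D (fun s => (L.map fun i => a i * lam i s).sum) := by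
  induction L with
  | nil => simpa using Compat.zero D
  | cons i L ih =>
    have h1 := (h i (List.mem_cons_self ..)).smul (a i)
    have h2 := ih (fun j hj => h j (List.mem_cons_of_mem _ hj))
    simpa using h1.add h2

variable {F : Type*} [Field F]

/-- a diagonal matrix of weight type conjugates root elements to root elements -/
theorem diagonal_mul_x (lam : ℕ → ℤ) (hlam : Compat D lam) (c : F) (hc : c ≠ 0)
    (s : ℕ) (hs : s < D.nroots) (t : F) :
    Matrix.diagonal (fun j : D.Idx => c ^ wtIdx D lam (enc D j)) * D.x F s t =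
      D.x F s (c ^ lam s * t) * Matrix.diagonal (fun j : D.Idx => c ^ wtIdx D lam (enc D j)) := by
  rw [x_eq_xMat D F s hs, x_eq_xMat D F s hs]
  ext a b
  rw [Matrix.diagonal_mul, Matrix.mul_diagonal, xMat_apply, xMat_apply, mul_add, add_mul]
  congr 1
  · by_cases hab : a = b
    · subst hab; simp
    · simp [hab]
  · rw [← List.sum_map_mul_left, ← List.sum_map_mul_right]
    congr 1
    apply List.map_congr_left
    intro e he
    by_cases hrow : enc D a = e.1
    · rw [if_pos hrow, if_pos hrow]
      have h1 := hlam s hs (enc D b) (enc_lt D b) e he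
      rw [hrow, h1, zpow_add₀ hc, mul_comm (e.2.2 : ℤ) (lam s), zpow_mul, zpow_natCast, mul_pow]
      ring
    · rw [if_neg hrow, if_neg hrow, mul_zero, zero_mul]

/-! ## the rows of the Cartan table are compatible -/

variable (D)

/-- all elements of a list satisfy `p` -/
def allL {α : Type} (p : α → Bool) (L : List α) : Bool := List.rec true (fun x _ ih => p x && ih) L

theorem allL_iff {α : Type} (p : α → Bool) (L : List α) :
    allL p L = true ↔ ∀ x ∈ L, p x = true := by
  induction L with
  | nil => simp [allL]
  | cons x L ih =>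
    have : allL p (x :: L) = (p x && allL p L) := rfl
    rw [this, Bool.and_eq_true, ih]
    simp

/-- weight plus 128 of an encoded index for the `i`-th fundamental coroot -/
def wtN (i k : ℕ) : ℕ := bif Nat.blt k D.rank then 128 else cartanN D i (Nat.sub k D.rank)

/-- the check that all rows of the Cartan table are compatible -/
def compatChk : Bool :=
  allBelow D.nroots fun s => allBelow (D.rank + D.nroots) fun k =>
    bif clearW (rootMask D s) k then true
    else allBelow D.rank fun i => allL (fun x : ℕ × ℕ × ℕ × ℕ =>
      Nat.beq (Nat.add (wtN D i x.1) (Nat.mul 128 x.2.2.2))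
        (Nat.add (Nat.mul x.2.2.2 (cartanN D i s)) (wtN D i k))) (colN D s k)

variable {D}

theorem wtIdx_cartan (i k : ℕ) :
    wtIdx D (fun s => cartanF D i s) k = (wtN D i k : ℤ) - 128 := by
  unfold wtIdx wtN
  by_cases hk : k < D.rank
  · rw [if_pos hk, blt_true' hk, cond_true]; simp
  · rw [if_neg hk, blt_false' hk, cond_false]
    exact cartanF_eq_N D i (k - D.rank)

theorem compat_cartan (h : tablesCheck D = true) (hm : maskCheck D = true)
    (hc : compatChk D = true) (i : ℕ) (hi : i < D.rank) : Compat D (fun s => cartanF D i s) := by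
  intro s hs k hk e he
  rw [← colFast_eq h s hs, ← colN_map] at he
  obtain ⟨x, hx, rfl⟩ := List.mem_map.mp he
  have h1 := (allBelow_iff _ _).mp ((allBelow_iff _ _).mp hc s hs) k hk
  by_cases hcl : clearW (rootMask D s) k = true
  · rw [colN_nil_of_clear hm s hs k hcl] at hx
    simp at hx
  · have hcl' : clearW (rootMask D s) k = false := by simpa using hcl
    rw [hcl', cond_false] at h1
    have h2 := (allL_iff _ _).mp ((allBelow_iff _ _).mp h1 i hi) x hx
    have h3 : wtN D i x.1 + 128 * x.2.2.2 = x.2.2.2 * cartanN D i s + wtN D i k :=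
      Nat.eq_of_beq_eq_true h2
    have h4 : ((wtN D i x.1 : ℤ)) + 128 * (x.2.2.2 : ℤ) =
        (x.2.2.2 : ℤ) * (cartanN D i s : ℤ) + (wtN D i k : ℤ) := by exact_mod_cast h3
    rw [wtIdx_cartan, wtIdx_cartan]
    show ((wtN D i x.1 : ℕ) : ℤ) - 128 =
      ((x.2.2.2 : ℕ) : ℤ) * ((cartanN D i s : ℤ) - 128) + ((wtN D i k : ℤ) - 128)
    linear_combination h4

/-- the functions `⟨·, r∨⟩` are compatible -/
theorem compat_pairZ (h : tablesCheck D = true) (hm : maskCheck D = true)
    (hc : compatChk D = true) (r : ℕ) : Compat D (pairZ D r) := by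
  have h1 := Compat.listSum (D := D) (List.range D.rank) (fun i => corootF D r i)
    (fun i s => cartanF D i s)
    (fun i hi => compat_cartan h hm hc i (List.mem_range.mp hi))
  have h2 : pairZ D r = fun s => ((List.range D.rank).map fun i =>
      corootF D r i * cartanF D i s).sum := by
    funext s
    exact pairZ_eq D r s
  rw [h2]
  exact h1

/-- the diagonal matrix of `h_r(c)` written with `wtIdx` -/
theorem hDiag_eq_wt (r : ℕ) (c : F) :
    (Sum.elim (fun _ => (1 : F)) (fun s : Fin D.nroots => c ^ pairZ D r s) : D.Idx → F) =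
      fun j : D.Idx => c ^ wtIdx D (pairZ D r) (enc D j) := by
  funext j
  rcases j with a | s
  · have : wtIdx D (pairZ D r) (enc D (Sum.inl a)) = 0 := by
      unfold wtIdx
      rw [if_pos (show enc D (Sum.inl a) < D.rank from a.isLt)]
    rw [this]; simp
  · have h1 : enc D (Sum.inr s) = D.rank + s.val := rfl
    have : wtIdx D (pairZ D r) (enc D (Sum.inr s)) = pairZ D r s := by
      unfold wtIdx
      rw [h1, if_neg (by omega), Nat.add_sub_cancel_left]
    rw [this]; simp

end Cfsg.Agent.H22
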