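import Cfsg.Agent.H22.MatLev
import Cfsg.Agent.H22.ChevWt
import Cfsg.Agent.S1023

/-!
# Root elements are unitriangular (helper22)

With the basis ordered as: negative root vectors (by index), the `h_i`, positive root vectors (by
index), `x_r(t) - 1` is strictly lower triangular for positive `r` and strictly upper triangular
for negative `r`.
-/

set_option autoImplicit false

namespace Cfsg.Agent.H22

open Cfsg Cfsg.Lie

variable (D : ChevalleyDatum)

/-- the position of an encoded index -/
def posN (k : ℕ) : ℕ :=
  bif Nat.blt k D.rank then Nat.add (Nat.div D.nroots 2) k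
  else bif Nat.blt (Nat.sub k D.rank) (Nat.div D.nroots 2) then Nat.sub k D.rank else k

/-- the position function on the index type -/
def posZ (j : D.Idx) : ℤ := (posN D (enc D j) : ℤ)

theorem posN_lt (k : ℕ) (hk : k < D.rank + D.nroots) : posN D k < D.rank + D.nroots := by
  unfold posN
  have h0 : D.nroots / 2 ≤ D.nroots := Nat.div_le_self _ _
  by_cases h1 : k < D.rank
  · rw [blt_true' h1, cond_true]
    show D.nroots / 2 + k < D.rank + D.nroots
    omega
  · rw [blt_false' h1, cond_false]
    by_cases h2 : k - D.rank < D.nroots / 2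
    · have : Nat.blt (Nat.sub k D.rank) (Nat.div D.nroots 2) = true := blt_true' h2
      rw [this, cond_true]
      show k - D.rank < D.rank + D.nroots
      omega
    · have : Nat.blt (Nat.sub k D.rank) (Nat.div D.nroots 2) = false := blt_false' h2
      rw [this, cond_false]
      exact hk

theorem posZ_bound (i j : D.Idx) : posZ D i - posZ D j < ((D.rank + D.nroots : ℕ) : ℤ) := by
  have h1 := posN_lt D (enc D i) (enc_lt D i)
  unfold posZ
  omega

/-- some `k < n` satisfies `p` -/
def anyBelow (n : ℕ) (p : ℕ → Bool) : Bool := Nat.rec false (fun k ih => p k || ih) n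

theorem anyBelow_iff (n : ℕ) (p : ℕ → Bool) : anyBelow n p = true ↔ ∃ k < n, p k = true := by
  induction n with
  | zero => simp [anyBelow]
  | succ n ih =>
    have : anyBelow (n + 1) p = (p n || anyBelow n p) := rfl
    rw [this, Bool.or_eq_true, ih]
    constructor
    · rintro (h | ⟨k, hk, h⟩)
      · exact ⟨n, Nat.lt_succ_self n, h⟩
      · exact ⟨k, Nat.lt_succ_of_lt hk, h⟩
    · rintro ⟨k, hk, h⟩
      rcases Nat.lt_succ_iff_lt_or_eq.mp hk with h' | rfl
      · exact Or.inr ⟨k, h', h⟩
      · exact Or.inl h

/-- the check that the columns of `x_r(t) - 1` go up for positive `r` (index at least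
`nroots / 2`) and down for negative `r` -/
def triChk : Bool :=
  allBelow D.nroots fun r => allBelow (D.rank + D.nroots) fun k =>
    bif clearW (rootMask D r) k then true
    else allL (fun x : ℕ × ℕ × ℕ × ℕ =>
      bif Nat.blt r (Nat.div D.nroots 2) then Nat.blt (posN D x.1) (posN D k)
      else Nat.blt (posN D k) (posN D x.1)) (colN D r k)

/-- the check that the roots of index below `nroots / 2` have a negative coroot coefficient and
the others a positive one -/
def signChk : Bool :=
  allBelow D.nroots fun r =>
    bif Nat.blt r (Nat.div D.nroots 2) then anyBelow D.rank (fun i => Nat.blt (corootN D r i) 128)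
    else anyBelow D.rank (fun i => Nat.blt 128 (corootN D r i))

variable {D} {F : Type*} [Field F]

theorem exists_col_entry (h : tablesCheck D = true) (r : ℕ) (hr : r < D.nroots) (t : F)
    (row col : D.Idx) (hne : (D.x F r t - 1) row col ≠ 0) :
    ∃ x ∈ colN D r (enc D col), enc D row = x.1 := by
  rw [x_eq_xMat D F r hr, Matrix.sub_apply, xMat_apply, Matrix.one_apply, add_sub_cancel_left]
    at hne
  by_contra hcon
  push Not at hcon
  apply hne
  apply List.sum_eq_zero
  intro y hy
  obtain ⟨e, he, rfl⟩ := List.mem_map.mp hy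
  rw [← colFast_eq h r hr, ← colN_map] at he
  obtain ⟨x, hx, rfl⟩ := List.mem_map.mp he
  have : ¬ enc D row = (toZ x).1 := hcon x hx
  rw [if_neg this]

theorem x_sub_one_lev (h : tablesCheck D = true) (hm : maskCheck D = true)
    (hc : triChk D = true) (r : ℕ) (hr : r < D.nroots) (t : F) :
    (D.nroots / 2 ≤ r → IsLev (posZ D) 1 (D.x F r t - 1)) ∧
      (r < D.nroots / 2 → IsLev (fun j => - posZ D j) 1 (D.x F r t - 1)) := by
  have key : ∀ row col : D.Idx, (D.x F r t - 1) row col ≠ 0 →
      (D.nroots / 2 ≤ r → posN D (enc D col) < posN D (enc D row)) ∧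
      (r < D.nroots / 2 → posN D (enc D row) < posN D (enc D col)) := by
    intro row col hne
    obtain ⟨x, hx, hrow⟩ := exists_col_entry h r hr t row col hne
    have h1 := (allBelow_iff _ _).mp ((allBelow_iff _ _).mp hc r hr) (enc D col) (enc_lt D col)
    by_cases hcl : clearW (rootMask D r) (enc D col) = true
    · rw [colN_nil_of_clear hm r hr _ hcl] at hx
      simp at hx
    · have hcl' : clearW (rootMask D r) (enc D col) = false := by simpa using hcl
      rw [hcl', cond_false] at h1
      have h2 := (allL_iff _ _).mp h1 x hx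
      rw [← hrow] at h2
      constructor
      · intro hpos
        have h3 : Nat.blt r (Nat.div D.nroots 2) = false :=
          blt_false' (by show ¬ r < D.nroots / 2; omega)
        rw [h3, cond_false] at h2
        simpa [Nat.blt] using h2
      · intro hneg
        have h3 : Nat.blt r (Nat.div D.nroots 2) = true := blt_true' hneg
        rw [h3, cond_true] at h2
        simpa [Nat.blt] using h2
  constructor
  · intro hpos row col hne
    have := (key row col hne).1 hpos
    unfold posZ
    omega
  · intro hneg row col hne
    have := (key row col hne).2 hneg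
    show - posZ D col + 1 ≤ - posZ D row
    unfold posZ
    omega

theorem array_getD_mem (a : Array ℤ) (i : ℕ) (hne : a.getD i 0 ≠ 0) : a.getD i 0 ∈ a.toList := by
  by_cases hi : i < a.size
  · have : a.getD i 0 = a[i] := by
      rw [Array.getD_eq_getD_getElem?, Array.getElem?_eq_getElem hi]
      rfl
    rw [this]
    simp
  · exfalso
    apply hne
    rw [Array.getD_eq_getD_getElem?, Array.getElem?_eq_none (by omega)]
    rfl

theorem coroot_mem (r i : ℕ) (hne : (D.coroot.getD r #[]).getD i 0 ≠ 0) :
    (D.coroot.getD r #[]).getD i 0 ∈ (D.coroot.getD r #[]).toList :=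
  array_getD_mem _ i hne

theorem posRoot_ge (h : tablesCheck D = true) (hc : signChk D = true) (r : ℕ)
    (hpos : D.IsPosRoot r) : D.nroots / 2 ≤ r := by
  by_contra hlt
  have hlt' : r < D.nroots / 2 := by omega
  obtain ⟨hr, hall⟩ := hpos
  have h1 := (allBelow_iff _ _).mp hc r hr
  have h3 : Nat.blt r (Nat.div D.nroots 2) = true := blt_true' hlt'
  rw [h3, cond_true] at h1
  obtain ⟨i, hi, h2⟩ := (anyBelow_iff _ _).mp h1
  have h4 : corootN D r i < 128 := by simpa [Nat.blt] using h2
  have h5 := corootF_eq h r i hr hi
  rw [corootF_eq_N] at h5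
  have h6 : (D.coroot.getD r #[]).getD i 0 < 0 := by omega
  have h7 := hall _ (coroot_mem r i (by omega))
  omega

theorem negRoot_lt (h : tablesCheck D = true) (hc : signChk D = true) (r : ℕ)
    (hneg : D.IsNegRoot r) : r < D.nroots / 2 := by
  by_contra hge
  obtain ⟨hr, hall⟩ := hneg
  have h1 := (allBelow_iff _ _).mp hc r hr
  have h3 : Nat.blt r (Nat.div D.nroots 2) = false := blt_false' hge
  rw [h3, cond_false] at h1
  obtain ⟨i, hi, h2⟩ := (anyBelow_iff _ _).mp h1
  have h4 : 128 < corootN D r i := by
    have h2' := h2
    simp only [Nat.blt, Nat.ble_eq] at h2'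
    omega
  have h5 := corootF_eq h r i hr hi
  rw [corootF_eq_N] at h5
  have h6 : 0 < (D.coroot.getD r #[]).getD i 0 := by omega
  have h7 := hall _ (coroot_mem r i (by omega))
  omega

end Cfsg.Agent.H22
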