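import Cfsg.Agent.H22.ChevTri

/-!
# Root elements are unitriangular (helper22): kernel computations and consequences
-/

set_option autoImplicit false
set_option maxRecDepth 1000000

namespace Cfsg.Agent.H22

open Cfsg Cfsg.Lie

theorem triChk_G2 : triChk chevG2 = true := by decide +kernel
theorem triChk_B2 : triChk chevB2 = true := by decide +kernel
theorem triChk_D4 : triChk chevD4 = true := by decide +kernel
theorem triChk_F4 : triChk chevF4 = true := by decide +kernel
theorem triChk_E6 : triChk chevE6 = true := by decide +kernel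
theorem triChk_E7 : triChk chevE7 = true := by decide +kernel
theorem triChk_E8 : triChk chevE8 = true := by decide +kernel

theorem triChk_all (D : ChevalleyDatum)
    (hD : D ∈ [chevG2, chevB2, chevD4, chevF4, chevE6, chevE7, chevE8]) : triChk D = true := by
  simp only [List.mem_cons, List.not_mem_nil, or_false] at hD
  rcases hD with rfl | rfl | rfl | rfl | rfl | rfl | rfl
  exacts [triChk_G2, triChk_B2, triChk_D4, triChk_F4, triChk_E6, triChk_E7, triChk_E8]

theorem signChk_G2 : signChk chevG2 = true := by decide +kernel
theorem signChk_B2 : signChk chevB2 = true := by decide +kernel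
theorem signChk_D4 : signChk chevD4 = true := by decide +kernel
theorem signChk_F4 : signChk chevF4 = true := by decide +kernel
theorem signChk_E6 : signChk chevE6 = true := by decide +kernel
theorem signChk_E7 : signChk chevE7 = true := by decide +kernel
theorem signChk_E8 : signChk chevE8 = true := by decide +kernel

theorem signChk_all (D : ChevalleyDatum)
    (hD : D ∈ [chevG2, chevB2, chevD4, chevF4, chevE6, chevE7, chevE8]) : signChk D = true := by
  simp only [List.mem_cons, List.not_mem_nil, or_false] at hD
  rcases hD with rfl | rfl | rfl | rfl | rfl | rfl | rfl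
  exacts [signChk_G2, signChk_B2, signChk_D4, signChk_F4, signChk_E6, signChk_E7, signChk_E8]

variable {D : ChevalleyDatum} {F : Type*} [Field F]

/-- the inverse of a root element -/
theorem x_inv (hD : D ∈ [chevG2, chevB2, chevD4, chevF4, chevE6, chevE7, chevE8]) (r : ℕ)
    (hr : r < D.nroots) (t : F) (g : GL D.Idx F) (hg : (g : Matrix D.Idx D.Idx F) = D.x F r t) :
    ((g⁻¹ : GL D.Idx F) : Matrix D.Idx D.Idx F) = D.x F r (-t) := by
  rw [Matrix.coe_units_inv, hg]
  apply Matrix.inv_eq_right_inv
  rw [Cfsg.Agent.S1023.result D hD r hr t (-t), add_neg_cancel, x_zero]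

/-- `U` consists of lower unitriangular matrices -/
theorem posUnipotent_le_lev (hD : D ∈ [chevG2, chevB2, chevD4, chevF4, chevE6, chevE7, chevE8]) :
    D.posUnipotent F ≤ levSubgroup (posZ D) 1 := by
  unfold ChevalleyDatum.posUnipotent
  rw [Subgroup.closure_le]
  rintro g ⟨r, t, hpos, hg⟩
  have hr := hpos.1
  have hge := posRoot_ge (tablesCheck_all D hD) (signChk_all D hD) r hpos
  have key : ∀ t : F, IsLev (posZ D) ((1 : ℕ) : ℤ) (D.x F r t - 1) := by
    intro t
    rw [Nat.cast_one]
    exact (x_sub_one_lev (tablesCheck_all D hD) (maskCheck_all D hD) (triChk_all D hD) r hr t).1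
      hge
  refine ⟨?_, ?_⟩
  · rw [hg]; exact key t
  · rw [x_inv hD r hr t g hg]; exact key (-t)

/-- `V` consists of upper unitriangular matrices -/
theorem negUnipotent_le_lev (hD : D ∈ [chevG2, chevB2, chevD4, chevF4, chevE6, chevE7, chevE8]) :
    D.negUnipotent F ≤ levSubgroup (fun j => - posZ D j) 1 := by
  unfold ChevalleyDatum.negUnipotent
  rw [Subgroup.closure_le]
  rintro g ⟨r, t, hneg, hg⟩
  have hr := hneg.1
  have hlt := negRoot_lt (tablesCheck_all D hD) (signChk_all D hD) r hneg
  have key : ∀ t : F, IsLev (fun j => - posZ D j) ((1 : ℕ) : ℤ) (D.x F r t - 1) := by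
    intro t
    rw [Nat.cast_one]
    exact (x_sub_one_lev (tablesCheck_all D hD) (maskCheck_all D hD) (triChk_all D hD) r hr t).2
      hlt
  refine ⟨?_, ?_⟩
  · rw [hg]; exact key t
  · rw [x_inv hD r hr t g hg]; exact key (-t)

end Cfsg.Agent.H22
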