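import Cfsg.Prelude.Def_Steinberg
/-!
Exceptional graph endomorphisms of the Steinberg presented group (helper22).
`x̄_r(t) ↦ x̄_{ρ r}(t ^ λ r)` with `λ r ∈ {1, p}` in characteristic `p`, provided a decidable
table condition `Chk` on the commutator terms holds.
-/
set_option autoImplicit false
open Cfsg Cfsg.Lie

namespace Cfsg.Agent.H22.GEx

variable (D : ChevalleyDatum)

section Rel
variable (K : Type*) [Field K]

theorem mk_stWord (w : List (ℕ × K)) :
    PresentedGroup.mk (D.steinbergRels K) (D.stWord w) = (w.map fun q => D.stGen K q.1 q.2).prod := by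
  unfold ChevalleyDatum.stWord ChevalleyDatum.stGen
  rw [map_list_prod, List.map_map]; rfl

theorem stGen_oor (r : ℕ) (t : K) (h : ¬ r < D.nroots) : D.stGen K r t = 1 := by
  unfold ChevalleyDatum.stGen ChevalleyDatum.stX; rw [dif_neg h, map_one]

theorem R1 (r : ℕ) (hr : r < D.nroots) (t₁ t₂ : K) :
    D.stGen K r t₁ * D.stGen K r t₂ = D.stGen K r (t₁ + t₂) := by
  have h : D.stX r t₁ * D.stX r t₂ * (D.stX r (t₁ + t₂))⁻¹ ∈ D.steinbergRels K :=
    Or.inl (Or.inl ⟨r, t₁, t₂, hr, rfl⟩)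
  have h2 := PresentedGroup.one_of_mem h
  rw [map_mul, map_mul, map_inv] at h2
  exact mul_inv_eq_one.mp h2

theorem stGen_zero (r : ℕ) : D.stGen K r 0 = 1 := by
  by_cases hr : r < D.nroots
  · have h := R1 D K r hr 0 0
    rw [add_zero] at h
    simpa using h
  · exact stGen_oor D K r 0 hr

theorem R2 (r s : ℕ) (hr : r < D.nroots) (hs : s < D.nroots) (h1 : s ≠ r) (h2 : s ≠ D.neg r) (t u : K) :
    (D.stGen K s u)⁻¹ * (D.stGen K r t)⁻¹ * D.stGen K s u * D.stGen K r t =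
      ((D.commWord K r s t u).map fun q => D.stGen K q.1 q.2).prod := by
  have h : (D.stX s u)⁻¹ * (D.stX r t)⁻¹ * D.stX s u * D.stX r t * (D.stWord (D.commWord K r s t u))⁻¹
      ∈ D.steinbergRels K := Or.inl (Or.inr ⟨r, s, t, u, hr, hs, h1, h2, rfl⟩)
  have h3 := PresentedGroup.one_of_mem h
  rw [map_mul, map_mul, map_mul, map_mul, map_inv, map_inv, map_inv, mk_stWord] at h3
  exact mul_inv_eq_one.mp h3

/-- the element `h̄_r(t)` of the presented group -/
def hEl (r : ℕ) (t : K) : D.SteinbergGroup K := ((D.hWord r t).map fun q => D.stGen K q.1 q.2).prod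

theorem R3 (r : ℕ) (hr : r < D.nroots) (t₁ t₂ : K) (h1 : t₁ ≠ 0) (h2 : t₂ ≠ 0) :
    hEl D K r t₁ * hEl D K r t₂ = hEl D K r (t₁ * t₂) := by
  have h : D.stH r t₁ * D.stH r t₂ * (D.stH r (t₁ * t₂))⁻¹ ∈ D.steinbergRels K :=
    Or.inr ⟨r, t₁, t₂, hr, h1, h2, rfl⟩
  have h3 := PresentedGroup.one_of_mem h
  unfold ChevalleyDatum.stH at h3
  rw [map_mul, map_mul, map_inv, mk_stWord, mk_stWord, mk_stWord] at h3
  exact mul_inv_eq_one.mp h3

/-- evaluation of a term list -/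
def ev (L : List (ℕ × ℤ × ℕ × ℕ)) (t u : K) : D.SteinbergGroup K :=
  (L.map fun c => D.stGen K c.1 ((c.2.1 : K) * (-t) ^ c.2.2.1 * u ^ c.2.2.2)).prod

end Rel

/-- normalised term list: coefficients reduced mod `p`, zero terms dropped -/
def norm (p : ℕ) (L : List (ℕ × ℤ × ℕ × ℕ)) : List (ℕ × ℤ × ℕ × ℕ) :=
  (L.filter fun c => decide (c.2.1 % (p : ℤ) ≠ 0)).map fun c => (c.1, c.2.1 % (p : ℤ), c.2.2)

theorem norm_cons_zero (p : ℕ) (c : ℕ × ℤ × ℕ × ℕ) (L : List (ℕ × ℤ × ℕ × ℕ)) (h : c.2.1 % (p : ℤ) = 0) :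
    norm p (c :: L) = norm p L := by
  unfold norm
  rw [List.filter_cons_of_neg (by simpa using h)]

theorem norm_cons_ne (p : ℕ) (c : ℕ × ℤ × ℕ × ℕ) (L : List (ℕ × ℤ × ℕ × ℕ)) (h : c.2.1 % (p : ℤ) ≠ 0) :
    norm p (c :: L) = (c.1, c.2.1 % (p : ℤ), c.2.2) :: norm p L := by
  unfold norm
  rw [List.filter_cons_of_pos (by simpa using h), List.map_cons]

section Ev
variable (K : Type*) [Field K]

theorem ev_cons (c : ℕ × ℤ × ℕ × ℕ) (L : List (ℕ × ℤ × ℕ × ℕ)) (t u : K) :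
    ev D K (c :: L) t u = D.stGen K c.1 ((c.2.1 : K) * (-t) ^ c.2.2.1 * u ^ c.2.2.2) * ev D K L t u := by
  unfold ev; rw [List.map_cons, List.prod_cons]

theorem ev_norm (p : ℕ) [CharP K p] (L : List (ℕ × ℤ × ℕ × ℕ)) (t u : K) :
    ev D K (norm p L) t u = ev D K L t u := by
  induction L with
  | nil => rfl
  | cons c L ih =>
    by_cases hc : c.2.1 % (p : ℤ) = 0
    · rw [norm_cons_zero p c L hc, ev_cons, ih]
      have h0 : ((c.2.1 : ℤ) : K) = 0 :=
        (CharP.intCast_eq_zero_iff K p _).mpr (Int.dvd_of_emod_eq_zero hc)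
      rw [h0, zero_mul, zero_mul, stGen_zero, one_mul]
    · rw [norm_cons_ne p c L hc, ev_cons, ev_cons, ih]
      have h1 : (((c.2.1 % (p : ℤ) : ℤ)) : K) = ((c.2.1 : ℤ) : K) :=
        (CharP.intCast_eq_intCast K p).mpr (Int.mod_modEq _ _)
      rw [h1]

/-- the combinatorial condition making two root elements commute -/
def commOK (p : ℕ) (k1 k2 : ℕ) : Prop :=
  k1 < D.nroots ∧ k2 < D.nroots ∧ k2 ≠ k1 ∧ k2 ≠ D.neg k1 ∧ ∀ e ∈ D.commTerms k1 k2, e.2.1 % (p : ℤ) = 0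

instance (p k1 k2 : ℕ) : Decidable (commOK D p k1 k2) := by unfold commOK; infer_instance

theorem commute_of_commOK (p : ℕ) [CharP K p] (k1 k2 : ℕ) (h : commOK D p k1 k2) (v1 v2 : K) :
    Commute (D.stGen K k1 v1) (D.stGen K k2 v2) := by
  obtain ⟨h1, h2, h3, h4, h5⟩ := h
  have hR := R2 D K k1 k2 h1 h2 h3 h4 v1 v2
  have hone : ((D.commWord K k1 k2 v1 v2).map fun q => D.stGen K q.1 q.2).prod = 1 := by
    apply List.prod_eq_one
    intro x hx
    rw [List.mem_map] at hx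
    obtain ⟨q, hq, rfl⟩ := hx
    unfold ChevalleyDatum.commWord at hq
    rw [List.mem_map] at hq
    obtain ⟨e, he, rfl⟩ := hq
    have h0 : ((e.2.1 : ℤ) : K) = 0 :=
      (CharP.intCast_eq_zero_iff K p _).mpr (Int.dvd_of_emod_eq_zero (h5 e he))
    show D.stGen K e.1 ((e.2.1 : K) * (-v1) ^ e.2.2.1 * v2 ^ e.2.2.2) = 1
    rw [h0, zero_mul, zero_mul, stGen_zero]
  rw [hone] at hR
  -- a⁻¹ b⁻¹ a b = 1 → b a = a b
  show D.stGen K k1 v1 * D.stGen K k2 v2 = D.stGen K k2 v2 * D.stGen K k1 v1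
  have h6 : D.stGen K k2 v2 * D.stGen K k1 v1 = D.stGen K k1 v1 * D.stGen K k2 v2 := by
    have h7 := congrArg (fun z => D.stGen K k1 v1 * D.stGen K k2 v2 * z) hR
    simp only [mul_one] at h7
    rw [← h7]; group
  exact h6.symm

theorem ev_perm (p : ℕ) [CharP K p] (L L' : List (ℕ × ℤ × ℕ × ℕ)) (hp : L.Perm L')
    (hc : L.Pairwise (fun a b => commOK D p a.1 b.1)) (t u : K) : ev D K L t u = ev D K L' t u := by
  unfold ev
  apply List.Perm.prod_eq' (hp.map _)
  rw [List.pairwise_map]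
  exact hc.imp (fun {a b} h => commute_of_commOK D K p a.1 b.1 h _ _)

end Ev

section Chk
variable (rho lam : ℕ → ℕ)

/-- the term list of the image commutator -/
def L1 (r s : ℕ) : List (ℕ × ℤ × ℕ × ℕ) :=
  (D.commTerms (rho r) (rho s)).map fun c => (c.1, c.2.1, lam r * c.2.2.1, lam s * c.2.2.2)

/-- the term list of the image of the commutator word -/
def L2 (r s : ℕ) : List (ℕ × ℤ × ℕ × ℕ) :=
  (D.commTerms r s).map fun c => (rho c.1, c.2.1, c.2.2.1 * lam c.1, c.2.2.2 * lam c.1)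

/-- per-pair condition -/
def pairOK (p r s : ℕ) : Prop :=
  rho s ≠ rho r ∧ rho s ≠ D.neg (rho r) ∧ (∀ c ∈ D.commTerms r s, c.1 < D.nroots) ∧
  (norm p (L1 D rho lam r s)).Perm (norm p (L2 D rho lam r s)) ∧
  (norm p (L1 D rho lam r s)).Pairwise (fun a b => commOK D p a.1 b.1)

instance (p r s : ℕ) : Decidable (pairOK D rho lam p r s) := by unfold pairOK; infer_instance

/-- per-root condition -/
def rootOK (p r : ℕ) : Prop :=
  rho r < D.nroots ∧ D.neg r < D.nroots ∧ (lam r = 1 ∨ lam r = p) ∧ rho (D.neg r) = D.neg (rho r) ∧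
  lam (D.neg r) = lam r ∧ ∃ r' < D.nroots, rho r' = r

instance (p r : ℕ) : Decidable (rootOK D rho lam p r) := by unfold rootOK; infer_instance

/-- the full table condition -/
def Chk (p : ℕ) : Prop :=
  (∀ r < D.nroots, rootOK D rho lam p r) ∧
  ∀ r < D.nroots, ∀ s < D.nroots, s ≠ r → s ≠ D.neg r → pairOK D rho lam p r s

instance (p : ℕ) : Decidable (Chk D rho lam p) := by unfold Chk; infer_instance

end Chk

end Cfsg.Agent.H22.GEx
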