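import Cfsg.Agent.H22.GraphExField
import Cfsg.Prelude.Def_ChevB2
import Cfsg.Prelude.Def_ChevF4
import Cfsg.Prelude.Def_ChevG2
/-!
Table checks for the exceptional graph endomorphisms of B2, F4 (p = 2) and G2 (p = 3) (helper22).
-/
set_option autoImplicit false
open Cfsg Cfsg.Lie

namespace Cfsg.Agent.H22.GEx

/-- root permutation for B2 -/
def rhoB2 (r : ℕ) : ℕ := [1, 0, 3, 2, 5, 4, 7, 6].getD r 0
/-- exponents for B2 -/
def lamB2 (r : ℕ) : ℕ := [1, 2, 2, 1, 1, 2, 2, 1].getD r 1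

/-- root permutation for F4 -/
def rhoF4 (r : ℕ) : ℕ :=
  [3, 7, 8, 0, 9, 11, 18, 1, 2, 4, 15, 5, 16, 21, 23, 10, 12, 19, 6, 17, 22, 13, 20, 14, 33, 27, 34, 25, 30,
   41, 28, 35, 37, 24, 26, 31, 42, 32, 43, 45, 46, 29, 36, 38, 47, 39, 40, 44].getD r 0
/-- exponents for F4 -/
def lamF4 (r : ℕ) : ℕ :=
  [1, 1, 1, 2, 1, 1, 1, 2, 2, 2, 2, 2, 2, 2, 2, 1, 1, 1, 2, 2, 2, 1, 1, 1, 1, 1, 1, 2, 2, 2, 1, 1, 1, 2, 2,
   2, 2, 2, 2, 2, 2, 1, 1, 1, 2, 1, 1, 1].getD r 1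

/-- root permutation for G2 -/
def rhoG2 (r : ℕ) : ℕ := [2, 3, 0, 1, 5, 4, 7, 6, 10, 11, 8, 9].getD r 0
/-- exponents for G2 -/
def lamG2 (r : ℕ) : ℕ := [1, 1, 3, 3, 3, 1, 1, 3, 3, 3, 1, 1].getD r 1

theorem chk_B2 : Chk chevB2 rhoB2 lamB2 2 := by decide +kernel

theorem chk_G2 : Chk chevG2 rhoG2 lamG2 3 := by decide +kernel

set_option maxRecDepth 100000 in
theorem chk_F4 : Chk chevF4 rhoF4 lamF4 2 := by decide +kernel

theorem chk2_B2 : Chk2 chevB2 rhoB2 lamB2 2 := by decide +kernel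

theorem chk2_G2 : Chk2 chevG2 rhoG2 lamG2 3 := by decide +kernel

theorem chk2_F4 : Chk2 chevF4 rhoF4 lamF4 2 := by decide +kernel

/-- compatibility of `(rho, lam)` with the list of images of the fundamental roots in the statement -/
def SimpOK (D : ChevalleyDatum) (L : List (ℕ × ℕ)) (rho lam : ℕ → ℕ) : Prop :=
  ∀ i < D.rank, D.simple i < D.nroots ∧ D.neg (D.simple i) < D.nroots ∧
    rho (D.simple i) = D.simple (L.getD i (0, 1)).1 ∧ lam (D.simple i) = (L.getD i (0, 1)).2 ∧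
    rho (D.neg (D.simple i)) = D.neg (D.simple (L.getD i (0, 1)).1) ∧
    lam (D.neg (D.simple i)) = (L.getD i (0, 1)).2

instance (D : ChevalleyDatum) (L : List (ℕ × ℕ)) (rho lam : ℕ → ℕ) : Decidable (SimpOK D L rho lam) := by
  unfold SimpOK; infer_instance

theorem simp_B2 : SimpOK chevB2 [(1, 2), (0, 1)] rhoB2 lamB2 := by decide +kernel

theorem simp_F4 : SimpOK chevF4 [(3, 2), (2, 2), (1, 1), (0, 1)] rhoF4 lamF4 := by decide +kernel

/-- the statement-shaped conclusion, from Steinberg's theorem -/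
theorem stmt_of_theta (D : ChevalleyDatum) (K : Type*) [Field K] (L : List (ℕ × ℕ)) (rho lam : ℕ → ℕ)
    (p : ℕ) [Fact p.Prime] [CharP K p] (h : Chk D rho lam p) (h2 : Chk2 D rho lam p)
    (hL : SimpOK D L rho lam) (hperf : ∀ x : K, ∃ y : K, y ^ p = x)
    (hθ : ∃ θ : D.SteinbergGroup K →* ↥(D.group K), Function.Surjective θ ∧
      θ.ker = Subgroup.center (D.SteinbergGroup K) ∧
      ∀ (r : ℕ) (t : K), r < D.nroots →
        ((θ (D.stGen K r t) : GL D.Idx K) : Matrix D.Idx D.Idx K) = D.x K r t) :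
    ∃ α : ↥(D.group K) ≃* ↥(D.group K), ∀ (g : ↥(D.group K)) (i : ℕ) (t : K), i < D.rank →
      (((g : GL D.Idx K) : Matrix D.Idx D.Idx K) = D.x K (D.simple i) t →
        ((α g : GL D.Idx K) : Matrix D.Idx D.Idx K)
          = D.x K (D.simple (L.getD i (0, 1)).1) (t ^ (L.getD i (0, 1)).2)) ∧
      (((g : GL D.Idx K) : Matrix D.Idx D.Idx K) = D.x K (D.neg (D.simple i)) t →
        ((α g : GL D.Idx K) : Matrix D.Idx D.Idx K)
          = D.x K (D.neg (D.simple (L.getD i (0, 1)).1)) (t ^ (L.getD i (0, 1)).2)) := by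
  obtain ⟨α, hα⟩ := main_of_theta D K rho lam p h h2 hperf hθ
  refine ⟨α, fun g i t hi => ?_⟩
  obtain ⟨a1, a2, a3, a4, a5, a6⟩ := hL i hi
  constructor
  · intro hg
    rw [hα g _ t a1 hg, a3, a4]
  · intro hg
    rw [hα g _ t a2 hg, a5, a6]

/-- the G2 statement-shaped conclusion, from Steinberg's theorem -/
theorem g2_of_theta (K : Type*) [Field K] [CharP K 3] (hperf : ∀ x : K, ∃ y : K, y ^ 3 = x)
    (hθ : ∃ θ : chevG2.SteinbergGroup K →* ↥(chevG2.group K), Function.Surjective θ ∧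
      θ.ker = Subgroup.center (chevG2.SteinbergGroup K) ∧
      ∀ (r : ℕ) (t : K), r < chevG2.nroots →
        ((θ (chevG2.stGen K r t) : GL chevG2.Idx K) : Matrix chevG2.Idx chevG2.Idx K) = chevG2.x K r t) :
    ∃ α : ↥(chevG2.group K) ≃* ↥(chevG2.group K), ∀ (g : ↥(chevG2.group K)) (t : K),
      (((g : GL chevG2.Idx K) : Matrix _ _ K) = chevG2.x K 7 t →
        ((α g : GL chevG2.Idx K) : Matrix _ _ K) = chevG2.x K 6 (t ^ 3)) ∧
      (((g : GL chevG2.Idx K) : Matrix _ _ K) = chevG2.x K 6 t →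
        ((α g : GL chevG2.Idx K) : Matrix _ _ K) = chevG2.x K 7 t) ∧
      (((g : GL chevG2.Idx K) : Matrix _ _ K) = chevG2.x K 4 t →
        ((α g : GL chevG2.Idx K) : Matrix _ _ K) = chevG2.x K 5 (t ^ 3)) ∧
      (((g : GL chevG2.Idx K) : Matrix _ _ K) = chevG2.x K 5 t →
        ((α g : GL chevG2.Idx K) : Matrix _ _ K) = chevG2.x K 4 t) := by
  have : Fact (Nat.Prime 3) := ⟨Nat.prime_three⟩
  obtain ⟨α, hα⟩ := main_of_theta chevG2 K rhoG2 lamG2 3 chk_G2 chk2_G2 hperf hθ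
  refine ⟨α, fun g t => ⟨fun hg => ?_, fun hg => ?_, fun hg => ?_, fun hg => ?_⟩⟩
  · exact hα g 7 t (by decide) hg
  · have := hα g 6 t (by decide) hg
    rw [this]; show chevG2.x K 7 (t ^ 1) = chevG2.x K 7 t
    rw [pow_one]
  · exact hα g 4 t (by decide) hg
  · have := hα g 5 t (by decide) hg
    rw [this]; show chevG2.x K 4 (t ^ 1) = chevG2.x K 4 t
    rw [pow_one]

end Cfsg.Agent.H22.GEx
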