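import Cfsg.Agent.H22.GraphExHom
/-!
Field endomorphisms acting on the Steinberg presented group, bijectivity of the exceptional graph
endomorphism for perfect fields, and descent to the Chevalley group (helper22).
-/
set_option autoImplicit false
open Cfsg Cfsg.Lie

namespace Cfsg.Agent.H22.GEx

variable (D : ChevalleyDatum) (K : Type*) [Field K]

theorem of_eq_stGen (r : ℕ) (hr : r < D.nroots) (t : K) :
    (PresentedGroup.of ((⟨r, hr⟩, t) : Fin D.nroots × K) : D.SteinbergGroup K) = D.stGen K r t := by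
  unfold ChevalleyDatum.stGen ChevalleyDatum.stX
  rw [dif_pos hr]; rfl

theorem hom_ext_gen {H : Type*} [Group H] (f g : D.SteinbergGroup K →* H)
    (h : ∀ (r : ℕ) (t : K), r < D.nroots → f (D.stGen K r t) = g (D.stGen K r t)) : f = g := by
  apply PresentedGroup.ext
  rintro ⟨⟨r, hr⟩, t⟩
  rw [of_eq_stGen D K r hr t]
  exact h r t hr

section Sig
variable (σ : K →+* K)

/-- images of the generators under a field endomorphism -/
def sigGen (q : Fin D.nroots × K) : D.SteinbergGroup K := D.stGen K q.1 (σ q.2)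

theorem sig_lift_stX (r : ℕ) (t : K) :
    FreeGroup.lift (sigGen D K σ) (D.stX r t) = D.stGen K r (σ t) := by
  by_cases h : r < D.nroots
  · unfold ChevalleyDatum.stX
    rw [dif_pos h, FreeGroup.lift_apply_of]; rfl
  · unfold ChevalleyDatum.stX
    rw [dif_neg h, map_one]
    exact (stGen_oor D K r _ h).symm

theorem sig_lift_stWord (w : List (ℕ × K)) :
    FreeGroup.lift (sigGen D K σ) (D.stWord w) = (w.map fun q => D.stGen K q.1 (σ q.2)).prod := by
  unfold ChevalleyDatum.stWord
  rw [map_list_prod, List.map_map]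
  congr 1
  apply List.map_congr_left
  intro q _
  exact sig_lift_stX D K σ q.1 q.2

theorem sig_hWord (r : ℕ) (t : K) :
    ((D.hWord r t).map fun q => D.stGen K q.1 (σ q.2)).prod = hEl D K r (σ t) := by
  have e1 : σ (-t⁻¹) = -(σ t)⁻¹ := by rw [map_neg, map_inv₀]
  have e2 : σ (-1) = -1 := by rw [map_neg, map_one]
  have e3 : σ (-(-1 : K)⁻¹) = -(-1 : K)⁻¹ := by rw [map_neg, map_inv₀, map_neg, map_one]
  unfold hEl ChevalleyDatum.hWord ChevalleyDatum.nWord
  simp only [List.cons_append, List.nil_append, List.map_cons, List.map_nil]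
  rw [e1, e2, e3]

theorem sig_rel : ∀ g ∈ D.steinbergRels K, FreeGroup.lift (sigGen D K σ) g = 1 := by
  intro g hg
  rcases hg with (⟨r, t₁, t₂, hr, rfl⟩ | ⟨r, s, t, u, hr, hs, h1, h2, rfl⟩) | ⟨r, t₁, t₂, hr, ht1, ht2, rfl⟩
  · rw [map_mul, map_mul, map_inv, sig_lift_stX, sig_lift_stX, sig_lift_stX, mul_inv_eq_one,
      R1 D K _ hr, map_add]
  · rw [map_mul, map_mul, map_mul, map_mul, map_inv, map_inv, map_inv, sig_lift_stX, sig_lift_stX,
      sig_lift_stWord, mul_inv_eq_one, R2 D K r s hr hs h1 h2]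
    unfold ChevalleyDatum.commWord
    rw [List.map_map, List.map_map]
    congr 1
    apply List.map_congr_left
    intro c _
    simp only [Function.comp_apply]
    rw [map_mul, map_mul, map_pow, map_pow, map_neg, map_intCast]
  · unfold ChevalleyDatum.stH
    rw [map_mul, map_mul, map_inv, sig_lift_stWord, sig_lift_stWord, sig_lift_stWord, mul_inv_eq_one,
      sig_hWord, sig_hWord, sig_hWord,
      R3 D K _ hr _ _ ((map_ne_zero σ).mpr ht1) ((map_ne_zero σ).mpr ht2), map_mul]

/-- the endomorphism of the presented group induced by a field endomorphism -/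
noncomputable def sigHom : D.SteinbergGroup K →* D.SteinbergGroup K :=
  PresentedGroup.toGroup (sig_rel D K σ)

theorem sigHom_gen (r : ℕ) (t : K) : sigHom D K σ (D.stGen K r t) = D.stGen K r (σ t) := by
  have e : sigHom D K σ (D.stGen K r t) = FreeGroup.lift (sigGen D K σ) (D.stX r t) := rfl
  rw [e, sig_lift_stX]

theorem sigHom_bij (hσ : Function.Bijective σ) : Function.Bijective (sigHom D K σ) := by
  let e : K ≃+* K := RingEquiv.ofBijective σ hσ
  have h1 : (sigHom D K (e.symm : K →+* K)).comp (sigHom D K σ) = MonoidHom.id _ := by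
    apply hom_ext_gen
    intro r t _
    rw [MonoidHom.comp_apply, sigHom_gen, sigHom_gen, MonoidHom.id_apply]
    congr 1
    exact e.symm_apply_apply t
  have h2 : (sigHom D K σ).comp (sigHom D K (e.symm : K →+* K)) = MonoidHom.id _ := by
    apply hom_ext_gen
    intro r t _
    rw [MonoidHom.comp_apply, sigHom_gen, sigHom_gen, MonoidHom.id_apply]
    congr 1
    exact e.apply_symm_apply t
  constructor
  · intro x y hxy
    have hx := DFunLike.congr_fun h1 x
    have hy := DFunLike.congr_fun h1 y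
    rw [MonoidHom.comp_apply, MonoidHom.id_apply] at hx hy
    rw [← hx, ← hy, hxy]
  · intro y
    refine ⟨sigHom D K (e.symm : K →+* K) y, ?_⟩
    have hy := DFunLike.congr_fun h2 y
    rwa [MonoidHom.comp_apply, MonoidHom.id_apply] at hy

end Sig

/-- the involution condition -/
def Chk2 (rho lam : ℕ → ℕ) (p : ℕ) : Prop :=
  ∀ r < D.nroots, rho r < D.nroots ∧ rho (rho r) = r ∧ lam r * lam (rho r) = p

instance (rho lam : ℕ → ℕ) (p : ℕ) : Decidable (Chk2 D rho lam p) := by unfold Chk2; infer_instance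

theorem phi_bij (rho lam : ℕ → ℕ) (p : ℕ) [Fact p.Prime] [CharP K p] (h2 : Chk2 D rho lam p)
    (hperf : ∀ x : K, ∃ y : K, y ^ p = x)
    (φ : D.SteinbergGroup K →* D.SteinbergGroup K)
    (hφ : ∀ (r : ℕ) (t : K), r < D.nroots → φ (D.stGen K r t) = D.stGen K (rho r) (t ^ lam r)) :
    Function.Bijective φ := by
  have hfb : Function.Bijective (frobenius K p) := by
    refine ⟨frobenius_inj K p, fun x => ?_⟩
    obtain ⟨y, hy⟩ := hperf x
    exact ⟨y, by rw [frobenius_def, hy]⟩
  have hcomp : φ.comp φ = sigHom D K (frobenius K p) := by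
    apply hom_ext_gen
    intro r t hr
    obtain ⟨a, b, c⟩ := h2 r hr
    rw [MonoidHom.comp_apply, hφ r t hr, hφ _ _ a, b, sigHom_gen, ← pow_mul, c, frobenius_def]
  have hb := sigHom_bij D K (frobenius K p) hfb
  rw [← hcomp] at hb
  constructor
  · intro x y hxy
    apply hb.1
    rw [MonoidHom.comp_apply, MonoidHom.comp_apply, hxy]
  · intro y
    obtain ⟨z, hz⟩ := hb.2 y
    exact ⟨φ z, hz⟩

theorem descend {Γ G : Type*} [Group Γ] [Group G] (θ : Γ →* G) (hθ : Function.Surjective θ)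
    (hker : θ.ker = Subgroup.center Γ) (φ : Γ →* Γ) (hφ : Function.Bijective φ) :
    ∃ α : G ≃* G, ∀ x, α (θ x) = θ (φ x) := by
  have hk : θ.ker ≤ (θ.comp φ).ker := by
    intro z hz
    rw [hker, Subgroup.mem_center_iff] at hz
    rw [MonoidHom.mem_ker, MonoidHom.comp_apply, ← MonoidHom.mem_ker, hker, Subgroup.mem_center_iff]
    intro g
    obtain ⟨x, rfl⟩ := hφ.2 g
    rw [← map_mul, ← map_mul, hz x]
  let α₀ : G →* G := θ.liftOfSurjective hθ ⟨θ.comp φ, hk⟩
  have h0 : ∀ x, α₀ (θ x) = θ (φ x) := fun x =>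
    θ.liftOfRightInverse_comp_apply _ _ ⟨θ.comp φ, hk⟩ x
  have hs : Function.Surjective α₀ := by
    intro y
    obtain ⟨x, rfl⟩ := hθ y
    obtain ⟨x', rfl⟩ := hφ.2 x
    exact ⟨θ x', h0 x'⟩
  have hi : Function.Injective α₀ := by
    rw [injective_iff_map_eq_one]
    intro y hy
    obtain ⟨x, rfl⟩ := hθ y
    rw [h0, ← MonoidHom.mem_ker, hker, Subgroup.mem_center_iff] at hy
    rw [← MonoidHom.mem_ker, hker, Subgroup.mem_center_iff]
    intro g
    apply hφ.1
    rw [map_mul, map_mul, hy (φ g)]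
  exact ⟨MulEquiv.ofBijective α₀ ⟨hi, hs⟩, fun x => h0 x⟩

/-- The exceptional graph automorphism of the Chevalley group, given Steinberg's theorem `θ`. -/
theorem main_of_theta (rho lam : ℕ → ℕ) (p : ℕ) [Fact p.Prime] [CharP K p] (h : Chk D rho lam p)
    (h2 : Chk2 D rho lam p) (hperf : ∀ x : K, ∃ y : K, y ^ p = x)
    (hθ : ∃ θ : D.SteinbergGroup K →* ↥(D.group K), Function.Surjective θ ∧
      θ.ker = Subgroup.center (D.SteinbergGroup K) ∧
      ∀ (r : ℕ) (t : K), r < D.nroots →
        ((θ (D.stGen K r t) : GL D.Idx K) : Matrix D.Idx D.Idx K) = D.x K r t) :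
    ∃ α : ↥(D.group K) ≃* ↥(D.group K), ∀ (g : ↥(D.group K)) (r : ℕ) (t : K), r < D.nroots →
      ((g : GL D.Idx K) : Matrix D.Idx D.Idx K) = D.x K r t →
      ((α g : GL D.Idx K) : Matrix D.Idx D.Idx K) = D.x K (rho r) (t ^ lam r) := by
  obtain ⟨θ, hs, hk, hx⟩ := hθ
  obtain ⟨φ, hφ⟩ := exists_phi D K rho lam p h
  obtain ⟨α, hα⟩ := descend θ hs hk φ (phi_bij D K rho lam p h2 hperf φ hφ)
  refine ⟨α, fun g r t hr hg => ?_⟩
  have e : g = θ (D.stGen K r t) := Subtype.ext (Units.ext (hg.trans (hx r t hr).symm))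
  rw [e, hα, hφ r t hr]
  exact hx _ _ (h2 r hr).1

end Cfsg.Agent.H22.GEx
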