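import Cfsg.Agent.H22.GraphEx
/-!
The endomorphism `x̄_r(t) ↦ x̄_{ρ r}(t ^ λ r)` of the Steinberg presented group (helper22).
-/
set_option autoImplicit false
open Cfsg Cfsg.Lie

namespace Cfsg.Agent.H22.GEx

variable (D : ChevalleyDatum) (K : Type*) [Field K] (rho lam : ℕ → ℕ)

/-- images of the generators -/
def imgGen (q : Fin D.nroots × K) : D.SteinbergGroup K := D.stGen K (rho q.1) (q.2 ^ lam q.1)

/-- image of `x̄_r(t)` for an arbitrary index -/
def Y (r : ℕ) (t : K) : D.SteinbergGroup K := if r < D.nroots then D.stGen K (rho r) (t ^ lam r) else 1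

theorem lift_stX (r : ℕ) (t : K) :
    FreeGroup.lift (imgGen D K rho lam) (D.stX r t) = Y D K rho lam r t := by
  unfold ChevalleyDatum.stX Y
  split_ifs with h
  · rw [FreeGroup.lift_apply_of]; rfl
  · exact map_one _

theorem lift_stWord (w : List (ℕ × K)) :
    FreeGroup.lift (imgGen D K rho lam) (D.stWord w) = (w.map fun q => Y D K rho lam q.1 q.2).prod := by
  unfold ChevalleyDatum.stWord
  rw [map_list_prod, List.map_map]
  congr 1
  apply List.map_congr_left
  intro q _
  exact lift_stX D K rho lam q.1 q.2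

section CharFacts
variable {K}
variable (p : ℕ) [Fact p.Prime] [CharP K p]

theorem add_pow_lam {l : ℕ} (hl : l = 1 ∨ l = p) (a b : K) : (a + b) ^ l = a ^ l + b ^ l := by
  rcases hl with rfl | rfl
  · simp
  · exact add_pow_char a b l

theorem neg_pow_lam {l : ℕ} (hl : l = 1 ∨ l = p) (a : K) : (-a) ^ l = -(a ^ l) := by
  have hl0 : l ≠ 0 := by
    rcases hl with e | e
    · rw [e]; exact one_ne_zero
    · rw [e]; exact (Fact.out : p.Prime).ne_zero
  have h := add_pow_lam p hl (-a) a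
  rw [neg_add_cancel, zero_pow hl0] at h
  exact eq_neg_of_add_eq_zero_left h.symm

theorem intCast_pow_lam {l : ℕ} (hl : l = 1 ∨ l = p) (c : ℤ) : ((c : ℤ) : K) ^ l = (c : K) := by
  rcases hl with rfl | rfl
  · simp
  · have h := map_intCast (frobenius K l) c
    rwa [frobenius_def] at h

end CharFacts

variable (p : ℕ) [Fact p.Prime] [CharP K p]

theorem Y_eq {r : ℕ} (hr : r < D.nroots) (t : K) : Y D K rho lam r t = D.stGen K (rho r) (t ^ lam r) := by
  unfold Y; rw [if_pos hr]

theorem hWord_img (h : Chk D rho lam p) (r : ℕ) (hr : r < D.nroots) (t : K) :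
    ((D.hWord r t).map fun q => Y D K rho lam q.1 q.2).prod = hEl D K (rho r) (t ^ lam r) := by
  obtain ⟨h1, h2, h3, h4, h5, -⟩ := h.1 r hr
  have e1 : (-t⁻¹) ^ lam r = -(t ^ lam r)⁻¹ := by rw [neg_pow_lam p h3, inv_pow]
  have e2 : (-1 : K) ^ lam r = -1 := by rw [neg_pow_lam p h3, one_pow]
  have e3 : (-(-1 : K)⁻¹) ^ lam r = -(-1 : K)⁻¹ := by
    rw [neg_pow_lam p h3, inv_pow, e2]
  unfold hEl ChevalleyDatum.hWord ChevalleyDatum.nWord
  simp only [List.cons_append, List.nil_append, List.map_cons, List.map_nil]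
  simp only [Y_eq D K rho lam hr, Y_eq D K rho lam h2]
  rw [h4, h5, e1, e2, e3]

theorem comm_img (h : Chk D rho lam p) (r s : ℕ) (hr : r < D.nroots) (hs : s < D.nroots)
    (h1 : s ≠ r) (h2 : s ≠ D.neg r) (t u : K) :
    (Y D K rho lam s u)⁻¹ * (Y D K rho lam r t)⁻¹ * Y D K rho lam s u * Y D K rho lam r t =
      ((D.commWord K r s t u).map fun q => Y D K rho lam q.1 q.2).prod := by
  obtain ⟨hr1, -, hr3, -, -, -⟩ := h.1 r hr
  obtain ⟨hs1, -, hs3, -, -, -⟩ := h.1 s hs
  obtain ⟨g1, g2, g3, g4, g5⟩ := h.2 r hr s hs h1 h2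
  rw [Y_eq D K rho lam hr, Y_eq D K rho lam hs, R2 D K (rho r) (rho s) hr1 hs1 g1 g2]
  have eL : ((D.commWord K (rho r) (rho s) (t ^ lam r) (u ^ lam s)).map fun q => D.stGen K q.1 q.2).prod
      = ev D K (L1 D rho lam r s) t u := by
    unfold ev L1 ChevalleyDatum.commWord
    rw [List.map_map, List.map_map]
    congr 1
    apply List.map_congr_left
    intro c _
    simp only [Function.comp_apply]
    rw [← neg_pow_lam p hr3, pow_mul, pow_mul]
  have eR : ((D.commWord K r s t u).map fun q => Y D K rho lam q.1 q.2).prod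
      = ev D K (L2 D rho lam r s) t u := by
    unfold ev L2 ChevalleyDatum.commWord
    rw [List.map_map, List.map_map]
    congr 1
    apply List.map_congr_left
    intro c hc
    simp only [Function.comp_apply]
    have hc1 : c.1 < D.nroots := g3 c hc
    obtain ⟨-, -, hc3, -, -, -⟩ := h.1 c.1 hc1
    rw [Y_eq D K rho lam hc1, mul_pow, mul_pow, intCast_pow_lam p hc3, ← pow_mul, ← pow_mul]
  rw [eL, eR, ← ev_norm D K p (L1 D rho lam r s), ← ev_norm D K p (L2 D rho lam r s)]
  exact ev_perm D K p _ _ g4 g5 t u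

theorem rel_holds (h : Chk D rho lam p) :
    ∀ g ∈ D.steinbergRels K, FreeGroup.lift (imgGen D K rho lam) g = 1 := by
  intro g hg
  rcases hg with (⟨r, t₁, t₂, hr, rfl⟩ | ⟨r, s, t, u, hr, hs, h1, h2, rfl⟩) | ⟨r, t₁, t₂, hr, ht1, ht2, rfl⟩
  · obtain ⟨hr1, -, hr3, -, -, -⟩ := h.1 r hr
    rw [map_mul, map_mul, map_inv, lift_stX, lift_stX, lift_stX, mul_inv_eq_one,
      Y_eq D K rho lam hr, Y_eq D K rho lam hr, Y_eq D K rho lam hr, R1 D K _ hr1, add_pow_lam p hr3]
  · rw [map_mul, map_mul, map_mul, map_mul, map_inv, map_inv, map_inv, lift_stX, lift_stX, lift_stWord,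
      mul_inv_eq_one]
    exact comm_img D K rho lam p h r s hr hs h1 h2 t u
  · obtain ⟨hr1, -, hr3, -, -, -⟩ := h.1 r hr
    have hl0 : lam r ≠ 0 := by
      rcases hr3 with e | e
      · rw [e]; exact one_ne_zero
      · rw [e]; exact (Fact.out : p.Prime).ne_zero
    unfold ChevalleyDatum.stH
    rw [map_mul, map_mul, map_inv, lift_stWord, lift_stWord, lift_stWord, mul_inv_eq_one,
      hWord_img D K rho lam p h r hr, hWord_img D K rho lam p h r hr, hWord_img D K rho lam p h r hr,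
      R3 D K _ hr1 _ _ (pow_ne_zero _ ht1) (pow_ne_zero _ ht2), mul_pow]

theorem exists_phi (h : Chk D rho lam p) :
    ∃ φ : D.SteinbergGroup K →* D.SteinbergGroup K,
      ∀ (r : ℕ) (t : K), r < D.nroots → φ (D.stGen K r t) = D.stGen K (rho r) (t ^ lam r) := by
  refine ⟨PresentedGroup.toGroup (rel_holds D K rho lam p h), ?_⟩
  intro r t hr
  have e : PresentedGroup.toGroup (rel_holds D K rho lam p h) (D.stGen K r t)
      = FreeGroup.lift (imgGen D K rho lam) (D.stX r t) := rfl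
  rw [e, lift_stX, Y_eq D K rho lam hr]

omit [Fact p.Prime] [CharP K p] in
theorem phi_surj (h : Chk D rho lam p) (hperf : ∀ x : K, ∃ y : K, y ^ p = x)
    (φ : D.SteinbergGroup K →* D.SteinbergGroup K)
    (hφ : ∀ (r : ℕ) (t : K), r < D.nroots → φ (D.stGen K r t) = D.stGen K (rho r) (t ^ lam r)) :
    Function.Surjective φ := by
  intro x
  have hx : x ∈ φ.range := by
    apply PresentedGroup.generated_by (D.steinbergRels K) φ.range
    rintro ⟨⟨s, hs⟩, u⟩
    obtain ⟨-, -, -, -, -, r', hr', hrs⟩ := h.1 s hs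
    obtain ⟨-, -, hl, -, -, -⟩ := h.1 r' hr'
    have hy : ∃ y : K, y ^ lam r' = u := by
      rcases hl with e | e
      · exact ⟨u, by rw [e, pow_one]⟩
      · rw [e]; exact hperf u
    obtain ⟨y, hy⟩ := hy
    refine ⟨D.stGen K r' y, ?_⟩
    rw [hφ r' y hr', hrs, hy]
    unfold ChevalleyDatum.stGen ChevalleyDatum.stX
    rw [dif_pos hs]; rfl
  exact hx

end Cfsg.Agent.H22.GEx
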