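import Cfsg.Agent.H22.GraphExField
/-!
Graph automorphism composed with a field automorphism, on the Chevalley group (helper22).
-/
set_option autoImplicit false
open Cfsg Cfsg.Lie

namespace Cfsg.Agent.H22.GEx

variable (D : ChevalleyDatum) (K : Type*) [Field K]

/-- graph-field automorphism `x_r(t) ↦ x_{ρ r}(τ(t) ^ λ r)` of the Chevalley group, together with the
endomorphism of the presented group it is induced by. -/
theorem twist_of_theta (rho lam : ℕ → ℕ) (p : ℕ) [Fact p.Prime] [CharP K p] (h : Chk D rho lam p)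
    (h2 : Chk2 D rho lam p) (hperf : ∀ x : K, ∃ y : K, y ^ p = x)
    (τ : K →+* K) (hτ : Function.Bijective τ)
    (θ : D.SteinbergGroup K →* ↥(D.group K)) (hs : Function.Surjective θ)
    (hk : θ.ker = Subgroup.center (D.SteinbergGroup K)) :
    ∃ (α : ↥(D.group K) ≃* ↥(D.group K)) (ψ : D.SteinbergGroup K →* D.SteinbergGroup K),
      (∀ x, α (θ x) = θ (ψ x)) ∧
      ∀ (r : ℕ) (t : K), r < D.nroots → ψ (D.stGen K r t) = D.stGen K (rho r) (τ t ^ lam r) := by
  obtain ⟨φ, hφ⟩ := exists_phi D K rho lam p h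
  have hb : Function.Bijective (φ.comp (sigHom D K τ)) := by
    have h1 := phi_bij D K rho lam p h2 hperf φ hφ
    have h3 := sigHom_bij D K τ hτ
    rw [MonoidHom.coe_comp]
    exact h1.comp h3
  obtain ⟨α, hα⟩ := descend θ hs hk (φ.comp (sigHom D K τ)) hb
  refine ⟨α, φ.comp (sigHom D K τ), hα, fun r t hr => ?_⟩
  rw [MonoidHom.comp_apply, sigHom_gen, hφ r _ hr]

/-- the element `n̄_r(t)` of the presented group -/
def nEl (r : ℕ) (t : K) : D.SteinbergGroup K := ((D.nWord r t).map fun q => D.stGen K q.1 q.2).prod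

theorem hEl_eq_nEl (r : ℕ) (t : K) : hEl D K r t = nEl D K r t * nEl D K r (-1) := by
  unfold hEl nEl ChevalleyDatum.hWord
  rw [List.map_append, List.prod_append]

theorem nEl_eq (r : ℕ) (t : K) :
    nEl D K r t = D.stGen K r t * D.stGen K (D.neg r) (-t⁻¹) * D.stGen K r t := by
  unfold nEl ChevalleyDatum.nWord
  simp only [List.map_cons, List.map_nil, List.prod_cons, List.prod_nil, mul_one, mul_assoc]

/-- image of `n̄_r(t)` under an endomorphism of graph-field type -/
theorem nEl_map (rho lam : ℕ → ℕ) (p : ℕ) [Fact p.Prime] [CharP K p] (h : Chk D rho lam p)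
    (τ : K →+* K) (ψ : D.SteinbergGroup K →* D.SteinbergGroup K)
    (hψ : ∀ (r : ℕ) (t : K), r < D.nroots → ψ (D.stGen K r t) = D.stGen K (rho r) (τ t ^ lam r))
    (r : ℕ) (hr : r < D.nroots) (t : K) :
    ψ (nEl D K r t) = nEl D K (rho r) (τ t ^ lam r) := by
  obtain ⟨h1, h2, h3, h4, h5, -⟩ := h.1 r hr
  rw [nEl_eq, nEl_eq, map_mul, map_mul, hψ r t hr, hψ _ _ h2, h4, h5, map_neg, map_inv₀,
    neg_pow_lam p h3, inv_pow]

/-- image of `h̄_r(t)` under an endomorphism of graph-field type -/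
theorem hEl_map (rho lam : ℕ → ℕ) (p : ℕ) [Fact p.Prime] [CharP K p] (h : Chk D rho lam p)
    (τ : K →+* K) (ψ : D.SteinbergGroup K →* D.SteinbergGroup K)
    (hψ : ∀ (r : ℕ) (t : K), r < D.nroots → ψ (D.stGen K r t) = D.stGen K (rho r) (τ t ^ lam r))
    (r : ℕ) (hr : r < D.nroots) (t : K) :
    ψ (hEl D K r t) = hEl D K (rho r) (τ t ^ lam r) := by
  obtain ⟨h1, h2, h3, h4, h5, -⟩ := h.1 r hr
  rw [hEl_eq_nEl, hEl_eq_nEl, map_mul, nEl_map D K rho lam p h τ ψ hψ r hr,
    nEl_map D K rho lam p h τ ψ hψ r hr, map_neg, map_one, neg_pow_lam p h3, one_pow]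

/-- the matrix of the image of a word of the presented group -/
theorem theta_word (θ : D.SteinbergGroup K →* ↥(D.group K))
    (hx : ∀ (r : ℕ) (t : K), r < D.nroots →
      ((θ (D.stGen K r t) : GL D.Idx K) : Matrix D.Idx D.Idx K) = D.x K r t)
    (w : List (ℕ × K)) (hw : ∀ q ∈ w, q.1 < D.nroots) :
    ((θ ((w.map fun q => D.stGen K q.1 q.2).prod) : GL D.Idx K) : Matrix D.Idx D.Idx K) =
      D.wordMat K w := by
  induction w with
  | nil => simp [ChevalleyDatum.wordMat]
  | cons q w ih =>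
    have h1 : D.wordMat K (q :: w) = D.x K q.1 q.2 * D.wordMat K w := by
      simp [ChevalleyDatum.wordMat]
    rw [List.map_cons, List.prod_cons, map_mul, Subgroup.coe_mul, Units.val_mul, h1,
      hx q.1 q.2 (hw q (List.mem_cons_self ..)), ih (fun q' hq' => hw q' (List.mem_cons_of_mem _ hq'))]

end Cfsg.Agent.H22.GEx
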