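import Cfsg.Agent.H22.SRG100d
import Cfsg.Agent.S0428

/-!
# The automorphism group of the point-block graph of an S(3, 6, 22)

It is vertex-transitive (by the uniqueness of the (100, 22, 0, 6) graph structure around every
vertex), and the stabiliser of the extra vertex is the automorphism group of the Steiner system.
-/

set_option autoImplicit false

namespace Cfsg.Agent.H22.HS

open Cfsg Finset
open scoped Pointwise

variable {α : Type*} [Fintype α] [DecidableEq α] {B : Set (Finset α)}

omit [Fintype α] in
theorem adj_none_iff (x : Option (α ⊕ B)) :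
    (pointBlockGraph B).Adj none x ↔ ∃ a, x = some (Sum.inl a) := by
  rw [pointBlockGraph, SimpleGraph.fromRel_adj]
  rcases x with _ | a | b <;> simp [pointBlockRel]

omit [Fintype α] in
theorem adj_inl_inr (a : α) (b : B) :
    (pointBlockGraph B).Adj (some (Sum.inl a)) (some (Sum.inr b)) ↔ a ∈ (b : Finset α) := by
  rw [pointBlockGraph, SimpleGraph.fromRel_adj]
  simp [pointBlockRel]

omit [Fintype α] in
theorem image_eq_of_mem (τ : setSystemAut B) : (fun b : Finset α => b.image τ.1) '' B = B := by
  rw [← Cfsg.Agent.H22.Plane4.smul_lines]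
  exact MulAction.mem_stabilizer_iff.1 τ.2

/-- the automorphism of the point-block graph induced by an automorphism of the set system -/
def autOf (τ : setSystemAut B) : pointBlockGraph B ≃g pointBlockGraph B :=
  Cfsg.Agent.H22.SRG.pbIso τ.1 (image_eq_of_mem τ)

omit [Fintype α] in
theorem autOf_none (τ : setSystemAut B) : autOf τ none = none := rfl

omit [Fintype α] in
theorem autOf_inl (τ : setSystemAut B) (a : α) :
    autOf τ (some (Sum.inl a)) = some (Sum.inl (τ.1 a)) := rfl

omit [Fintype α] in
theorem autOf_inr (τ : setSystemAut B) (b : B) :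
    ∃ b' : B, autOf τ (some (Sum.inr b)) = some (Sum.inr b') ∧
      (b' : Finset α) = (b : Finset α).image τ.1 :=
  ⟨_, rfl, rfl⟩

omit [Fintype α] in
theorem autOf_injective : Function.Injective (autOf (B := B)) := by
  intro τ τ' h
  apply Subtype.ext
  apply Equiv.ext
  intro a
  have := congrArg (fun φ : pointBlockGraph B ≃g pointBlockGraph B => φ (some (Sum.inl a))) h
  simp only [autOf_inl] at this
  exact Sum.inl.inj (Option.some.inj this)

/-- an automorphism of the point-block graph fixing the extra vertex comes from an automorphism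
of the Steiner system -/
theorem exists_autOf (hα : Fintype.card α = 22) (hB : IsSteinerSystem 3 6 B)
    (σ : pointBlockGraph B ≃g pointBlockGraph B) (hσ : σ none = none) :
    ∃ τ : setSystemAut B, autOf τ = σ := by
  have h1 : ∀ a : α, ∃ a', σ (some (Sum.inl a)) = some (Sum.inl a') := by
    intro a
    have : (pointBlockGraph B).Adj none (some (Sum.inl a)) := (adj_none_iff _).2 ⟨a, rfl⟩
    have := (σ.map_rel_iff (a := none) (b := some (Sum.inl a))).2 this
    rw [hσ] at this
    exact (adj_none_iff _).1 this
  choose t ht using h1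
  have tinj : Function.Injective t := by
    intro a a' e
    have := (ht a).trans ((congrArg (fun x => some (Sum.inl x)) e).trans (ht a').symm)
    exact Sum.inl.inj (Option.some.inj (σ.injective this))
  have tbij : Function.Bijective t := Finite.injective_iff_bijective.1 tinj
  let τ : Equiv.Perm α := Equiv.ofBijective t tbij
  have h2 : ∀ b : B, ∃ b' : B, σ (some (Sum.inr b)) = some (Sum.inr b') := by
    intro b
    rcases hx : σ (some (Sum.inr b)) with _ | a' | b'
    · rw [← hσ] at hx
      exact absurd (σ.injective hx) (by simp)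
    · exfalso
      have : (pointBlockGraph B).Adj none (σ (some (Sum.inr b))) := by
        rw [hx]; exact (adj_none_iff _).2 ⟨a', rfl⟩
      rw [← hσ] at this
      have := (σ.map_rel_iff (a := none) (b := some (Sum.inr b))).1 this
      obtain ⟨a, ha⟩ := (adj_none_iff _).1 this
      simp at ha
    · exact ⟨b', rfl⟩
  choose s hs using h2
  have h3 : ∀ b : B, (s b : Finset α) = (b : Finset α).image τ := by
    intro b
    ext x
    rw [mem_image]
    have key : ∀ a : α, a ∈ (b : Finset α) ↔ τ a ∈ (s b : Finset α) := by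
      intro a
      rw [← adj_inl_inr a b, ← adj_inl_inr (τ a) (s b), ← σ.map_rel_iff (a := some (Sum.inl a)),
        ht a, hs b]
      rfl
    constructor
    · intro hx
      refine ⟨τ.symm x, (key _).2 ?_, τ.apply_symm_apply x⟩
      rw [τ.apply_symm_apply]; exact hx
    · rintro ⟨a, ha, rfl⟩
      exact (key a).1 ha
  have hτ : (fun b : Finset α => b.image τ) '' B = B :=
    Cfsg.Agent.H22.W22.image_blocks hα hα hB hB τ (fun b hb => by
      rw [← h3 ⟨b, hb⟩]; exact (s ⟨b, hb⟩).2)
  have hmem : τ ∈ setSystemAut B := by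
    rw [MulAction.mem_stabilizer_iff, Cfsg.Agent.H22.Plane4.smul_lines]
    exact hτ
  refine ⟨⟨τ, hmem⟩, ?_⟩
  apply RelIso.ext
  rintro (_ | a | b)
  · rw [autOf_none, hσ]
  · rw [autOf_inl, ht a]; rfl
  · obtain ⟨b', e1, e2⟩ := autOf_inr ⟨τ, hmem⟩ b
    rw [e1, hs b]
    congr 2
    apply Subtype.ext
    rw [e2, h3 b]

/-- the stabiliser of the extra vertex is the automorphism group of the Steiner system -/
theorem card_stab (hα : Fintype.card α = 22) (hB : IsSteinerSystem 3 6 B) :
    Nat.card (MulAction.stabilizer (pointBlockGraph B ≃g pointBlockGraph B)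
      (none : Option (α ⊕ B))) = Nat.card (setSystemAut B) := by
  let Ψ : setSystemAut B → MulAction.stabilizer (pointBlockGraph B ≃g pointBlockGraph B)
      (none : Option (α ⊕ B)) := fun τ => ⟨autOf τ, by
    rw [MulAction.mem_stabilizer_iff]; exact autOf_none τ⟩
  have hbij : Function.Bijective Ψ := by
    constructor
    · intro τ τ' h
      exact autOf_injective (congrArg Subtype.val h)
    · rintro ⟨σ, hσ⟩
      rw [MulAction.mem_stabilizer_iff] at hσ
      obtain ⟨τ, hτ⟩ := exists_autOf hα hB σ hσ
      exact ⟨τ, Subtype.ext hτ⟩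
  exact (Nat.card_congr (Equiv.ofBijective Ψ hbij)).symm

section trans
variable [Fintype B]

theorem hyp_pb (hα : Fintype.card α = 22) (hB : IsSteinerSystem 3 6 B) :
    Cfsg.Agent.H22.SRG.Hyp (pointBlockGraph B) := by
  classical
  exact Cfsg.Agent.H22.SRG.hyp_of_srg (Cfsg.Agent.S0428.result hα hB)

/-- the automorphism group of the point-block graph is vertex-transitive -/
theorem exists_aut_none (hα : Fintype.card α = 22) (hB : IsSteinerSystem 3 6 B)
    (v : Option (α ⊕ B)) :
    ∃ φ : pointBlockGraph B ≃g pointBlockGraph B, φ v = none := by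
  classical
  have hΓ := hyp_pb hα hB
  obtain ⟨e, he⟩ := Cfsg.Agent.H22.W22.steiner_iso (Cfsg.Agent.H22.SRG.card_Pt hΓ v) hα
    (Cfsg.Agent.H22.SRG.steiner hΓ v) hB
  refine ⟨(Cfsg.Agent.H22.SRG.isoPB hΓ v).trans (Cfsg.Agent.H22.SRG.pbIso e he), ?_⟩
  have h1 : Cfsg.Agent.H22.SRG.isoPB hΓ v v = none := by
    show Cfsg.Agent.H22.SRG.toPB (pointBlockGraph B) v v = none
    simp [Cfsg.Agent.H22.SRG.toPB]
  show Cfsg.Agent.H22.SRG.pbIso e he (Cfsg.Agent.H22.SRG.isoPB hΓ v v) = none
  rw [h1]
  rfl

/-- the order of the automorphism group of the point-block graph -/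
theorem card_aut (hα : Fintype.card α = 22) (hB : IsSteinerSystem 3 6 B) :
    Nat.card (pointBlockGraph B ≃g pointBlockGraph B) = 100 * Nat.card (setSystemAut B) := by
  have hΓ := hyp_pb hα hB
  rw [← Subgroup.index_mul_card (MulAction.stabilizer (pointBlockGraph B ≃g pointBlockGraph B)
      (none : Option (α ⊕ B))), card_stab hα hB, MulAction.index_stabilizer]
  congr 1
  have horb : MulAction.orbit (pointBlockGraph B ≃g pointBlockGraph B) (none : Option (α ⊕ B))
      = Set.univ := by
    apply Set.eq_univ_of_forall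
    intro v
    obtain ⟨φ, hφ⟩ := exists_aut_none hα hB v
    refine ⟨φ.symm, ?_⟩
    show φ.symm none = v
    rw [← hφ]
    exact φ.symm_apply_apply v
  rw [horb, Set.ncard_univ, Nat.card_eq_fintype_card, hΓ.card]

end trans

end Cfsg.Agent.H22.HS
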