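import Mathlib

/-!
# Matrices filtered by a position function (helper22)

`IsLev p a A`: every non-zero entry `A i j` has `p j + a ≤ p i`.  For `a ≥ 1` these are strictly
triangular matrices with respect to the order given by `p`; the invertible matrices `g` with
`g - 1` and `g⁻¹ - 1` of level `a` form a subgroup, nilpotent for `a = 1`.
-/

set_option autoImplicit false

namespace Cfsg.Agent.H22

variable {ι : Type*} [Fintype ι] [DecidableEq ι] {F : Type*} [Field F]

/-- every non-zero entry `A i j` has `p j + a ≤ p i` -/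
def IsLev (p : ι → ℤ) (a : ℤ) (A : Matrix ι ι F) : Prop := ∀ i j, A i j ≠ 0 → p j + a ≤ p i

theorem IsLev.zero (p : ι → ℤ) (a : ℤ) : IsLev p a (0 : Matrix ι ι F) :=
  fun _ _ h => absurd rfl h

theorem IsLev.one (p : ι → ℤ) : IsLev p 0 (1 : Matrix ι ι F) := by
  intro i j h
  by_cases hij : i = j
  · subst hij; simp
  · exact absurd (Matrix.one_apply_ne hij) h

theorem IsLev.diagonal (p : ι → ℤ) (d : ι → F) : IsLev p 0 (Matrix.diagonal d) := by
  intro i j h
  by_cases hij : i = j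
  · subst hij; simp
  · exact absurd (Matrix.diagonal_apply_ne d hij) h

variable {p : ι → ℤ} {a b : ℤ} {A B : Matrix ι ι F}

theorem IsLev.add (hA : IsLev p a A) (hB : IsLev p a B) : IsLev p a (A + B) := by
  intro i j h
  by_cases h1 : A i j = 0
  · apply hB
    intro h2
    apply h
    rw [Matrix.add_apply, h1, h2, add_zero]
  · exact hA i j h1

theorem IsLev.neg (hA : IsLev p a A) : IsLev p a (-A) := by
  intro i j h
  apply hA
  intro h1
  apply h
  rw [Matrix.neg_apply, h1, neg_zero]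

theorem IsLev.sub (hA : IsLev p a A) (hB : IsLev p a B) : IsLev p a (A - B) := by
  rw [sub_eq_add_neg]
  exact hA.add hB.neg

theorem IsLev.mono {a' : ℤ} (h : a' ≤ a) (hA : IsLev p a A) : IsLev p a' A := by
  intro i j hij
  have := hA i j hij
  omega

theorem IsLev.mul (hA : IsLev p a A) (hB : IsLev p b B) : IsLev p (a + b) (A * B) := by
  intro i j h
  rw [Matrix.mul_apply] at h
  obtain ⟨k, -, hk⟩ := Finset.exists_ne_zero_of_sum_ne_zero h
  have h1 : A i k ≠ 0 := left_ne_zero_of_mul hk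
  have h2 : B k j ≠ 0 := right_ne_zero_of_mul hk
  have := hA i k h1
  have := hB k j h2
  omega

theorem IsLev.pow (hA : IsLev p a A) (n : ℕ) : IsLev p (n * a) (A ^ n) := by
  induction n with
  | zero => simpa using IsLev.one (F := F) p
  | succ n ih =>
    rw [pow_succ]
    have h := ih.mul hA
    have e : ((n + 1 : ℕ) : ℤ) * a = (n : ℤ) * a + a := by push_cast; ring
    rw [e]
    exact h

theorem IsLev.eq_zero (hA : IsLev p a A) (hp : ∀ i j, p i - p j < a) : A = 0 := by
  ext i j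
  by_contra h
  have := hA i j h
  have := hp i j
  omega

theorem IsLev.add_one (hA : IsLev p a (A - 1)) (ha : 0 ≤ a) : IsLev p 0 A := by
  have h : A = (A - 1) + 1 := by simp
  rw [h]
  exact (hA.mono ha).add (IsLev.one p)

/-- the commutator of two unipotent matrices -/
theorem IsLev.comm {X G X' G' : Matrix ι ι F} (hX : X * X' = 1) (hG : G * G' = 1)
    (h1 : IsLev p a (X - 1)) (h2 : IsLev p b (G - 1)) (h3 : IsLev p 0 X') (h4 : IsLev p 0 G') :
    IsLev p (a + b) (X * G * X' * G' - 1) := by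
  have e1 : (X - 1) * (G - 1) - (G - 1) * (X - 1) = X * G - G * X := by noncomm_ring
  have e : X * G * X' * G' - 1 = ((X - 1) * (G - 1) - (G - 1) * (X - 1)) * X' * G' := by
    rw [e1, sub_mul, sub_mul, Matrix.mul_assoc G X X', hX, Matrix.mul_one, hG]
  rw [e]
  have h5 : IsLev p (a + b) ((X - 1) * (G - 1) - (G - 1) * (X - 1)) := by
    apply (h1.mul h2).sub
    have := h2.mul h1
    rwa [add_comm] at this
  have h6 := (h5.mul h3).mul h4
  simpa using h6

/-- the invertible matrices `g` with `g - 1` and `g⁻¹ - 1` of level `a` -/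
def levSubgroup (p : ι → ℤ) (a : ℕ) : Subgroup (GL ι F) where
  carrier := {g | IsLev p (a : ℤ) ((g : Matrix ι ι F) - 1) ∧
    IsLev p (a : ℤ) (((g⁻¹ : GL ι F) : Matrix ι ι F) - 1)}
  mul_mem' := by
    rintro g g' ⟨h1, h2⟩ ⟨h1', h2'⟩
    have key : ∀ X Y : Matrix ι ι F, IsLev p (a : ℤ) (X - 1) → IsLev p (a : ℤ) (Y - 1) →
        IsLev p (a : ℤ) (X * Y - 1) := by
      intro X Y hX hY
      have e : X * Y - 1 = (X - 1) * (Y - 1) + (X - 1) + (Y - 1) := by noncomm_ring
      rw [e]
      exact (((hX.mul hY).mono (by omega)).add hX).add hY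
    refine ⟨?_, ?_⟩
    · rw [Units.val_mul]
      exact key _ _ h1 h1'
    · rw [mul_inv_rev, Units.val_mul]
      exact key _ _ h2' h2
  one_mem' := by
    refine ⟨?_, ?_⟩
    · simpa using IsLev.zero (F := F) p (a : ℤ)
    · simpa using IsLev.zero (F := F) p (a : ℤ)
  inv_mem' := by
    rintro g ⟨h1, h2⟩
    exact ⟨h2, by rwa [inv_inv]⟩

theorem mem_levSubgroup {p : ι → ℤ} {a : ℕ} {g : GL ι F} :
    g ∈ levSubgroup p a ↔ IsLev p (a : ℤ) ((g : Matrix ι ι F) - 1) ∧
      IsLev p (a : ℤ) (((g⁻¹ : GL ι F) : Matrix ι ι F) - 1) := Iff.rfl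

/-- the invertible matrices `g` with `g` and `g⁻¹` of level `0` -/
def triSubgroup (p : ι → ℤ) : Subgroup (GL ι F) where
  carrier := {g | IsLev p 0 (g : Matrix ι ι F) ∧ IsLev p 0 ((g⁻¹ : GL ι F) : Matrix ι ι F)}
  mul_mem' := by
    rintro g g' ⟨h1, h2⟩ ⟨h1', h2'⟩
    refine ⟨?_, ?_⟩
    · rw [Units.val_mul]
      simpa using h1.mul h1'
    · rw [mul_inv_rev, Units.val_mul]
      simpa using h2'.mul h2
  one_mem' := by
    refine ⟨?_, ?_⟩
    · simpa using IsLev.one (F := F) p
    · simpa using IsLev.one (F := F) p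
  inv_mem' := by
    rintro g ⟨h1, h2⟩
    exact ⟨h2, by rwa [inv_inv]⟩

theorem mem_triSubgroup {p : ι → ℤ} {g : GL ι F} :
    g ∈ triSubgroup p ↔ IsLev p 0 (g : Matrix ι ι F) ∧
      IsLev p 0 ((g⁻¹ : GL ι F) : Matrix ι ι F) := Iff.rfl

theorem levSubgroup_le_tri (p : ι → ℤ) (a : ℕ) :
    (levSubgroup p a : Subgroup (GL ι F)) ≤ triSubgroup p := by
  rintro g ⟨h1, h2⟩
  exact ⟨h1.add_one (by omega), h2.add_one (by omega)⟩

/-- a matrix which is lower unitriangular and upper triangular is the identity -/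
theorem eq_one_of_lev_of_up (p : ι → ℤ) (g : GL ι F) (h1 : IsLev p 1 ((g : Matrix ι ι F) - 1))
    (h2 : IsLev (fun i => - p i) 0 (g : Matrix ι ι F)) : g = 1 := by
  apply Units.ext
  rw [Units.val_one]
  ext i j
  by_contra h
  have h3 : ((g : Matrix ι ι F) - 1) i j ≠ 0 := by
    rw [Matrix.sub_apply]
    exact sub_ne_zero.mpr h
  have h4 := h1 i j h3
  by_cases hij : i = j
  · subst hij; omega
  · have h5 : (g : Matrix ι ι F) i j ≠ 0 := by
      rw [Matrix.sub_apply, Matrix.one_apply_ne hij, sub_zero] at h3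
      exact h3
    have h6 := h2 i j h5
    simp only at h6
    omega

/-- subgroups of the unitriangular group are nilpotent -/
theorem isNilpotent_of_le_lev (p : ι → ℤ) (N : ℕ) (hp : ∀ i j, p i - p j < N)
    (K : Subgroup (GL ι F)) (hK : K ≤ levSubgroup p 1) : Group.IsNilpotent K := by
  rw [Subgroup.nilpotent_iff_finite_descending_central_series]
  refine ⟨N, fun m => (levSubgroup p (m + 1)).subgroupOf K, ⟨?_, ?_⟩, ?_⟩
  · rw [Subgroup.subgroupOf_eq_top]
    simpa using hK
  · intro x m hx g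
    show x * g * x⁻¹ * g⁻¹ ∈ (levSubgroup p (m + 1 + 1)).subgroupOf K
    rw [Subgroup.mem_subgroupOf] at hx ⊢
    have hg := hK g.2
    obtain ⟨hx1, hx2⟩ := hx
    obtain ⟨hg1, hg2⟩ := hg
    have e1 : ((x : GL ι F) : Matrix ι ι F) * (((x : GL ι F)⁻¹ : GL ι F) : Matrix ι ι F) = 1 := by
      rw [← Units.val_mul, mul_inv_cancel, Units.val_one]
    have e2 : ((g : GL ι F) : Matrix ι ι F) * (((g : GL ι F)⁻¹ : GL ι F) : Matrix ι ι F) = 1 := by
      rw [← Units.val_mul, mul_inv_cancel, Units.val_one]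
    have c1 := IsLev.comm e1 e2 hx1 hg1 (hx2.add_one (by omega)) (hg2.add_one (by omega))
    have c2 := IsLev.comm e2 e1 hg1 hx1 (hg2.add_one (by omega)) (hx2.add_one (by omega))
    refine ⟨?_, ?_⟩
    · have : ((x * g * x⁻¹ * g⁻¹ : K) : GL ι F) =
          (x : GL ι F) * g * (x : GL ι F)⁻¹ * (g : GL ι F)⁻¹ := by
        simp
      rw [this, Units.val_mul, Units.val_mul, Units.val_mul]
      have e : (((m + 1 : ℕ) : ℤ) + ((1 : ℕ) : ℤ)) = ((m + 1 + 1 : ℕ) : ℤ) := by push_cast; ring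
      rw [← e]
      exact c1
    · have : (((x * g * x⁻¹ * g⁻¹ : K) : GL ι F))⁻¹ =
          (g : GL ι F) * x * (g : GL ι F)⁻¹ * (x : GL ι F)⁻¹ := by
        simp [mul_assoc]
      rw [this, Units.val_mul, Units.val_mul, Units.val_mul]
      have e : (((1 : ℕ) : ℤ) + ((m + 1 : ℕ) : ℤ)) = ((m + 1 + 1 : ℕ) : ℤ) := by push_cast; ring
      rw [← e]
      exact c2
  · rw [Subgroup.eq_bot_iff_forall]
    intro x hx
    rw [Subgroup.mem_subgroupOf] at hx
    have h0 : ((x : GL ι F) : Matrix ι ι F) - 1 = 0 :=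
      hx.1.eq_zero (fun i j => by have := hp i j; push_cast; omega)
    apply Subtype.ext
    apply Units.ext
    rw [Subgroup.coe_one, Units.val_one]
    exact sub_eq_zero.mp h0

end Cfsg.Agent.H22
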