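import Mathlib
import Cfsg.Prelude.Def_Sporadic_a

/-!
# Projective planes of order 4 as Steiner systems `S(2, 5, 21)` (helper22)

Basic facts: the line through two points, five lines through every point, two lines meet in exactly one
point; independent sets (no three points on a line) and the points on the secants of a set.
-/

set_option autoImplicit false

namespace Cfsg.Agent.H22.Plane4

open Finset

variable {α : Type*} [Fintype α] [DecidableEq α] {L : Set (Finset α)}

/-- a projective plane of order 4, as a Steiner system -/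
structure IsPlane (L : Set (Finset α)) : Prop where
  card : Fintype.card α = 21
  st : Cfsg.IsSteinerSystem 2 5 L

open scoped Classical in
/-- the lines through a point -/
noncomputable def through (L : Set (Finset α)) (p : α) : Finset (Finset α) :=
  Finset.univ.filter fun l => l ∈ L ∧ p ∈ l

theorem mem_through {p : α} {l : Finset α} : l ∈ through L p ↔ l ∈ L ∧ p ∈ l := by
  simp [through]

namespace IsPlane

variable (P : IsPlane L)
include P

theorem card_line {l : Finset α} (hl : l ∈ L) : l.card = 5 := P.st.1 l hl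

theorem exists_line {a b : α} (h : a ≠ b) : ∃ l ∈ L, a ∈ l ∧ b ∈ l := by
  obtain ⟨l, ⟨hl, hs⟩, _⟩ := P.st.2 {a, b} (Finset.card_pair h)
  exact ⟨l, hl, hs (by simp), hs (by simp)⟩

theorem line_unique {l m : Finset α} (hl : l ∈ L) (hm : m ∈ L) {a b : α} (hab : a ≠ b)
    (al : a ∈ l) (bl : b ∈ l) (am : a ∈ m) (bm : b ∈ m) : l = m := by
  obtain ⟨k, _, hu⟩ := P.st.2 {a, b} (Finset.card_pair hab)
  have h1 := hu l ⟨hl, by
    intro x hx
    simp only [mem_insert, mem_singleton] at hx
    rcases hx with rfl | rfl <;> assumption⟩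
  have h2 := hu m ⟨hm, by
    intro x hx
    simp only [mem_insert, mem_singleton] at hx
    rcases hx with rfl | rfl <;> assumption⟩
  rw [h1, h2]

theorem card_through (p : α) : (through L p).card = 5 := by
  have h1 : (through L p).biUnion (fun l => l.erase p) = Finset.univ.erase p := by
    ext x
    simp only [mem_biUnion, mem_erase, mem_univ, and_true]
    constructor
    · rintro ⟨l, _, hx, _⟩
      exact hx
    · intro hx
      obtain ⟨l, hl, xl, pl⟩ := P.exists_line hx
      exact ⟨l, mem_through.mpr ⟨hl, pl⟩, hx, xl⟩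
  have h2 : ((through L p).biUnion (fun l => l.erase p)).card
      = ∑ l ∈ through L p, (l.erase p).card := by
    apply Finset.card_biUnion
    intro l hl m hm hne
    show Disjoint (l.erase p) (m.erase p)
    rw [Finset.disjoint_left]
    intro x hxl hxm
    rw [mem_coe, mem_through] at hl hm
    apply hne
    exact P.line_unique hl.1 hm.1 (Finset.ne_of_mem_erase hxl) (Finset.mem_of_mem_erase hxl) hl.2
      (Finset.mem_of_mem_erase hxm) hm.2
  have h3 : ∀ l ∈ through L p, (l.erase p).card = 4 := by
    intro l hl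
    rw [mem_through] at hl
    rw [Finset.card_erase_of_mem hl.2, P.card_line hl.1]
  rw [h1, Finset.sum_congr rfl h3, Finset.sum_const, Finset.card_erase_of_mem (mem_univ p),
    Finset.card_univ, P.card, smul_eq_mul] at h2
  omega

/-- any two lines meet -/
theorem meet {l m : Finset α} (hl : l ∈ L) (hm : m ∈ L) : ∃ x, x ∈ l ∧ x ∈ m := by
  by_contra hcon
  push Not at hcon
  have hm5 := P.card_line hm
  obtain ⟨p, hp⟩ : m.Nonempty := Finset.card_pos.mp (by omega)
  have hpl : p ∉ l := fun h => hcon p h hp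
  have key : ∀ x ∈ l, ∃ k ∈ through L p, x ∈ k := by
    intro x hx
    have hne : x ≠ p := fun h => hpl (h ▸ hx)
    obtain ⟨k, hk, xk, pk⟩ := P.exists_line hne
    exact ⟨k, mem_through.mpr ⟨hk, pk⟩, xk⟩
  choose! f hf using key
  have hinj : Set.InjOn f l := by
    intro x hx y hy hxy
    by_contra hne
    have h1 := hf x hx
    have h2 := hf y hy
    rw [← hxy] at h2
    have := P.line_unique (mem_through.mp h1.1).1 hl hne h1.2 h2.2 hx hy
    exact hpl (this ▸ (mem_through.mp h1.1).2)
  have himg : l.image f = through L p := by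
    apply Finset.eq_of_subset_of_card_le
    · intro k hk
      obtain ⟨x, hx, rfl⟩ := Finset.mem_image.mp hk
      exact (hf x hx).1
    · rw [Finset.card_image_of_injOn hinj, P.card_through, P.card_line hl]
  have hmm : m ∈ l.image f := by
    rw [himg]
    exact mem_through.mpr ⟨hm, hp⟩
  obtain ⟨x, hx, rfl⟩ := Finset.mem_image.mp hmm
  exact hcon x hx (hf x hx).2

theorem inter_eq_of_mem {l m : Finset α} (hl : l ∈ L) (hm : m ∈ L) (hne : l ≠ m) {x : α}
    (xl : x ∈ l) (xm : x ∈ m) : l ∩ m = {x} := by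
  ext y
  simp only [mem_inter, mem_singleton]
  constructor
  · rintro ⟨yl, ym⟩
    by_contra hyx
    exact hne (P.line_unique hl hm hyx yl xl ym xm)
  · rintro rfl
    exact ⟨xl, xm⟩

theorem inter_eq {l m : Finset α} (hl : l ∈ L) (hm : m ∈ L) (hne : l ≠ m) :
    ∃ x, x ∈ l ∧ x ∈ m ∧ l ∩ m = {x} := by
  obtain ⟨x, xl, xm⟩ := P.meet hl hm
  exact ⟨x, xl, xm, P.inter_eq_of_mem hl hm hne xl xm⟩

end IsPlane

/-- the line through two distinct points (empty if they are equal) -/
noncomputable def ln (P : IsPlane L) (a b : α) : Finset α :=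
  if h : a ≠ b then Classical.choose (P.exists_line h) else ∅

section ln

variable (P : IsPlane L)

theorem ln_mem {a b : α} (h : a ≠ b) : ln P a b ∈ L := by
  rw [ln, dif_pos h]
  exact (Classical.choose_spec (P.exists_line h)).1

theorem left_mem_ln {a b : α} (h : a ≠ b) : a ∈ ln P a b := by
  rw [ln, dif_pos h]
  exact (Classical.choose_spec (P.exists_line h)).2.1

theorem right_mem_ln {a b : α} (h : a ≠ b) : b ∈ ln P a b := by
  rw [ln, dif_pos h]
  exact (Classical.choose_spec (P.exists_line h)).2.2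

theorem eq_ln {l : Finset α} (hl : l ∈ L) {a b : α} (h : a ≠ b) (al : a ∈ l) (bl : b ∈ l) :
    l = ln P a b :=
  P.line_unique hl (ln_mem P h) h al bl (left_mem_ln P h) (right_mem_ln P h)

theorem ln_comm {a b : α} (h : a ≠ b) : ln P a b = ln P b a :=
  eq_ln P (ln_mem P h) h.symm (right_mem_ln P h) (left_mem_ln P h)

theorem card_ln {a b : α} (h : a ≠ b) : (ln P a b).card = 5 := P.card_line (ln_mem P h)

end ln

/-! ### Independent sets -/

/-- no line meets `S` in more than two points -/
def Indep (L : Set (Finset α)) (S : Finset α) : Prop := ∀ l ∈ L, (l ∩ S).card ≤ 2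

theorem Indep.mono {S T : Finset α} (h : Indep L S) (hTS : T ⊆ S) : Indep L T :=
  fun l hl => (Finset.card_le_card (Finset.inter_subset_inter (Finset.Subset.refl l) hTS)).trans
    (h l hl)

theorem Indep.not_mem {S : Finset α} (h : Indep L S) {l : Finset α} (hl : l ∈ L) {a b c : α}
    (ha : a ∈ S) (hb : b ∈ S) (hc : c ∈ S) (hab : a ≠ b) (hac : a ≠ c) (hbc : b ≠ c)
    (al : a ∈ l) (bl : b ∈ l) : c ∉ l := by
  intro cl
  have hsub : ({a, b, c} : Finset α) ⊆ l ∩ S := by
    intro x hx
    simp only [mem_insert, mem_singleton] at hx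
    rcases hx with rfl | rfl | rfl <;> simp [*]
  have h3 : ({a, b, c} : Finset α).card = 3 := Finset.card_eq_three.mpr ⟨a, b, c, hab, hac, hbc, rfl⟩
  have h4 := Finset.card_le_card hsub
  have h5 := h l hl
  omega

/-- the points on the secants of `T` (lines through two distinct points of `T`) -/
noncomputable def sec (L : Set (Finset α)) (T : Finset α) : Finset α := by
  classical
  exact Finset.univ.filter fun x => ∃ l ∈ L, x ∈ l ∧ ∃ u ∈ T, ∃ w ∈ T, u ≠ w ∧ u ∈ l ∧ w ∈ l

theorem mem_sec {T : Finset α} {x : α} :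
    x ∈ sec L T ↔ ∃ l ∈ L, x ∈ l ∧ ∃ u ∈ T, ∃ w ∈ T, u ≠ w ∧ u ∈ l ∧ w ∈ l := by
  classical
  simp [sec]

theorem sec_mono {S T : Finset α} (h : T ⊆ S) : sec L T ⊆ sec L S := by
  intro x hx
  rw [mem_sec] at hx ⊢
  obtain ⟨l, hl, xl, u, hu, w, hw, huw, ul, wl⟩ := hx
  exact ⟨l, hl, xl, u, h hu, w, h hw, huw, ul, wl⟩

theorem indep_insert_iff {T : Finset α} (hT : Indep L T) {x : α} (hx : x ∉ T) :
    Indep L (insert x T) ↔ x ∉ sec L T := by
  constructor
  · intro h hs
    rw [mem_sec] at hs
    obtain ⟨l, hl, xl, u, hu, w, hw, huw, ul, wl⟩ := hs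
    exact h.not_mem hl (mem_insert_of_mem hu) (mem_insert_of_mem hw) (mem_insert_self x T) huw
      (fun e => hx (e ▸ hu)) (fun e => hx (e ▸ hw)) ul wl xl
  · intro h l hl
    by_cases xl : x ∈ l
    · have h1 : (l ∩ T).card ≤ 1 := by
        by_contra hcon
        push Not at hcon
        obtain ⟨u, hu, w, hw, huw⟩ := Finset.one_lt_card.mp hcon
        rw [mem_inter] at hu hw
        exact h (mem_sec.mpr ⟨l, hl, xl, u, hu.2, w, hw.2, huw, hu.1, hw.1⟩)
      have h2 : l ∩ insert x T = insert x (l ∩ T) := by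
        rw [Finset.inter_insert_of_mem xl]
      rw [h2]
      exact (Finset.card_insert_le _ _).trans (by omega)
    · rw [Finset.inter_insert_of_notMem xl]
      exact hT l hl

theorem subset_sec (P : IsPlane L) {T : Finset α} (hT : 2 ≤ T.card) : T ⊆ sec L T := by
  intro x hx
  obtain ⟨y, hy, hyx⟩ : ∃ y ∈ T, y ≠ x := by
    by_contra hcon
    push Not at hcon
    have : T ⊆ {x} := fun y hy => mem_singleton.mpr (hcon y hy)
    have := Finset.card_le_card this
    simp at this
    omega
  exact mem_sec.mpr ⟨ln P x y, ln_mem P hyx.symm, left_mem_ln P hyx.symm, x, hx, y, hy, hyx.symm,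
    left_mem_ln P hyx.symm, right_mem_ln P hyx.symm⟩

theorem sec_insert (P : IsPlane L) {T : Finset α} {v : α} (hv : v ∉ T) :
    sec L (insert v T) = sec L T ∪ T.biUnion fun x => ln P v x := by
  ext y
  simp only [mem_union, mem_biUnion, mem_sec]
  constructor
  · rintro ⟨l, hl, yl, u, hu, w, hw, huw, ul, wl⟩
    rw [mem_insert] at hu hw
    rcases hu with rfl | hu
    · rcases hw with rfl | hw
      · exact absurd rfl huw
      · right
        refine ⟨w, hw, ?_⟩
        rw [← eq_ln P hl huw ul wl]
        exact yl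
    · rcases hw with rfl | hw
      · right
        refine ⟨u, hu, ?_⟩
        rw [← eq_ln P hl huw.symm wl ul]
        exact yl
      · left
        exact ⟨l, hl, yl, u, hu, w, hw, huw, ul, wl⟩
  · rintro (⟨l, hl, yl, u, hu, w, hw, huw, ul, wl⟩ | ⟨x, hx, yx⟩)
    · exact ⟨l, hl, yl, u, mem_insert_of_mem hu, w, mem_insert_of_mem hw, huw, ul, wl⟩
    · have hvx : v ≠ x := fun e => hv (e ▸ hx)
      exact ⟨ln P v x, ln_mem P hvx, yx, v, mem_insert_self v T, x, mem_insert_of_mem hx, hvx,
        left_mem_ln P hvx, right_mem_ln P hvx⟩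

theorem sec_singleton (a : α) : sec L ({a} : Finset α) = ∅ := by
  ext y
  simp only [mem_sec, mem_singleton, notMem_empty, iff_false]
  rintro ⟨l, _, _, u, rfl, w, rfl, huw, _⟩
  exact huw rfl

theorem sec_pair (P : IsPlane L) {a b : α} (h : a ≠ b) : sec L ({a, b} : Finset α) = ln P a b := by
  rw [sec_insert P (by simpa using h), sec_singleton]
  simp

theorem sec_triple (P : IsPlane L) {a b c : α} (hab : a ≠ b) (hac : a ≠ c) (hbc : b ≠ c) :
    sec L ({a, b, c} : Finset α) = ln P b c ∪ (ln P a b ∪ ln P a c) := by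
  rw [sec_insert P (by simp [hab, hac]), sec_pair P hbc]
  congr 1
  ext y
  simp

end Cfsg.Agent.H22.Plane4
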