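import Cfsg.Agent.H22.Plane4

/-!
# Counting independent sets in a projective plane of order 4 (helper22)

`2520` independent 4-sets, `168` hyperovals, and every independent 4-set lies in exactly one hyperoval.
-/

set_option autoImplicit false

namespace Cfsg.Agent.H22.Plane4

open Finset

variable {α : Type*} [Fintype α] [DecidableEq α] {L : Set (Finset α)}

/-- the independent `k`-sets -/
noncomputable def indSets (L : Set (Finset α)) (k : ℕ) : Finset (Finset α) := by
  classical
  exact (Finset.powersetCard k Finset.univ).filter (Indep L)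

theorem mem_indSets {k : ℕ} {S : Finset α} : S ∈ indSets L k ↔ S.card = k ∧ Indep L S := by
  classical
  simp [indSets, Finset.mem_powersetCard]

theorem ncard_eq (k : ℕ) :
    {S : Finset α | S.card = k ∧ ∀ l ∈ L, (l ∩ S).card ≤ 2}.ncard = (indSets L k).card := by
  rw [← Set.ncard_coe_finset]
  congr 1
  ext S
  simp [mem_indSets, Indep]

/-- double counting of pairs `T ⊆ S` of independent sets -/
theorem dcount (k n e : ℕ)
    (he : ∀ T ∈ indSets L k, ∀ [DecidablePred fun S : Finset α => T ⊆ S],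
      ((indSets L n).filter (fun S => T ⊆ S)).card = e) :
    e * (indSets L k).card = n.choose k * (indSets L n).card := by
  classical
  have h := Finset.sum_card_bipartiteAbove_eq_sum_card_bipartiteBelow (s := indSets L k)
    (t := indSets L n) (fun T S : Finset α => T ⊆ S)
  have h1 : ∑ T ∈ indSets L k, ((indSets L n).bipartiteAbove (fun T S : Finset α => T ⊆ S) T).card
      = e * (indSets L k).card := by
    have he' : ∀ T ∈ indSets L k,
        ((indSets L n).bipartiteAbove (fun T S : Finset α => T ⊆ S) T).card = e :=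
      fun T hT => he T hT
    rw [Finset.sum_congr rfl he', Finset.sum_const, smul_eq_mul, mul_comm]
  have h2 : ∑ S ∈ indSets L n, ((indSets L k).bipartiteBelow (fun T S : Finset α => T ⊆ S) S).card
      = n.choose k * (indSets L n).card := by
    have h3 : ∀ S ∈ indSets L n,
        ((indSets L k).bipartiteBelow (fun T S : Finset α => T ⊆ S) S).card = n.choose k := by
      intro S hS
      rw [mem_indSets] at hS
      have h4 : (indSets L k).bipartiteBelow (fun T S : Finset α => T ⊆ S) S
          = Finset.powersetCard k S := by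
        ext T
        simp only [Finset.mem_bipartiteBelow, mem_indSets, Finset.mem_powersetCard]
        constructor
        · rintro ⟨⟨hc, _⟩, hsub⟩
          exact ⟨hsub, hc⟩
        · rintro ⟨hsub, hc⟩
          exact ⟨⟨hc, hS.2.mono hsub⟩, hsub⟩
      rw [h4, Finset.card_powersetCard, hS.1]
    rw [Finset.sum_congr rfl h3, Finset.sum_const, smul_eq_mul, mul_comm]
  rw [← h1, ← h2, h]

/-- the independent sets with one more point -/
theorem ext_card (P : IsPlane L) {k : ℕ} {T : Finset α} (hT : T ∈ indSets L k) (hk : 2 ≤ k)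
    [DecidablePred fun S : Finset α => T ⊆ S] :
    ((indSets L (k + 1)).filter (fun S => T ⊆ S)).card = 21 - (sec L T).card := by
  rw [mem_indSets] at hT
  have hsub : T ⊆ sec L T := subset_sec P (by omega)
  have h1 : (indSets L (k + 1)).filter (fun S => T ⊆ S)
      = (Finset.univ \ sec L T).image (fun x => insert x T) := by
    ext S
    simp only [mem_filter, mem_indSets, mem_image, mem_sdiff, mem_univ, true_and]
    constructor
    · rintro ⟨⟨hc, hi⟩, hTS⟩
      have h2 : (S \ T).card = 1 := by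
        rw [Finset.card_sdiff_of_subset hTS]
        omega
      obtain ⟨x, hx⟩ := Finset.card_eq_one.mp h2
      have hxS : x ∈ S ∧ x ∉ T := by
        have : x ∈ S \ T := by
          rw [hx]
          exact mem_singleton_self x
        exact mem_sdiff.mp this
      have hS : S = insert x T := by
        rw [← Finset.sdiff_union_of_subset hTS, hx, Finset.insert_eq]
      refine ⟨x, ?_, hS.symm⟩
      rw [← indep_insert_iff hT.2 hxS.2, ← hS]
      exact hi
    · rintro ⟨x, hx, rfl⟩
      have hxT : x ∉ T := fun h => hx (hsub h)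
      exact ⟨⟨by rw [Finset.card_insert_of_notMem hxT, hT.1], (indep_insert_iff hT.2 hxT).mpr hx⟩,
        Finset.subset_insert x T⟩
  rw [h1, Finset.card_image_of_injOn, Finset.card_sdiff_of_subset (Finset.subset_univ _),
    Finset.card_univ, P.card]
  intro x hx y hy hxy
  have hx' : x ∉ sec L T := by
    have := mem_sdiff.mp (mem_coe.mp hx)
    exact this.2
  have hxT : x ∉ T := fun h => hx' (hsub h)
  have hmem : x ∈ insert y T := by
    have : insert x T = insert y T := hxy
    rw [← this]
    exact mem_insert_self x T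
  rcases mem_insert.mp hmem with h | h
  · exact h
  · exact absurd h hxT

theorem card_union3 {β : Type*} [DecidableEq β] (A B C : Finset β) (d : β) (hAB : A ∩ B = {d})
    (hAC : A ∩ C = {d}) (hBC : B ∩ C = {d}) :
    (A ∪ B ∪ C).card + 2 = A.card + B.card + C.card := by
  have h1 := Finset.card_union_add_card_inter (A ∪ B) C
  have h2 := Finset.card_union_add_card_inter A B
  have h3 : (A ∪ B) ∩ C = {d} := by
    rw [Finset.union_inter_distrib_right, hAC, hBC, Finset.union_self]
  rw [h3, Finset.card_singleton] at h1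
  rw [hAB, Finset.card_singleton] at h2
  omega

section triangle

variable (P : IsPlane L) {x y z : α} (hxy : x ≠ y) (hxz : x ≠ z) (hyz : y ≠ z)
  (hi : Indep L ({x, y, z} : Finset α))
include P hxy hxz hyz hi

theorem tri_not_mem : z ∉ ln P x y ∧ y ∉ ln P x z ∧ x ∉ ln P y z := by
  refine ⟨?_, ?_, ?_⟩
  · exact hi.not_mem (ln_mem P hxy) (by simp) (by simp) (by simp) hxy hxz hyz (left_mem_ln P hxy)
      (right_mem_ln P hxy)
  · exact hi.not_mem (ln_mem P hxz) (by simp) (by simp) (by simp) hxz hxy hyz.symm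
      (left_mem_ln P hxz) (right_mem_ln P hxz)
  · exact hi.not_mem (ln_mem P hyz) (by simp) (by simp) (by simp) hyz hxy.symm hxz.symm
      (left_mem_ln P hyz) (right_mem_ln P hyz)

theorem tri_inter :
    ln P x y ∩ ln P x z = {x} ∧ ln P y z ∩ ln P x y = {y} ∧ ln P y z ∩ ln P x z = {z} := by
  obtain ⟨h1, h2, h3⟩ := tri_not_mem P hxy hxz hyz hi
  refine ⟨?_, ?_, ?_⟩
  · exact P.inter_eq_of_mem (ln_mem P hxy) (ln_mem P hxz)
      (fun e => h1 (e ▸ right_mem_ln P hxz)) (left_mem_ln P hxy) (left_mem_ln P hxz)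
  · exact P.inter_eq_of_mem (ln_mem P hyz) (ln_mem P hxy)
      (fun e => h1 (e ▸ right_mem_ln P hyz)) (left_mem_ln P hyz) (right_mem_ln P hxy)
  · exact P.inter_eq_of_mem (ln_mem P hyz) (ln_mem P hxz)
      (fun e => h2 (e ▸ left_mem_ln P hyz)) (right_mem_ln P hyz) (right_mem_ln P hxz)

theorem card_sec_triple : (sec L ({x, y, z} : Finset α)).card = 12 := by
  obtain ⟨i1, i2, i3⟩ := tri_inter P hxy hxz hyz hi
  rw [sec_triple P hxy hxz hyz]
  have h1 := Finset.card_union_add_card_inter (ln P x y) (ln P x z)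
  rw [i1, Finset.card_singleton, card_ln P hxy, card_ln P hxz] at h1
  have h2 := Finset.card_union_add_card_inter (ln P y z) (ln P x y ∪ ln P x z)
  have h3 : ln P y z ∩ (ln P x y ∪ ln P x z) = {y, z} := by
    rw [Finset.inter_union_distrib_left, i2, i3]
    rfl
  rw [h3, Finset.card_pair hyz, card_ln P hyz] at h2
  omega

/-- a line through none of the vertices of a triangle has two points off its sides -/
theorem card_sdiff_sec_zero {m : Finset α} (hm : m ∈ L) (hx : x ∉ m) (hy : y ∉ m) (hz : z ∉ m) :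
    (m \ sec L ({x, y, z} : Finset α)).card = 2 := by
  obtain ⟨i1, i2, i3⟩ := tri_inter P hxy hxz hyz hi
  obtain ⟨t1, t1m, t1l, e1⟩ := P.inter_eq hm (ln_mem P hyz)
    (fun e => hy (e ▸ left_mem_ln P hyz))
  obtain ⟨t2, t2m, t2l, e2⟩ := P.inter_eq hm (ln_mem P hxy)
    (fun e => hx (e ▸ left_mem_ln P hxy))
  obtain ⟨t3, t3m, t3l, e3⟩ := P.inter_eq hm (ln_mem P hxz)
    (fun e => hx (e ▸ left_mem_ln P hxz))
  have h23 : t2 ≠ t3 := by
    rintro rfl
    have : t2 ∈ ln P x y ∩ ln P x z := mem_inter.mpr ⟨t2l, t3l⟩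
    rw [i1, mem_singleton] at this
    exact hx (this ▸ t2m)
  have h12 : t1 ≠ t2 := by
    rintro rfl
    have : t1 ∈ ln P y z ∩ ln P x y := mem_inter.mpr ⟨t1l, t2l⟩
    rw [i2, mem_singleton] at this
    exact hy (this ▸ t1m)
  have h13 : t1 ≠ t3 := by
    rintro rfl
    have : t1 ∈ ln P y z ∩ ln P x z := mem_inter.mpr ⟨t1l, t3l⟩
    rw [i3, mem_singleton] at this
    exact hz (this ▸ t1m)
  have h4 : sec L ({x, y, z} : Finset α) ∩ m = {t1, t2, t3} := by
    rw [sec_triple P hxy hxz hyz, Finset.inter_comm, Finset.inter_union_distrib_left,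
      Finset.inter_union_distrib_left, e1, e2, e3]
    rfl
  rw [Finset.card_sdiff, h4, P.card_line hm, Finset.card_eq_three.mpr ⟨t1, t2, t3, h12, h13, h23, rfl⟩]

/-- a line through exactly one vertex of a triangle has three points off its sides -/
theorem card_sdiff_sec_one {m : Finset α} (hm : m ∈ L) (hx : x ∈ m) (hy : y ∉ m) (hz : z ∉ m) :
    (m \ sec L ({x, y, z} : Finset α)).card = 3 := by
  obtain ⟨n1, n2, n3⟩ := tri_not_mem P hxy hxz hyz hi
  obtain ⟨t1, t1m, t1l, e1⟩ := P.inter_eq hm (ln_mem P hyz)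
    (fun e => hy (e ▸ left_mem_ln P hyz))
  have e2 : m ∩ ln P x y = {x} := P.inter_eq_of_mem hm (ln_mem P hxy)
    (fun e => hy (e ▸ right_mem_ln P hxy)) hx (left_mem_ln P hxy)
  have e3 : m ∩ ln P x z = {x} := P.inter_eq_of_mem hm (ln_mem P hxz)
    (fun e => hz (e ▸ right_mem_ln P hxz)) hx (left_mem_ln P hxz)
  have h1x : t1 ≠ x := by
    rintro rfl
    exact n3 t1l
  have h4 : sec L ({x, y, z} : Finset α) ∩ m = {t1, x} := by
    rw [sec_triple P hxy hxz hyz, Finset.inter_comm, Finset.inter_union_distrib_left,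
      Finset.inter_union_distrib_left, e1, e2, e3, Finset.union_self]
    rfl
  rw [Finset.card_sdiff, h4, P.card_line hm, Finset.card_pair h1x]

end triangle

section quad

variable (P : IsPlane L)
include P

theorem quad_card_sec {v x y z : α} (hvx : v ≠ x) (hvy : v ≠ y) (hvz : v ≠ z) (hxy : x ≠ y)
    (hxz : x ≠ z) (hyz : y ≠ z) (hi : Indep L ({v, x, y, z} : Finset α)) :
    (sec L ({v, x, y, z} : Finset α)).card = 19 := by
  have hT : Indep L ({x, y, z} : Finset α) := hi.mono (Finset.subset_insert _ _)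
  have hvT : v ∉ ({x, y, z} : Finset α) := by simp [hvx, hvy, hvz]
  have hvs : v ∉ sec L ({x, y, z} : Finset α) := (indep_insert_iff hT hvT).mp hi
  have nc : ∀ a b c : α, a ∈ ({v, x, y, z} : Finset α) → b ∈ ({v, x, y, z} : Finset α) →
      c ∈ ({v, x, y, z} : Finset α) → ∀ hab : a ≠ b, a ≠ c → b ≠ c → c ∉ ln P a b :=
    fun a b c ha hb hc hab hac hbc =>
      hi.not_mem (ln_mem P hab) ha hb hc hab hac hbc (left_mem_ln P hab) (right_mem_ln P hab)
  have mv : v ∈ ({v, x, y, z} : Finset α) := by simp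
  have mx : x ∈ ({v, x, y, z} : Finset α) := by simp
  have my : y ∈ ({v, x, y, z} : Finset α) := by simp
  have mz : z ∈ ({v, x, y, z} : Finset α) := by simp
  have e1 : ({y, x, z} : Finset α) = {x, y, z} := Finset.insert_comm y x {z}
  have e2 : ({z, x, y} : Finset α) = {x, y, z} := by
    ext w
    simp only [mem_insert, mem_singleton]
    tauto
  have cA : (ln P v x \ sec L ({x, y, z} : Finset α)).card = 3 :=
    card_sdiff_sec_one P hxy hxz hyz hT (ln_mem P hvx) (right_mem_ln P hvx)
      (nc v x y mv mx my hvx hvy hxy) (nc v x z mv mx mz hvx hvz hxz)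
  have cB : (ln P v y \ sec L ({x, y, z} : Finset α)).card = 3 := by
    have := card_sdiff_sec_one P hxy.symm hyz hxz (e1 ▸ hT) (ln_mem P hvy) (right_mem_ln P hvy)
      (nc v y x mv my mx hvy hvx hxy.symm) (nc v y z mv my mz hvy hvz hyz)
    rwa [e1] at this
  have cC : (ln P v z \ sec L ({x, y, z} : Finset α)).card = 3 := by
    have := card_sdiff_sec_one P hxz.symm hyz.symm hxy (e2 ▸ hT) (ln_mem P hvz)
      (right_mem_ln P hvz) (nc v z x mv mz mx hvz hvx hxz.symm) (nc v z y mv mz my hvz hvy hyz.symm)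
    rwa [e2] at this
  have ixy : ln P v x ∩ ln P v y = {v} := P.inter_eq_of_mem (ln_mem P hvx) (ln_mem P hvy)
    (fun e => nc v x y mv mx my hvx hvy hxy (e ▸ right_mem_ln P hvy)) (left_mem_ln P hvx)
    (left_mem_ln P hvy)
  have ixz : ln P v x ∩ ln P v z = {v} := P.inter_eq_of_mem (ln_mem P hvx) (ln_mem P hvz)
    (fun e => nc v x z mv mx mz hvx hvz hxz (e ▸ right_mem_ln P hvz)) (left_mem_ln P hvx)
    (left_mem_ln P hvz)
  have iyz : ln P v y ∩ ln P v z = {v} := P.inter_eq_of_mem (ln_mem P hvy) (ln_mem P hvz)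
    (fun e => nc v y z mv my mz hvy hvz hyz (e ▸ right_mem_ln P hvz)) (left_mem_ln P hvy)
    (left_mem_ln P hvz)
  have sd : ∀ s t u : Finset α, s ∩ t = {v} → v ∉ u → (s \ u) ∩ (t \ u) = {v} := by
    intro s t u hst hvu
    ext w
    have hw : w ∈ s ∩ t ↔ w = v := by rw [hst, mem_singleton]
    simp only [mem_inter, mem_sdiff, mem_singleton] at hw ⊢
    constructor
    · rintro ⟨⟨h1, _⟩, h2, _⟩
      exact hw.mp ⟨h1, h2⟩
    · intro h
      have := hw.mpr h
      subst h
      exact ⟨⟨this.1, hvu⟩, this.2, hvu⟩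
  have h7 := card_union3 _ _ _ v (sd _ _ _ ixy hvs) (sd _ _ _ ixz hvs) (sd _ _ _ iyz hvs)
  rw [cA, cB, cC] at h7
  have hM : (ln P v x ∪ ln P v y ∪ ln P v z) \ sec L ({x, y, z} : Finset α)
      = ln P v x \ sec L ({x, y, z} : Finset α) ∪ ln P v y \ sec L ({x, y, z} : Finset α) ∪
        ln P v z \ sec L ({x, y, z} : Finset α) := by
    rw [Finset.union_sdiff_distrib, Finset.union_sdiff_distrib]
  have hS : sec L ({v, x, y, z} : Finset α)
      = (ln P v x ∪ ln P v y ∪ ln P v z) ∪ sec L ({x, y, z} : Finset α) := by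
    rw [sec_insert P hvT, Finset.union_comm]
    congr 1
    ext w
    simp only [mem_biUnion, mem_insert, mem_singleton, mem_union]
    constructor
    · rintro ⟨u, rfl | rfl | rfl, hu⟩
      · exact Or.inl (Or.inl hu)
      · exact Or.inl (Or.inr hu)
      · exact Or.inr hu
    · rintro ((h | h) | h)
      · exact ⟨x, Or.inl rfl, h⟩
      · exact ⟨y, Or.inr (Or.inl rfl), h⟩
      · exact ⟨z, Or.inr (Or.inr rfl), h⟩
  have h8 := Finset.card_sdiff_add_card (ln P v x ∪ ln P v y ∪ ln P v z)
    (sec L ({x, y, z} : Finset α))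
  rw [hM, card_sec_triple P hxy hxz hyz hT] at h8
  rw [hS]
  omega

theorem quad_off {S : Finset α} (hS : S.card = 4) (hi : Indep L S) :
    (Finset.univ \ sec L S).card = 2 := by
  obtain ⟨v, hv⟩ : S.Nonempty := Finset.card_pos.mp (by omega)
  have h3 : (S.erase v).card = 3 := by rw [Finset.card_erase_of_mem hv, hS]
  obtain ⟨x, y, z, hxy, hxz, hyz, hT⟩ := Finset.card_eq_three.mp h3
  have hSe : S = {v, x, y, z} := by rw [← hT, Finset.insert_erase hv]
  have hvT : v ∉ ({x, y, z} : Finset α) := by
    rw [← hT]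
    exact Finset.notMem_erase v S
  simp only [mem_insert, mem_singleton, not_or] at hvT
  subst hSe
  rw [Finset.card_sdiff_of_subset (Finset.subset_univ _), Finset.card_univ, P.card,
    quad_card_sec P hvT.1 hvT.2.1 hvT.2.2 hxy hxz hyz hi]

theorem quad_no_line {S : Finset α} (hS : S.card = 4) (hi : Indep L S) {p q w : α} (hw : w ∈ S)
    (hp : p ∉ sec L S) (hq : q ∉ sec L S) (hpq : p ≠ q) : q ∉ ln P p w := by
  intro hqm
  have hsub : S ⊆ sec L S := subset_sec P (by omega)
  have hpw : p ≠ w := fun e => hp (hsub (e ▸ hw))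
  have hqw : q ≠ w := fun e => hq (hsub (e ▸ hw))
  have h3 : (S.erase w).card = 3 := by rw [Finset.card_erase_of_mem hw, hS]
  obtain ⟨x, y, z, hxy, hxz, hyz, hT⟩ := Finset.card_eq_three.mp h3
  have hTS : ({x, y, z} : Finset α) ⊆ S := by
    rw [← hT]
    exact Finset.erase_subset w S
  have hTi : Indep L ({x, y, z} : Finset α) := hi.mono hTS
  have hwT : w ∉ ({x, y, z} : Finset α) := by
    rw [← hT]
    exact Finset.notMem_erase w S
  have hwi : Indep L (insert w ({x, y, z} : Finset α)) := by
    rw [← hT, Finset.insert_erase hw]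
    exact hi
  have hws : w ∉ sec L ({x, y, z} : Finset α) := (indep_insert_iff hTi hwT).mp hwi
  have hnot : ∀ u ∈ ({x, y, z} : Finset α), u ∉ ln P p w := by
    intro u hu hum
    have hwu : w ≠ u := fun e => hwT (e ▸ hu)
    exact hp (mem_sec.mpr ⟨ln P p w, ln_mem P hpw, left_mem_ln P hpw, w, hw, u, hTS hu, hwu,
      right_mem_ln P hpw, hum⟩)
  have h2 := card_sdiff_sec_zero P hxy hxz hyz hTi (ln_mem P hpw) (hnot x (by simp))
    (hnot y (by simp)) (hnot z (by simp))
  have hsm := sec_mono (L := L) hTS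
  have hsub3 : ({w, p, q} : Finset α) ⊆ ln P p w \ sec L ({x, y, z} : Finset α) := by
    intro u hu
    simp only [mem_insert, mem_singleton] at hu
    rw [mem_sdiff]
    rcases hu with rfl | rfl | rfl
    · exact ⟨right_mem_ln P hpw, hws⟩
    · exact ⟨left_mem_ln P hpw, fun h => hp (hsm h)⟩
    · exact ⟨hqm, fun h => hq (hsm h)⟩
  have h3' : ({w, p, q} : Finset α).card = 3 :=
    Finset.card_eq_three.mpr ⟨w, p, q, hpw.symm, hqw.symm, hpq, rfl⟩
  have := Finset.card_le_card hsub3
  omega

/-- every independent 4-set lies in exactly one hyperoval -/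
theorem quad_hyperoval {S : Finset α} (hS : S ∈ indSets L 4) :
    ∃! H, H ∈ indSets L 6 ∧ S ⊆ H := by
  rw [mem_indSets] at hS
  obtain ⟨hc, hi⟩ := hS
  have hsub : S ⊆ sec L S := subset_sec P (by omega)
  obtain ⟨p, q, hpq, hA⟩ := Finset.card_eq_two.mp (quad_off P hc hi)
  have hp : p ∉ sec L S := by
    have : p ∈ Finset.univ \ sec L S := by rw [hA]; simp
    exact (mem_sdiff.mp this).2
  have hq : q ∉ sec L S := by
    have : q ∈ Finset.univ \ sec L S := by rw [hA]; simp
    exact (mem_sdiff.mp this).2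
  have hpS : p ∉ S := fun h => hp (hsub h)
  have hqS : q ∉ S := fun h => hq (hsub h)
  have hip : Indep L (insert p S) := (indep_insert_iff hi hpS).mpr hp
  have hqpS : q ∉ insert p S := by
    rw [mem_insert, not_or]
    exact ⟨hpq.symm, hqS⟩
  have hqs : q ∉ sec L (insert p S) := by
    rw [sec_insert P hpS, mem_union, not_or]
    refine ⟨hq, ?_⟩
    rw [mem_biUnion]
    rintro ⟨w, hw, hqw⟩
    exact quad_no_line P hc hi hw hp hq hpq hqw
  have hiq : Indep L (insert q (insert p S)) := (indep_insert_iff hip hqpS).mpr hqs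
  refine ⟨insert q (insert p S), ⟨mem_indSets.mpr ⟨?_, hiq⟩, ?_⟩, ?_⟩
  · rw [Finset.card_insert_of_notMem hqpS, Finset.card_insert_of_notMem hpS, hc]
  · exact (Finset.subset_insert p S).trans (Finset.subset_insert q _)
  · rintro H' ⟨hH', hSH'⟩
    rw [mem_indSets] at hH'
    have h1 : H' \ S ⊆ Finset.univ \ sec L S := by
      intro u hu
      rw [mem_sdiff] at hu
      rw [mem_sdiff]
      refine ⟨mem_univ u, ?_⟩
      have : Indep L (insert u S) := hH'.2.mono (by
        intro t ht
        rcases mem_insert.mp ht with rfl | ht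
        · exact hu.1
        · exact hSH' ht)
      exact (indep_insert_iff hi hu.2).mp this
    have h2 : (H' \ S).card = 2 := by
      rw [Finset.card_sdiff_of_subset hSH', hH'.1, hc]
    have h3 : H' \ S = Finset.univ \ sec L S :=
      Finset.eq_of_subset_of_card_le h1 (by rw [h2, quad_off P hc hi])
    rw [← Finset.sdiff_union_of_subset hSH', h3, hA]
    ext u
    simp only [mem_union, mem_insert, mem_singleton]
    tauto

end quad

/-- the counts -/
theorem counts (P : IsPlane L) :
    (indSets L 4).card = 2520 ∧ (indSets L 6).card = 168 := by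
  classical
  have c2 : (indSets L 2).card = 210 := by
    have : indSets L 2 = Finset.powersetCard 2 (Finset.univ : Finset α) := by
      ext S
      rw [mem_indSets, Finset.mem_powersetCard]
      constructor
      · rintro ⟨h, _⟩
        exact ⟨Finset.subset_univ S, h⟩
      · rintro ⟨_, h⟩
        exact ⟨h, fun l _ => (Finset.card_le_card Finset.inter_subset_right).trans (by omega)⟩
    rw [this, Finset.card_powersetCard, Finset.card_univ, P.card]
    rfl
  have e2 : ∀ T ∈ indSets L 2, ∀ [DecidablePred fun S : Finset α => T ⊆ S],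
      ((indSets L 3).filter (fun S => T ⊆ S)).card = 16 := by
    intro T hT _
    rw [ext_card P hT (le_refl 2)]
    obtain ⟨a, b, hab, rfl⟩ := Finset.card_eq_two.mp (mem_indSets.mp hT).1
    rw [sec_pair P hab, card_ln P hab]
  have c3 : (indSets L 3).card = 1120 := by
    have := dcount (L := L) 2 3 16 e2
    rw [c2] at this
    have h : Nat.choose 3 2 = 3 := rfl
    rw [h] at this
    omega
  have e3 : ∀ T ∈ indSets L 3, ∀ [DecidablePred fun S : Finset α => T ⊆ S],
      ((indSets L 4).filter (fun S => T ⊆ S)).card = 9 := by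
    intro T hT _
    rw [ext_card P hT (by omega)]
    obtain ⟨hc, hi⟩ := mem_indSets.mp hT
    obtain ⟨x, y, z, hxy, hxz, hyz, rfl⟩ := Finset.card_eq_three.mp hc
    rw [card_sec_triple P hxy hxz hyz hi]
  have c4 : (indSets L 4).card = 2520 := by
    have := dcount (L := L) 3 4 9 e3
    rw [c3] at this
    have h : Nat.choose 4 3 = 4 := rfl
    rw [h] at this
    omega
  have e4 : ∀ T ∈ indSets L 4, ∀ [DecidablePred fun S : Finset α => T ⊆ S],
      ((indSets L 6).filter (fun S => T ⊆ S)).card = 1 := by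
    intro T hT _
    obtain ⟨H, ⟨hH, hTH⟩, hu⟩ := quad_hyperoval P hT
    rw [Finset.card_eq_one]
    refine ⟨H, ?_⟩
    ext H'
    rw [mem_filter, mem_singleton]
    constructor
    · rintro ⟨h1, h2⟩
      exact hu H' ⟨h1, h2⟩
    · rintro rfl
      exact ⟨hH, hTH⟩
  have c6 : (indSets L 6).card = 168 := by
    have := dcount (L := L) 4 6 1 e4
    rw [c4] at this
    have h : Nat.choose 6 4 = 15 := rfl
    rw [h] at this
    omega
  exact ⟨c4, c6⟩

end Cfsg.Agent.H22.Plane4
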