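import Cfsg.Agent.H22.Plane4Iso

/-!
# Hyperovals of a projective plane of order 4 meeting a given hyperoval evenly

Through an independent set of size 1, 2, 3 there are 48, 12, 3 hyperovals; hence exactly 56
hyperovals meet a given hyperoval in an even number of points.
-/

set_option autoImplicit false

namespace Cfsg.Agent.H22.Plane4

open Finset

variable {α : Type*} [Fintype α] [DecidableEq α] {L : Set (Finset α)}

/-- the hyperovals through a set -/
noncomputable def ovalsThrough (L : Set (Finset α)) (T : Finset α) : Finset (Finset α) := by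
  classical
  exact (indSets L 6).filter (fun S => T ⊆ S)

theorem mem_ovalsThrough {T S : Finset α} : S ∈ ovalsThrough L T ↔ S ∈ indSets L 6 ∧ T ⊆ S := by
  classical
  simp [ovalsThrough]

/-- relative double counting: from the sets with one more point to the sets themselves -/
theorem through_step {k x e : ℕ} {T : Finset α} (hT : T.card = k) (hk : k ≤ 6)
    (hx : ∀ [DecidablePred fun S : Finset α => T ⊆ S],
      ((indSets L (k + 1)).filter (fun S => T ⊆ S)).card = x)
    (he : ∀ S' ∈ indSets L (k + 1), T ⊆ S' → (ovalsThrough L S').card = e) :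
    (6 - k) * (ovalsThrough L T).card = x * e := by
  classical
  have h := Finset.sum_card_bipartiteAbove_eq_sum_card_bipartiteBelow
    (s := (indSets L (k + 1)).filter (fun S => T ⊆ S)) (t := ovalsThrough L T)
    (fun S' S : Finset α => S' ⊆ S)
  have h1 : ∑ S' ∈ (indSets L (k + 1)).filter (fun S => T ⊆ S),
      ((ovalsThrough L T).bipartiteAbove (fun S' S : Finset α => S' ⊆ S) S').card = x * e := by
    have : ∀ S' ∈ (indSets L (k + 1)).filter (fun S => T ⊆ S),
        ((ovalsThrough L T).bipartiteAbove (fun S' S : Finset α => S' ⊆ S) S').card = e := by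
      intro S' hS'
      rw [mem_filter] at hS'
      rw [← he S' hS'.1 hS'.2]
      congr 1
      ext S
      simp only [mem_bipartiteAbove, mem_ovalsThrough]
      constructor
      · rintro ⟨⟨h1, _⟩, h3⟩; exact ⟨h1, h3⟩
      · rintro ⟨h1, h3⟩; exact ⟨⟨h1, hS'.2.trans h3⟩, h3⟩
    rw [Finset.sum_congr rfl this, Finset.sum_const, smul_eq_mul, hx]
  have h2 : ∑ S ∈ ovalsThrough L T,
      (((indSets L (k + 1)).filter (fun S => T ⊆ S)).bipartiteBelow
        (fun S' S : Finset α => S' ⊆ S) S).card = (6 - k) * (ovalsThrough L T).card := by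
    have : ∀ S ∈ ovalsThrough L T,
        (((indSets L (k + 1)).filter (fun S => T ⊆ S)).bipartiteBelow
          (fun S' S : Finset α => S' ⊆ S) S).card = 6 - k := by
      intro S hS
      rw [mem_ovalsThrough, mem_indSets] at hS
      obtain ⟨⟨hS6, hSi⟩, hTS⟩ := hS
      have e1 : ((indSets L (k + 1)).filter (fun S => T ⊆ S)).bipartiteBelow
          (fun S' S : Finset α => S' ⊆ S) S = (S \ T).image (fun y => insert y T) := by
        ext S'
        simp only [mem_bipartiteBelow, mem_filter, mem_indSets, mem_image, mem_sdiff]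
        constructor
        · rintro ⟨⟨⟨hc, _⟩, hTS'⟩, hS'S⟩
          have hd : (S' \ T).card = 1 := by
            rw [card_sdiff_of_subset hTS', hc, hT]; omega
          obtain ⟨y, hy⟩ := card_eq_one.1 hd
          have hy' : y ∈ S' \ T := by rw [hy]; exact mem_singleton_self y
          rw [mem_sdiff] at hy'
          refine ⟨y, ⟨hS'S hy'.1, hy'.2⟩, ?_⟩
          rw [← sdiff_union_of_subset hTS', hy]
          ext z; simp
        · rintro ⟨y, ⟨hyS, hyT⟩, rfl⟩
          have hsub : insert y T ⊆ S := insert_subset hyS hTS
          exact ⟨⟨⟨by rw [card_insert_of_notMem hyT, hT], hSi.mono hsub⟩, subset_insert y T⟩, hsub⟩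
      rw [e1, card_image_of_injOn, card_sdiff_of_subset hTS, hS6, hT]
      intro y hy y' hy' e
      simp only [coe_sdiff, Set.mem_sdiff, mem_coe] at hy hy'
      have e' : insert y T = insert y' T := e
      have : y ∈ insert y' T := by rw [← e']; exact mem_insert_self y T
      rw [mem_insert] at this
      rcases this with h | h
      · exact h
      · exact absurd h hy.2
    rw [Finset.sum_congr rfl this, Finset.sum_const, smul_eq_mul, mul_comm]
  rw [← h1, ← h2, h]

section counts
variable (P : IsPlane L)
include P

theorem ovals_four {S : Finset α} (hS : S ∈ indSets L 4) : (ovalsThrough L S).card = 1 := by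
  obtain ⟨H, ⟨hH, hTH⟩, hu⟩ := quad_hyperoval P hS
  rw [Finset.card_eq_one]
  refine ⟨H, ?_⟩
  ext H'
  rw [mem_ovalsThrough, mem_singleton]
  constructor
  · rintro ⟨h1, h2⟩
    exact hu H' ⟨h1, h2⟩
  · rintro rfl
    exact ⟨hH, hTH⟩

theorem ovals_three {T : Finset α} (hT : T ∈ indSets L 3) : (ovalsThrough L T).card = 3 := by
  have hx : ∀ [DecidablePred fun S : Finset α => T ⊆ S],
      ((indSets L (3 + 1)).filter (fun S => T ⊆ S)).card = 9 := by
    intro _
    rw [ext_card P hT (by omega)]
    obtain ⟨hc, hi⟩ := mem_indSets.mp hT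
    obtain ⟨x, y, z, hxy, hxz, hyz, rfl⟩ := Finset.card_eq_three.mp hc
    rw [card_sec_triple P hxy hxz hyz hi]
  have := through_step (L := L) (k := 3) (x := 9) (e := 1) (mem_indSets.mp hT).1 (by omega) hx
    (fun S' hS' _ => ovals_four P hS')
  omega

theorem ovals_two {T : Finset α} (hT : T ∈ indSets L 2) : (ovalsThrough L T).card = 12 := by
  have hx : ∀ [DecidablePred fun S : Finset α => T ⊆ S],
      ((indSets L (2 + 1)).filter (fun S => T ⊆ S)).card = 16 := by
    intro _
    rw [ext_card P hT (le_refl 2)]
    obtain ⟨a, b, hab, rfl⟩ := Finset.card_eq_two.mp (mem_indSets.mp hT).1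
    rw [sec_pair P hab, card_ln P hab]
  have := through_step (L := L) (k := 2) (x := 16) (e := 3) (mem_indSets.mp hT).1 (by omega) hx
    (fun S' hS' _ => ovals_three P hS')
  omega

omit P in
theorem indep_of_card_le_two {S : Finset α} (h : S.card ≤ 2) : Indep L S :=
  fun l _ => (Finset.card_le_card Finset.inter_subset_right).trans h

theorem ovals_one (a : α) : (ovalsThrough L ({a} : Finset α)).card = 48 := by
  classical
  have hx : ∀ [DecidablePred fun S : Finset α => ({a} : Finset α) ⊆ S],
      ((indSets L (1 + 1)).filter (fun S => ({a} : Finset α) ⊆ S)).card = 20 := by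
    intro _
    have e : (indSets L (1 + 1)).filter (fun S => ({a} : Finset α) ⊆ S)
        = ((Finset.univ : Finset α).erase a).image (fun y => ({a, y} : Finset α)) := by
      ext S
      simp only [mem_filter, mem_indSets, mem_image, mem_erase, mem_univ, and_true,
        singleton_subset_iff]
      constructor
      · rintro ⟨⟨hc, _⟩, haS⟩
        obtain ⟨u, w, huw, rfl⟩ := Finset.card_eq_two.mp hc
        simp only [mem_insert, mem_singleton] at haS
        rcases haS with rfl | rfl
        · exact ⟨w, Ne.symm huw, rfl⟩
        · exact ⟨u, huw, pair_comm _ _⟩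
      · rintro ⟨y, hy, rfl⟩
        have hc : ({a, y} : Finset α).card = 2 := card_pair (Ne.symm hy)
        exact ⟨⟨hc, indep_of_card_le_two (le_of_eq hc)⟩, mem_insert_self a _⟩
    rw [e, card_image_of_injOn, card_erase_of_mem (mem_univ a), card_univ, P.card]
    intro y hy y' hy' e
    simp only [coe_erase, coe_univ, Set.mem_sdiff, Set.mem_univ, Set.mem_singleton_iff,
      true_and] at hy hy'
    have e' : ({a, y} : Finset α) = {a, y'} := e
    have : y ∈ ({a, y'} : Finset α) := by rw [← e']; simp
    simp only [mem_insert, mem_singleton] at this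
    rcases this with h | h
    · exact absurd h hy
    · exact h
  have := through_step (L := L) (k := 1) (x := 20) (e := 12) (card_singleton a) (by omega) hx
    (fun S' hS' _ => ovals_two P hS')
  omega

omit P in
/-- double counting of the subsets of `H` inside hyperovals -/
theorem sum_choose_oval {H : Finset α} (j N : ℕ)
    (hN : ∀ T ∈ powersetCard j H, (ovalsThrough L T).card = N) :
    ∑ O ∈ indSets L 6, ((O ∩ H).card.choose j) = (H.card.choose j) * N := by
  classical
  have h := Finset.sum_card_bipartiteAbove_eq_sum_card_bipartiteBelow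
    (s := powersetCard j H) (t := indSets L 6) (fun T O : Finset α => T ⊆ O)
  have h1 : ∑ T ∈ powersetCard j H,
      ((indSets L 6).bipartiteAbove (fun T O : Finset α => T ⊆ O) T).card = (H.card.choose j) * N := by
    have : ∀ T ∈ powersetCard j H,
        ((indSets L 6).bipartiteAbove (fun T O : Finset α => T ⊆ O) T).card = N := by
      intro T hT
      rw [← hN T hT]
      congr 1
    rw [Finset.sum_congr rfl this, Finset.sum_const, smul_eq_mul, card_powersetCard]
  have h2 : ∑ O ∈ indSets L 6,
      ((powersetCard j H).bipartiteBelow (fun T O : Finset α => T ⊆ O) O).card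
      = ∑ O ∈ indSets L 6, ((O ∩ H).card.choose j) := by
    apply Finset.sum_congr rfl
    intro O _
    rw [← card_powersetCard]
    congr 1
    ext T
    simp only [mem_bipartiteBelow, mem_powersetCard, subset_inter_iff]
    tauto
  rw [← h2, ← h, h1]

/-- a hyperoval meeting `H` in at least four points is `H` -/
theorem oval_eq_of_four {H O : Finset α} (hH : H ∈ indSets L 6) (hO : O ∈ indSets L 6)
    (h4 : 4 ≤ (O ∩ H).card) : O = H := by
  obtain ⟨S, hS, hc⟩ := Finset.exists_subset_card_eq h4
  have hS4 : S ∈ indSets L 4 :=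
    mem_indSets.2 ⟨hc, (mem_indSets.1 hH).2.mono (hS.trans inter_subset_right)⟩
  obtain ⟨K, _, hu⟩ := quad_hyperoval P hS4
  rw [hu O ⟨hO, hS.trans inter_subset_left⟩, hu H ⟨hH, hS.trans inter_subset_right⟩]

/-- exactly 56 hyperovals meet a given hyperoval in an even number of points -/
theorem card_even {H : Finset α} (hH : H ∈ indSets L 6) :
    ((indSets L 6).filter (fun O => Even (O ∩ H).card)).card = 56 := by
  classical
  have hH6 : H.card = 6 := (mem_indSets.1 hH).1
  have hHi : Indep L H := (mem_indSets.1 hH).2
  have s1 := sum_choose_oval (L := L) (H := H) 1 48 (by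
    intro T hT
    rw [mem_powersetCard] at hT
    obtain ⟨a, rfl⟩ := card_eq_one.1 hT.2
    exact ovals_one P a)
  have s2 := sum_choose_oval (L := L) (H := H) 2 12 (by
    intro T hT
    rw [mem_powersetCard] at hT
    exact ovals_two P (mem_indSets.2 ⟨hT.2, hHi.mono hT.1⟩))
  have s3 := sum_choose_oval (L := L) (H := H) 3 3 (by
    intro T hT
    rw [mem_powersetCard] at hT
    exact ovals_three P (mem_indSets.2 ⟨hT.2, hHi.mono hT.1⟩))
  rw [hH6] at s1 s2 s3
  have c6 := (counts P).2
  have key : ∀ O ∈ indSets L 6,
      (if Even (O ∩ H).card then 1 else 0) + (O ∩ H).card.choose 1 + 4 * (O ∩ H).card.choose 3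
        = 1 + 2 * (O ∩ H).card.choose 2 + 56 * (if O = H then 1 else 0) := by
    intro O hO
    by_cases hOH : O = H
    · subst hOH
      rw [inter_self, hH6, if_pos rfl]
      decide
    · have hlt : (O ∩ H).card < 4 := by
        by_contra hge
        exact hOH (oval_eq_of_four P hH hO (by omega))
      rw [if_neg hOH]
      generalize (O ∩ H).card = i at hlt
      interval_cases i <;> decide
  have hsum := Finset.sum_congr rfl key
  rw [sum_add_distrib, sum_add_distrib, sum_add_distrib, sum_add_distrib, ← mul_sum, ← mul_sum,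
    ← mul_sum, s1, s2, s3] at hsum
  rw [card_filter]
  have hone : ∑ O ∈ indSets L 6, (if O = H then 1 else 0) = 1 := by
    rw [Finset.sum_ite_eq' (indSets L 6) H (fun _ => 1), if_pos hH]
  rw [hone] at hsum
  simp only [sum_const, smul_eq_mul, mul_one, c6] at hsum
  have e61 : Nat.choose 6 1 = 6 := rfl
  have e62 : Nat.choose 6 2 = 15 := rfl
  have e63 : Nat.choose 6 3 = 20 := rfl
  rw [e61, e62, e63] at hsum
  omega

end counts

end Cfsg.Agent.H22.Plane4
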