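import Cfsg.Agent.H22.Plane4

/-!
# Hyperovals in a projective plane of order 4 (helper22)

Every line through a point of a hyperoval meets it in exactly one further point; a point off the
hyperoval pairs up the points of the hyperoval (its three secants).  A plane is reconstructed from a
hyperoval: a bijection between hyperovals of two planes extends uniquely to an isomorphism.
-/

set_option autoImplicit false

namespace Cfsg.Agent.H22.Plane4

open Finset

variable {α : Type*} [Fintype α] [DecidableEq α] {L : Set (Finset α)}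

/-- a hyperoval: six points, no three on a line -/
structure IsOval (L : Set (Finset α)) (H : Finset α) : Prop where
  card : H.card = 6
  indep : Indep L H

section oval

variable (P : IsPlane L) {H : Finset α} (O : IsOval L H)
include P O

/-- a line through a point of the hyperoval meets it in exactly one more point -/
theorem oval_two {l : Finset α} (hl : l ∈ L) {a : α} (ha : a ∈ H) (al : a ∈ l) :
    ∃ b, b ∈ H ∧ b ∈ l ∧ b ≠ a ∧ l ∩ H = {a, b} := by
  have key : ∀ x ∈ H.erase a, ln P a x ∈ through L a := by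
    intro x hx
    have hax : a ≠ x := (Finset.ne_of_mem_erase hx).symm
    exact mem_through.mpr ⟨ln_mem P hax, left_mem_ln P hax⟩
  have hinj : Set.InjOn (fun x => ln P a x) (H.erase a) := by
    intro x hx y hy hxy
    by_contra hne
    have hax : a ≠ x := (Finset.ne_of_mem_erase hx).symm
    have hay : a ≠ y := (Finset.ne_of_mem_erase hy).symm
    have h1 : y ∈ ln P a x := by
      have : ln P a x = ln P a y := hxy
      rw [this]
      exact right_mem_ln P hay
    exact O.indep.not_mem (ln_mem P hax) ha (Finset.mem_of_mem_erase hx) (Finset.mem_of_mem_erase hy)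
      hax hay hne (left_mem_ln P hax) (right_mem_ln P hax) h1
  have himg : (H.erase a).image (fun x => ln P a x) = through L a := by
    apply Finset.eq_of_subset_of_card_le
    · intro k hk
      obtain ⟨x, hx, rfl⟩ := Finset.mem_image.mp hk
      exact key x hx
    · rw [Finset.card_image_of_injOn hinj, P.card_through, Finset.card_erase_of_mem ha, O.card]
  have hmem : l ∈ (H.erase a).image (fun x => ln P a x) := by
    rw [himg]
    exact mem_through.mpr ⟨hl, al⟩
  obtain ⟨b, hb, rfl⟩ := Finset.mem_image.mp hmem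
  have hab : a ≠ b := (Finset.ne_of_mem_erase hb).symm
  have hbH := Finset.mem_of_mem_erase hb
  refine ⟨b, hbH, right_mem_ln P hab, hab.symm, ?_⟩
  symm
  apply Finset.eq_of_subset_of_card_le
  · intro x hx
    simp only [mem_insert, mem_singleton] at hx
    rcases hx with rfl | rfl
    · exact mem_inter.mpr ⟨al, ha⟩
    · exact mem_inter.mpr ⟨right_mem_ln P hab, hbH⟩
  · rw [Finset.card_pair hab]
    exact O.indep _ (ln_mem P hab)

/-- the points of a hyperoval on a secant -/
theorem oval_mem_pair {a b c : α} (ha : a ∈ H) (hb : b ∈ H) (hc : c ∈ H) (hab : a ≠ b)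
    (hcl : c ∈ ln P a b) : c = a ∨ c = b := by
  by_contra hcon
  push Not at hcon
  exact O.indep.not_mem (ln_mem P hab) ha hb hc hab hcon.1.symm hcon.2.symm (left_mem_ln P hab)
    (right_mem_ln P hab) hcl

end oval

/-- the other point of the hyperoval on the line through `p` and `a` -/
noncomputable def oth (P : IsPlane L) (H : Finset α) (p a : α) : α := by
  classical
  exact if h : ∃ b, b ∈ H ∧ b ≠ a ∧ b ∈ ln P p a then Classical.choose h else a

section oth

variable (P : IsPlane L) {H : Finset α} (O : IsOval L H) {p a : α} (hp : p ∉ H) (ha : a ∈ H)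
include O hp ha

theorem oth_spec : oth P H p a ∈ H ∧ oth P H p a ≠ a ∧ oth P H p a ∈ ln P p a := by
  classical
  have hpa : p ≠ a := fun e => hp (e ▸ ha)
  have h : ∃ b, b ∈ H ∧ b ≠ a ∧ b ∈ ln P p a := by
    obtain ⟨b, hb, hbl, hba, _⟩ := oval_two P O (ln_mem P hpa) ha (right_mem_ln P hpa)
    exact ⟨b, hb, hba, hbl⟩
  rw [oth, dif_pos h]
  exact Classical.choose_spec h

theorem oth_unique {b : α} (hb : b ∈ H) (hba : b ≠ a) (hbl : b ∈ ln P p a) : b = oth P H p a := by
  have hpa : p ≠ a := fun e => hp (e ▸ ha)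
  obtain ⟨h1, h2, h3⟩ := oth_spec P O hp ha
  by_contra hne
  exact O.indep.not_mem (ln_mem P hpa) ha hb h1 hba.symm h2.symm hne (right_mem_ln P hpa) hbl h3

theorem ln_oth : ln P a (oth P H p a) = ln P p a := by
  have hpa : p ≠ a := fun e => hp (e ▸ ha)
  obtain ⟨h1, h2, h3⟩ := oth_spec P O hp ha
  exact (eq_ln P (ln_mem P hpa) h2.symm (right_mem_ln P hpa) h3).symm

theorem mem_ln_oth : p ∈ ln P a (oth P H p a) := by
  have hpa : p ≠ a := fun e => hp (e ▸ ha)
  rw [ln_oth P O hp ha]
  exact left_mem_ln P hpa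

theorem oth_oth : oth P H p (oth P H p a) = a := by
  have hpa : p ≠ a := fun e => hp (e ▸ ha)
  obtain ⟨h1, h2, h3⟩ := oth_spec P O hp ha
  have hpb : p ≠ oth P H p a := fun e => hp (e ▸ h1)
  have e : ln P p (oth P H p a) = ln P p a :=
    (eq_ln P (ln_mem P hpa) hpb (left_mem_ln P hpa) h3).symm
  symm
  apply oth_unique P O hp h1 ha h2.symm
  rw [e]
  exact right_mem_ln P hpa

theorem oth_eq_iff {b : α} (hb : b ∈ H) (hab : a ≠ b) : oth P H p a = b ↔ p ∈ ln P a b := by
  have hpa : p ≠ a := fun e => hp (e ▸ ha)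
  constructor
  · rintro rfl
    exact mem_ln_oth P O hp ha
  · intro h
    symm
    apply oth_unique P O hp ha hb hab.symm
    have : ln P a b = ln P p a := eq_ln P (ln_mem P hab) hpa h (left_mem_ln P hab)
    rw [← this]
    exact right_mem_ln P hab

end oth

/-! ### Exterior lines -/

section exterior

variable (P : IsPlane L) {H : Finset α} (O : IsOval L H)
include P O

/-- at most two lines through a point off the hyperoval miss the hyperoval -/
theorem ext_le_two {q : α} (hq : q ∉ H) {n1 n2 n3 : Finset α} (h1 : n1 ∈ L) (h2 : n2 ∈ L)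
    (h3 : n3 ∈ L) (q1 : q ∈ n1) (q2 : q ∈ n2) (q3 : q ∈ n3) (e1 : ∀ x ∈ n1, x ∉ H)
    (e2 : ∀ x ∈ n2, x ∉ H) (e3 : ∀ x ∈ n3, x ∉ H) : n1 = n2 ∨ n1 = n3 ∨ n2 = n3 := by
  by_contra hcon
  push Not at hcon
  have hqc : ∀ c ∈ H, q ≠ c := fun c hc e => hq (e ▸ hc)
  have hS : (H.image (fun c => ln P q c)).card = 3 := by
    have h6 := Finset.card_eq_sum_card_image (fun c => ln P q c) H
    have hf : ∀ m ∈ H.image (fun c => ln P q c), (H.filter (fun c => ln P q c = m)).card = 2 := by
      intro m hm
      obtain ⟨c0, hc0, rfl⟩ := Finset.mem_image.mp hm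
      obtain ⟨b, hb, hbl, hbc, hpair⟩ := oval_two P O (ln_mem P (hqc c0 hc0)) hc0
        (right_mem_ln P (hqc c0 hc0))
      have : H.filter (fun c => ln P q c = ln P q c0) = ln P q c0 ∩ H := by
        ext c
        simp only [mem_filter, mem_inter]
        constructor
        · rintro ⟨hc, he⟩
          exact ⟨he ▸ right_mem_ln P (hqc c hc), hc⟩
        · rintro ⟨hcl, hc⟩
          exact ⟨hc, (eq_ln P (ln_mem P (hqc c0 hc0)) (hqc c hc) (left_mem_ln P (hqc c0 hc0))
            hcl).symm⟩
      rw [this, hpair, Finset.card_pair hbc.symm]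
    rw [Finset.sum_congr rfl hf, Finset.sum_const, smul_eq_mul, O.card] at h6
    omega
  have hsub : ({n1, n2, n3} : Finset (Finset α)) ⊆ through L q \ H.image (fun c => ln P q c) := by
    intro n hn
    simp only [mem_insert, mem_singleton] at hn
    rw [mem_sdiff, mem_through, mem_image]
    rcases hn with rfl | rfl | rfl
    · exact ⟨⟨h1, q1⟩, fun ⟨c, hc, e⟩ => e1 c (e ▸ right_mem_ln P (hqc c hc)) hc⟩
    · exact ⟨⟨h2, q2⟩, fun ⟨c, hc, e⟩ => e2 c (e ▸ right_mem_ln P (hqc c hc)) hc⟩
    · exact ⟨⟨h3, q3⟩, fun ⟨c, hc, e⟩ => e3 c (e ▸ right_mem_ln P (hqc c hc)) hc⟩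
  have hc3 : ({n1, n2, n3} : Finset (Finset α)).card = 3 :=
    Finset.card_eq_three.mpr ⟨n1, n2, n3, hcon.1, hcon.2.1, hcon.2.2, rfl⟩
  have hle := Finset.card_le_card hsub
  have hsd : (through L q \ H.image (fun c => ln P q c)).card = 2 := by
    rw [Finset.card_sdiff_of_subset, P.card_through, hS]
    intro m hm
    obtain ⟨c, hc, rfl⟩ := Finset.mem_image.mp hm
    exact mem_through.mpr ⟨ln_mem P (hqc c hc), left_mem_ln P (hqc c hc)⟩
  omega

end exterior

/-! ### Reconstruction of the plane from a hyperoval -/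

section recon

variable {β : Type*} [Fintype β] [DecidableEq β] {L' : Set (Finset β)}

/-- the relation between a point off `H` and its image -/
def Rel (P : IsPlane L) (P' : IsPlane L') (H : Finset α) (f : α → β) (p : α) (q : β) : Prop :=
  ∀ a ∈ H, q ∈ ln P' (f a) (f (oth P H p a))

variable (P : IsPlane L) (P' : IsPlane L') {H : Finset α} {H' : Finset β} (O : IsOval L H)
  (O' : IsOval L' H') (f : α → β) (hfi : Set.InjOn f H) (hfH : ∀ a ∈ H, f a ∈ H')

include O in
theorem exists_third (a b : α) : ∃ c ∈ H, c ≠ a ∧ c ≠ b := by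
  have h : ({a, b} : Finset α).card < H.card := by
    rw [O.card]
    exact (Finset.card_le_two).trans_lt (by norm_num)
  obtain ⟨c, hc, hn⟩ := Finset.exists_mem_notMem_of_card_lt_card h
  simp only [mem_insert, mem_singleton, not_or] at hn
  exact ⟨c, hc, hn.1, hn.2⟩

include O O' hfi hfH in
theorem f_surj {c' : β} (hc' : c' ∈ H') : ∃ c ∈ H, f c = c' := by
  have h1 : H.image f = H' := by
    apply Finset.eq_of_subset_of_card_le
    · intro x hx
      obtain ⟨a, ha, rfl⟩ := Finset.mem_image.mp hx
      exact hfH a ha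
    · rw [Finset.card_image_of_injOn hfi, O.card, O'.card]
  rw [← h1] at hc'
  obtain ⟨c, hc, e⟩ := Finset.mem_image.mp hc'
  exact ⟨c, hc, e⟩

include O O' hfi hfH in
theorem rel_unique {p : α} (hp : p ∉ H) {q q' : β} (hq : Rel P P' H f p q)
    (hq' : Rel P P' H f p q') : q = q' := by
  by_contra hne
  obtain ⟨a, ha⟩ : H.Nonempty := Finset.card_pos.mp (by rw [O.card]; norm_num)
  obtain ⟨hb, hba, _⟩ := oth_spec P O hp ha
  obtain ⟨a2, ha2, h2a, h2b⟩ := exists_third O a (oth P H p a)
  obtain ⟨hb2, hba2, _⟩ := oth_spec P O hp ha2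
  have n1 : f a ≠ f (oth P H p a) := fun e => hba (hfi hb ha e.symm)
  have n2 : f a2 ≠ f (oth P H p a2) := fun e => hba2 (hfi hb2 ha2 e.symm)
  have e := P'.line_unique (ln_mem P' n1) (ln_mem P' n2) hne (hq a ha) (hq' a ha) (hq a2 ha2)
    (hq' a2 ha2)
  have : f a2 ∈ ln P' (f a) (f (oth P H p a)) := by
    rw [e]
    exact left_mem_ln P' n2
  rcases oval_mem_pair P' O' (hfH a ha) (hfH _ hb) (hfH a2 ha2) n1 this with h | h
  · exact h2a (hfi ha2 ha h)
  · exact h2b (hfi ha2 hb h)

include O O' hfi hfH in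
theorem rel_exists {p : α} (hp : p ∉ H) : ∃ q, q ∉ H' ∧ Rel P P' H f p q := by
  obtain ⟨a1, ha1⟩ : H.Nonempty := Finset.card_pos.mp (by rw [O.card]; norm_num)
  obtain ⟨hb1, hba1, _⟩ := oth_spec P O hp ha1
  obtain ⟨a2, ha2, h2a, h2b⟩ := exists_third O a1 (oth P H p a1)
  obtain ⟨hb2, hba2, _⟩ := oth_spec P O hp ha2
  -- names
  set b1 := oth P H p a1 with hb1def
  set b2 := oth P H p a2 with hb2def
  have hb2a1 : b2 ≠ a1 := by
    intro e
    have := oth_oth P O hp ha2
    rw [← hb2def, e, ← hb1def] at this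
    exact h2b this.symm
  have hb2b1 : b2 ≠ b1 := by
    intro e
    have h1 := oth_oth P O hp ha2
    have h2 := oth_oth P O hp ha1
    rw [← hb2def, e] at h1
    rw [← hb1def] at h2
    exact h2a (h1.symm.trans h2)
  have n1 : f a1 ≠ f b1 := fun e => hba1 (hfi hb1 ha1 e.symm)
  have n2 : f a2 ≠ f b2 := fun e => hba2 (hfi hb2 ha2 e.symm)
  have hm : ln P' (f a1) (f b1) ≠ ln P' (f a2) (f b2) := by
    intro e
    have : f a2 ∈ ln P' (f a1) (f b1) := by
      rw [e]
      exact left_mem_ln P' n2
    rcases oval_mem_pair P' O' (hfH a1 ha1) (hfH _ hb1) (hfH a2 ha2) n1 this with h | h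
    · exact h2a (hfi ha2 ha1 h)
    · exact h2b (hfi ha2 hb1 h)
  obtain ⟨q, q1, q2, _⟩ := P'.inter_eq (ln_mem P' n1) (ln_mem P' n2) hm
  have hqH : q ∉ H' := by
    intro hq
    rcases oval_mem_pair P' O' (hfH a1 ha1) (hfH _ hb1) hq n1 q1 with h | h
    · rcases oval_mem_pair P' O' (hfH a2 ha2) (hfH _ hb2) hq n2 q2 with h' | h'
      · exact h2a (hfi ha2 ha1 (h'.symm.trans h))
      · exact hb2a1 (hfi hb2 ha1 (h'.symm.trans h))
    · rcases oval_mem_pair P' O' (hfH a2 ha2) (hfH _ hb2) hq n2 q2 with h' | h'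
      · exact h2b (hfi ha2 hb1 (h'.symm.trans h))
      · exact hb2b1 (hfi hb2 hb1 (h'.symm.trans h))
  refine ⟨q, hqH, ?_⟩
  intro a ha
  by_cases c1 : a = a1
  · subst c1
    exact q1
  by_cases c2 : a = b1
  · subst c2
    rw [hb1def, oth_oth P O hp ha1, ln_comm P' n1.symm]
    exact q1
  by_cases c3 : a = a2
  · subst c3
    exact q2
  by_cases c4 : a = b2
  · subst c4
    rw [hb2def, oth_oth P O hp ha2, ln_comm P' n2.symm]
    exact q2
  -- the remaining point
  obtain ⟨hta, htne, _⟩ := oth_spec P O hp ha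
  have hqa : q ≠ f a := fun e => hqH (e ▸ hfH a ha)
  obtain ⟨c', hc', hc'l, hc'ne, _⟩ := oval_two P' O' (ln_mem P' hqa) (hfH a ha)
    (right_mem_ln P' hqa)
  obtain ⟨c, hc, rfl⟩ := f_surj O O' f hfi hfH hc'
  have hca : c ≠ a := fun e => hc'ne (e ▸ rfl)
  have hqc : q ≠ f c := fun e => hqH (e ▸ hfH c hc)
  -- `c` is none of the four
  have key : ∀ u w : α, u ∈ H → w ∈ H → ∀ huw : f u ≠ f w, q ∈ ln P' (f u) (f w) → a ≠ u →
      a ≠ w → c ≠ u ∧ c ≠ w := by
    intro u w hu hw huw hq hau haw
    have aux : f c ∈ ln P' (f u) (f w) → False := by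
      intro hcl
      have e := P'.line_unique (ln_mem P' hqa) (ln_mem P' huw) hqc (left_mem_ln P' hqa) hc'l hq hcl
      have : f a ∈ ln P' (f u) (f w) := e ▸ right_mem_ln P' hqa
      rcases oval_mem_pair P' O' (hfH u hu) (hfH w hw) (hfH a ha) huw this with h | h
      · exact hau (hfi ha hu h)
      · exact haw (hfi ha hw h)
    exact ⟨fun e => aux (by rw [e]; exact left_mem_ln P' huw),
      fun e => aux (by rw [e]; exact right_mem_ln P' huw)⟩
  obtain ⟨k1, k2⟩ := key a1 b1 ha1 hb1 n1 q1 c1 c2
  obtain ⟨k3, k4⟩ := key a2 b2 ha2 hb2 n2 q2 c3 c4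
  -- the partner of `a` is none of the four either
  have t1 : oth P H p a ≠ a1 := by
    intro e
    have := oth_oth P O hp ha
    rw [e, ← hb1def] at this
    exact c2 this.symm
  have t2 : oth P H p a ≠ b1 := by
    intro e
    have := oth_oth P O hp ha
    rw [e, hb1def, oth_oth P O hp ha1] at this
    exact c1 this.symm
  have t3 : oth P H p a ≠ a2 := by
    intro e
    have := oth_oth P O hp ha
    rw [e, ← hb2def] at this
    exact c4 this.symm
  have t4 : oth P H p a ≠ b2 := by
    intro e
    have := oth_oth P O hp ha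
    rw [e, hb2def, oth_oth P O hp ha2] at this
    exact c3 this.symm
  -- only one point is left
  have m3 : a2 ∉ ({b2, a} : Finset α) := by
    simp only [mem_insert, mem_singleton, not_or]
    exact ⟨Ne.symm hba2, Ne.symm c3⟩
  have m2' : b1 ∉ insert a2 ({b2, a} : Finset α) := by
    simp only [mem_insert, mem_singleton, not_or]
    exact ⟨Ne.symm h2b, Ne.symm hb2b1, Ne.symm c2⟩
  have m1' : a1 ∉ insert b1 (insert a2 ({b2, a} : Finset α)) := by
    simp only [mem_insert, mem_singleton, not_or]
    exact ⟨Ne.symm hba1, Ne.symm h2a, Ne.symm hb2a1, Ne.symm c1⟩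
  have hfive : ({a1, b1, a2, b2, a} : Finset α).card = 5 := by
    rw [Finset.card_insert_of_notMem m1', Finset.card_insert_of_notMem m2',
      Finset.card_insert_of_notMem m3, Finset.card_pair (Ne.symm c4)]
  have hsub5 : ({a1, b1, a2, b2, a} : Finset α) ⊆ H := by
    intro u hu
    simp only [mem_insert, mem_singleton] at hu
    rcases hu with rfl | rfl | rfl | rfl | rfl <;> assumption
  have hone : (H \ ({a1, b1, a2, b2, a} : Finset α)).card = 1 := by
    rw [Finset.card_sdiff_of_subset hsub5, O.card, hfive]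
  obtain ⟨r, hr⟩ := Finset.card_eq_one.mp hone
  have m1 : c ∈ H \ ({a1, b1, a2, b2, a} : Finset α) := by
    simp only [mem_sdiff, mem_insert, mem_singleton, not_or]
    exact ⟨hc, k1, k2, k3, k4, hca⟩
  have m2 : oth P H p a ∈ H \ ({a1, b1, a2, b2, a} : Finset α) := by
    simp only [mem_sdiff, mem_insert, mem_singleton, not_or]
    exact ⟨hta, t1, t2, t3, t4, htne⟩
  rw [hr, mem_singleton] at m1 m2
  rw [m2, ← m1]
  have hac : f a ≠ f c := fun e => hca (hfi hc ha e.symm)
  rw [← eq_ln P' (ln_mem P' hqa) hac (right_mem_ln P' hqa) hc'l]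
  exact left_mem_ln P' hqa

include O O' hfi hfH in
theorem rel_oth {p : α} (hp : p ∉ H) {q : β} (hqH : q ∉ H') (hq : Rel P P' H f p q) {a b : α}
    (ha : a ∈ H) (hb : b ∈ H) (hab : a ≠ b) (hql : q ∈ ln P' (f a) (f b)) : oth P H p a = b := by
  obtain ⟨hta, htne, _⟩ := oth_spec P O hp ha
  have n1 : f a ≠ f (oth P H p a) := fun e => htne (hfi hta ha e.symm)
  have n2 : f a ≠ f b := fun e => hab (hfi ha hb e)
  have hqa : q ≠ f a := fun e => hqH (e ▸ hfH a ha)
  have e := P'.line_unique (ln_mem P' n1) (ln_mem P' n2) hqa (hq a ha) (left_mem_ln P' n1) hql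
    (left_mem_ln P' n2)
  have : f (oth P H p a) ∈ ln P' (f a) (f b) := by
    rw [← e]
    exact right_mem_ln P' n1
  rcases oval_mem_pair P' O' (hfH a ha) (hfH b hb) (hfH _ hta) n2 this with h | h
  · exact absurd (hfi hta ha h) htne
  · exact hfi hta hb h

include O O' hfi hfH in
theorem rel_inj {p p' : α} (hp : p ∉ H) (hp' : p' ∉ H) {q : β} (hqH : q ∉ H')
    (hq : Rel P P' H f p q) (hq' : Rel P P' H f p' q) : p = p' := by
  by_contra hne
  have key : ∀ a ∈ H, oth P H p' a = oth P H p a := by
    intro a ha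
    obtain ⟨hta, htne, _⟩ := oth_spec P O hp ha
    exact rel_oth P P' O O' f hfi hfH hp' hqH hq' ha hta htne.symm (hq a ha)
  obtain ⟨a, ha⟩ : H.Nonempty := Finset.card_pos.mp (by rw [O.card]; norm_num)
  obtain ⟨hb, hba, _⟩ := oth_spec P O hp ha
  obtain ⟨a2, ha2, h2a, h2b⟩ := exists_third O a (oth P H p a)
  obtain ⟨hb2, hba2, _⟩ := oth_spec P O hp ha2
  have m1 := mem_ln_oth P O hp ha
  have m1' := mem_ln_oth P O hp' ha
  rw [key a ha] at m1'
  have m2 := mem_ln_oth P O hp ha2
  have m2' := mem_ln_oth P O hp' ha2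
  rw [key a2 ha2] at m2'
  have e := P.line_unique (ln_mem P hba.symm) (ln_mem P hba2.symm) hne m1 m1' m2 m2'
  have : a2 ∈ ln P a (oth P H p a) := by
    rw [e]
    exact left_mem_ln P hba2.symm
  rcases oval_mem_pair P O ha hb ha2 hba.symm this with h | h
  · exact h2a h
  · exact h2b h

open scoped Classical in
/-- the extension of `f` to the whole plane -/
noncomputable def extMap (P : IsPlane L) (P' : IsPlane L') (H : Finset α) (H' : Finset β)
    (f : α → β) (x : α) : β :=
  if x ∈ H then f x
  else if h : ∃ q, q ∉ H' ∧ Rel P P' H f x q then Classical.choose h else f x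

theorem extMap_of_mem {x : α} (hx : x ∈ H) : extMap P P' H H' f x = f x := by
  rw [extMap, if_pos hx]

include O O' hfi hfH in
theorem extMap_spec {x : α} (hx : x ∉ H) :
    extMap P P' H H' f x ∉ H' ∧ Rel P P' H f x (extMap P P' H H' f x) := by
  have h := rel_exists P P' O O' f hfi hfH hx
  rw [extMap, if_neg hx, dif_pos h]
  exact Classical.choose_spec h

include O O' hfi hfH in
theorem extMap_inj : Function.Injective (extMap P P' H H' f) := by
  intro x y hxy
  by_cases hx : x ∈ H
  · by_cases hy : y ∈ H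
    · rw [extMap_of_mem P P' f hx, extMap_of_mem P P' f hy] at hxy
      exact hfi hx hy hxy
    · have := (extMap_spec P P' O O' f hfi hfH hy).1
      rw [← hxy, extMap_of_mem P P' f hx] at this
      exact absurd (hfH x hx) this
  · by_cases hy : y ∈ H
    · have := (extMap_spec P P' O O' f hfi hfH hx).1
      rw [hxy, extMap_of_mem P P' f hy] at this
      exact absurd (hfH y hy) this
    · have h1 := extMap_spec P P' O O' f hfi hfH hx
      have h2 := extMap_spec P P' O O' f hfi hfH hy
      rw [← hxy] at h2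
      exact rel_inj P P' O O' f hfi hfH hx hy h1.1 h1.2 h2.2

include O O' hfi hfH in
/-- secants go to secants -/
theorem extMap_sec {a b : α} (ha : a ∈ H) (hb : b ∈ H) (hab : a ≠ b) {x : α}
    (hx : x ∈ ln P a b) : extMap P P' H H' f x ∈ ln P' (f a) (f b) := by
  have n : f a ≠ f b := fun e => hab (hfi ha hb e)
  by_cases hxH : x ∈ H
  · rw [extMap_of_mem P P' f hxH]
    rcases oval_mem_pair P O ha hb hxH hab hx with rfl | rfl
    · exact left_mem_ln P' n
    · exact right_mem_ln P' n
  · have h := (extMap_spec P P' O O' f hfi hfH hxH).2 a ha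
    rwa [(oth_eq_iff P O hxH ha hb hab).mpr hx] at h

include O O' hfi hfH in
/-- only the points of a secant go to the image secant -/
theorem extMap_sec_conv {a b : α} (ha : a ∈ H) (hb : b ∈ H) (hab : a ≠ b) {x : α} (hxH : x ∉ H)
    (hx : extMap P P' H H' f x ∈ ln P' (f a) (f b)) : x ∈ ln P a b := by
  obtain ⟨h1, h2⟩ := extMap_spec P P' O O' f hfi hfH hxH
  exact (oth_eq_iff P O hxH ha hb hab).mp (rel_oth P P' O O' f hfi hfH hxH h1 h2 ha hb hab hx)

include O O' hfi hfH in
/-- the line joining the images of two points of an exterior line is exterior -/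
theorem extMap_ext {l : Finset α} (hl : l ∈ L) (hext : ∀ x ∈ l, x ∉ H) {x y : α} (hx : x ∈ l)
    (hy : y ∈ l) (hxy : x ≠ y) :
    ∀ c' ∈ ln P' (extMap P P' H H' f x) (extMap P P' H H' f y), c' ∉ H' := by
  intro c' hc'l hc'
  have hne : extMap P P' H H' f x ≠ extMap P P' H H' f y := fun e =>
    hxy (extMap_inj P P' O O' f hfi hfH e)
  obtain ⟨d', hd', hd'l, hd'ne, _⟩ := oval_two P' O' (ln_mem P' hne) hc' hc'l
  obtain ⟨c, hc, rfl⟩ := f_surj O O' f hfi hfH hc'
  obtain ⟨d, hd, rfl⟩ := f_surj O O' f hfi hfH hd'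
  have hcd : c ≠ d := fun e => hd'ne (e ▸ rfl)
  have hfcd : f c ≠ f d := fun e => hcd (hfi hc hd e)
  have e := eq_ln P' (ln_mem P' hne) hfcd hc'l hd'l
  have hx' : x ∈ ln P c d := extMap_sec_conv P P' O O' f hfi hfH hc hd hcd (hext x hx)
    (e ▸ left_mem_ln P' hne)
  have hy' : y ∈ ln P c d := extMap_sec_conv P P' O O' f hfi hfH hc hd hcd (hext y hy)
    (e ▸ right_mem_ln P' hne)
  have := P.line_unique hl (ln_mem P hcd) hxy hx hy hx' hy'
  exact hext c (this ▸ left_mem_ln P hcd) hc

include O O' hfi hfH in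
/-- lines go to lines -/
theorem extMap_line {l : Finset α} (hl : l ∈ L) : l.image (extMap P P' H H' f) ∈ L' := by
  have hcard : (l.image (extMap P P' H H' f)).card = 5 := by
    rw [Finset.card_image_of_injective _ (extMap_inj P P' O O' f hfi hfH), P.card_line hl]
  by_cases hex : ∃ a ∈ l, a ∈ H
  · obtain ⟨a, al, ha⟩ := hex
    obtain ⟨b, hb, bl, hba, _⟩ := oval_two P O hl ha al
    have hab : a ≠ b := hba.symm
    have n : f a ≠ f b := fun e => hab (hfi ha hb e)
    have e := eq_ln P hl hab al bl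
    have : l.image (extMap P P' H H' f) = ln P' (f a) (f b) := by
      apply Finset.eq_of_subset_of_card_le
      · intro y hy
        obtain ⟨x, hx, rfl⟩ := Finset.mem_image.mp hy
        exact extMap_sec P P' O O' f hfi hfH ha hb hab (e ▸ hx)
      · rw [hcard, card_ln P' n]
    rw [this]
    exact ln_mem P' n
  · push Not at hex
    -- an exterior line
    obtain ⟨x1, x2, h12, hsub2⟩ : ∃ x1 x2 : α, x1 ≠ x2 ∧ ({x1, x2} : Finset α) ⊆ l := by
      have : 1 < l.card := by rw [P.card_line hl]; norm_num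
      obtain ⟨x1, hx1, x2, hx2, hne⟩ := Finset.one_lt_card.mp this
      refine ⟨x1, x2, hne, ?_⟩
      intro u hu
      simp only [mem_insert, mem_singleton] at hu
      rcases hu with rfl | rfl <;> assumption
    have hx1 : x1 ∈ l := hsub2 (by simp)
    have hx2 : x2 ∈ l := hsub2 (by simp)
    set g := extMap P P' H H' f with hg
    have ginj : Function.Injective g := extMap_inj P P' O O' f hfi hfH
    have gout : ∀ x ∈ l, g x ∉ H' := fun x hx => (extMap_spec P P' O O' f hfi hfH (hex x hx)).1
    have gext : ∀ x ∈ l, ∀ y ∈ l, x ≠ y → ∀ c' ∈ ln P' (g x) (g y), c' ∉ H' :=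
      fun x hx y hy hxy => extMap_ext P P' O O' f hfi hfH hl hex hx hy hxy
    have n12 : g x1 ≠ g x2 := fun e => h12 (ginj e)
    have : l.image g = ln P' (g x1) (g x2) := by
      apply Finset.eq_of_subset_of_card_le
      · intro y hy
        obtain ⟨x3, hx3, rfl⟩ := Finset.mem_image.mp hy
        by_contra hcon
        have h13 : x1 ≠ x3 := by
          rintro rfl
          exact hcon (left_mem_ln P' n12)
        have h23 : x2 ≠ x3 := by
          rintro rfl
          exact hcon (right_mem_ln P' n12)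
        obtain ⟨x4, hx4, h4⟩ : ∃ x4 ∈ l, x4 ∉ ({x1, x2, x3} : Finset α) := by
          have : ({x1, x2, x3} : Finset α).card < l.card := by
            rw [P.card_line hl]
            exact (Finset.card_le_three).trans_lt (by norm_num)
          obtain ⟨e, he, hn⟩ := Finset.exists_mem_notMem_of_card_lt_card this
          exact ⟨e, he, hn⟩
        simp only [mem_insert, mem_singleton, not_or] at h4
        obtain ⟨h41, h42, h43⟩ := h4
        have n13 : g x1 ≠ g x3 := fun e => h13 (ginj e)
        have n23 : g x2 ≠ g x3 := fun e => h23 (ginj e)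
        have n14 : g x1 ≠ g x4 := fun e => h41 (ginj e).symm
        have n24 : g x2 ≠ g x4 := fun e => h42 (ginj e).symm
        have n34 : g x3 ≠ g x4 := fun e => h43 (ginj e).symm
        -- the three lines are distinct
        have d1 : ln P' (g x1) (g x2) ≠ ln P' (g x1) (g x3) := fun e =>
          hcon (e ▸ right_mem_ln P' n13)
        have d2 : ln P' (g x1) (g x2) ≠ ln P' (g x2) (g x3) := fun e =>
          hcon (e ▸ right_mem_ln P' n23)
        have d3 : ln P' (g x1) (g x3) ≠ ln P' (g x2) (g x3) := by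
          intro e
          have : ln P' (g x1) (g x3) = ln P' (g x1) (g x2) :=
            eq_ln P' (ln_mem P' n13) n12 (left_mem_ln P' n13) (e ▸ left_mem_ln P' n23)
          exact hcon (this ▸ right_mem_ln P' n13)
        -- the fourth point
        have a1 : g x4 ∈ ln P' (g x1) (g x2) ∨ g x4 ∈ ln P' (g x1) (g x3) := by
          rcases ext_le_two P' O' (gout x1 hx1) (ln_mem P' n12) (ln_mem P' n13) (ln_mem P' n14)
            (left_mem_ln P' n12) (left_mem_ln P' n13) (left_mem_ln P' n14)
            (gext x1 hx1 x2 hx2 h12) (gext x1 hx1 x3 hx3 h13) (gext x1 hx1 x4 hx4 (Ne.symm h41))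
            with h | h | h
          · exact absurd h d1
          · exact Or.inl (h ▸ right_mem_ln P' n14)
          · exact Or.inr (h ▸ right_mem_ln P' n14)
        have a2 : g x4 ∈ ln P' (g x1) (g x2) ∨ g x4 ∈ ln P' (g x2) (g x3) := by
          rcases ext_le_two P' O' (gout x2 hx2) (ln_mem P' n12) (ln_mem P' n23) (ln_mem P' n24)
            (right_mem_ln P' n12) (left_mem_ln P' n23) (left_mem_ln P' n24)
            (gext x1 hx1 x2 hx2 h12) (gext x2 hx2 x3 hx3 h23) (gext x2 hx2 x4 hx4 (Ne.symm h42))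
            with h | h | h
          · exact absurd h d2
          · exact Or.inl (h ▸ right_mem_ln P' n24)
          · exact Or.inr (h ▸ right_mem_ln P' n24)
        have a3 : g x4 ∈ ln P' (g x1) (g x3) ∨ g x4 ∈ ln P' (g x2) (g x3) := by
          rcases ext_le_two P' O' (gout x3 hx3) (ln_mem P' n13) (ln_mem P' n23) (ln_mem P' n34)
            (right_mem_ln P' n13) (right_mem_ln P' n23) (left_mem_ln P' n34)
            (gext x1 hx1 x3 hx3 h13) (gext x2 hx2 x3 hx3 h23) (gext x3 hx3 x4 hx4 (Ne.symm h43))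
            with h | h | h
          · exact absurd h d3
          · exact Or.inl (h ▸ right_mem_ln P' n34)
          · exact Or.inr (h ▸ right_mem_ln P' n34)
        have i1 := P'.inter_eq_of_mem (ln_mem P' n12) (ln_mem P' n13) d1 (left_mem_ln P' n12)
          (left_mem_ln P' n13)
        have i2 := P'.inter_eq_of_mem (ln_mem P' n12) (ln_mem P' n23) d2 (right_mem_ln P' n12)
          (left_mem_ln P' n23)
        have i3 := P'.inter_eq_of_mem (ln_mem P' n13) (ln_mem P' n23) d3 (right_mem_ln P' n13)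
          (right_mem_ln P' n23)
        have c1 : ∀ {s t : Finset β} {u w : β}, s ∩ t = {u} → w ∈ s → w ∈ t → w = u := by
          intro s t u w hst hs ht
          have : w ∈ s ∩ t := mem_inter.mpr ⟨hs, ht⟩
          rwa [hst, mem_singleton] at this
        rcases a1 with h | h
        · rcases a3 with h' | h'
          · exact n14 (c1 i1 h h').symm
          · exact n24 (c1 i2 h h').symm
        · rcases a2 with h' | h'
          · exact n14 (c1 i1 h' h).symm
          · exact n34 (c1 i3 h h').symm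
      · rw [hcard, card_ln P' n12]
    rw [this]
    exact ln_mem P' n12

include P P' O O' hfi hfH in
/-- a bijection between hyperovals extends to an isomorphism of the planes -/
theorem recon_exists :
    ∃ g : α ≃ β, (∀ a ∈ H, g a = f a) ∧ ∀ l ∈ L, l.image g ∈ L' := by
  have hinj := extMap_inj P P' O O' f hfi hfH
  have hbij : Function.Bijective (extMap P P' H H' f) := by
    rw [Fintype.bijective_iff_injective_and_card]
    exact ⟨hinj, by rw [P.card, P'.card]⟩
  refine ⟨Equiv.ofBijective _ hbij, ?_, ?_⟩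
  · intro a ha
    exact extMap_of_mem P P' f ha
  · intro l hl
    exact extMap_line P P' O O' f hfi hfH hl

include P P' O O' hfi hfH in
/-- the extension is unique -/
theorem recon_unique (g1 g2 : α ≃ β) (h1 : ∀ a ∈ H, g1 a = f a) (k1 : ∀ l ∈ L, l.image g1 ∈ L')
    (h2 : ∀ a ∈ H, g2 a = f a) (k2 : ∀ l ∈ L, l.image g2 ∈ L') : g1 = g2 := by
  have key : ∀ g : α ≃ β, (∀ a ∈ H, g a = f a) → (∀ l ∈ L, l.image g ∈ L') → ∀ x, x ∉ H →
      Rel P P' H f x (g x) := by
    intro g hg kg x hx a ha
    obtain ⟨hta, htne, _⟩ := oth_spec P O hx ha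
    have n : f a ≠ f (oth P H x a) := fun e => htne (hfi hta ha e.symm)
    have hm := kg _ (ln_mem P htne.symm)
    have e := eq_ln P' hm n
      (by rw [← hg a ha]; exact Finset.mem_image_of_mem g (left_mem_ln P htne.symm))
      (by rw [← hg _ hta]; exact Finset.mem_image_of_mem g (right_mem_ln P htne.symm))
    rw [← e]
    exact Finset.mem_image_of_mem g (mem_ln_oth P O hx ha)
  apply Equiv.ext
  intro x
  by_cases hx : x ∈ H
  · rw [h1 x hx, h2 x hx]
  · exact rel_unique P P' O O' f hfi hfH hx (key g1 h1 k1 x hx) (key g2 h2 k2 x hx)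

include P P' in
/-- a bijection sending lines to lines sends the lines onto the lines -/
theorem image_lines (g : α ≃ β) (k : ∀ l ∈ L, l.image g ∈ L') :
    (fun b : Finset α => b.image g) '' L = L' := by
  ext l'
  constructor
  · rintro ⟨l, hl, rfl⟩
    exact k l hl
  · intro hl'
    have : 1 < l'.card := by rw [P'.card_line hl']; norm_num
    obtain ⟨u', hu', w', hw', hne⟩ := Finset.one_lt_card.mp this
    have hne' : g.symm u' ≠ g.symm w' := fun e => hne (g.symm.injective e)
    refine ⟨ln P (g.symm u') (g.symm w'), ln_mem P hne', ?_⟩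
    apply P'.line_unique (k _ (ln_mem P hne')) hl' hne
    · have := Finset.mem_image_of_mem g (left_mem_ln P hne')
      rwa [Equiv.apply_symm_apply] at this
    · have := Finset.mem_image_of_mem g (right_mem_ln P hne')
      rwa [Equiv.apply_symm_apply] at this
    · exact hu'
    · exact hw'

end recon

end Cfsg.Agent.H22.Plane4
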