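import Cfsg.Agent.H22.Plane4Count
import Cfsg.Agent.H22.Plane4Oval

/-!
# Uniqueness of the projective plane of order 4 and the stabiliser of a hyperoval (helper22)
-/

set_option autoImplicit false

namespace Cfsg.Agent.H22.Plane4

open Finset
open scoped Pointwise

variable {α : Type*} [Fintype α] [DecidableEq α] {L : Set (Finset α)}

theorem exists_oval (P : IsPlane L) : ∃ H, IsOval L H := by
  have h : (indSets L 6).Nonempty := by
    rw [← Finset.card_pos, (counts P).2]
    norm_num
  obtain ⟨H, hH⟩ := h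
  rw [mem_indSets] at hH
  exact ⟨H, hH.1, hH.2⟩

/-- any two projective planes of order 4 are isomorphic -/
theorem plane_iso {β : Type*} [Fintype β] [DecidableEq β] {L' : Set (Finset β)} (P : IsPlane L)
    (P' : IsPlane L') : Cfsg.SetSystemIso L L' := by
  obtain ⟨H, O⟩ := exists_oval P
  obtain ⟨H', O'⟩ := exists_oval P'
  have hcard : Fintype.card ↥H = Fintype.card ↥H' := by
    rw [Fintype.card_coe, Fintype.card_coe, O.card, O'.card]
  let e : ↥H ≃ ↥H' := Fintype.equivOfCardEq hcard
  obtain ⟨a0, ha0⟩ : H.Nonempty := Finset.card_pos.mp (by rw [O.card]; norm_num)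
  let f : α → β := fun x => if h : x ∈ H then ((e ⟨x, h⟩ : ↥H') : β) else ((e ⟨a0, ha0⟩ : ↥H') : β)
  have hf : ∀ x (h : x ∈ H), f x = ((e ⟨x, h⟩ : ↥H') : β) := fun x h => dif_pos h
  have hfi : Set.InjOn f H := by
    intro x hx y hy hxy
    rw [hf x hx, hf y hy] at hxy
    have := e.injective (Subtype.ext hxy)
    exact congrArg Subtype.val this
  have hfH : ∀ a ∈ H, f a ∈ H' := by
    intro a ha
    rw [hf a ha]
    exact (e ⟨a, ha⟩).2
  obtain ⟨g, _, k⟩ := recon_exists P P' O O' f hfi hfH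
  exact ⟨g, image_lines P P' g k⟩

omit [Fintype α] in
theorem smul_lines (g : Equiv.Perm α) (L : Set (Finset α)) :
    g • L = (fun b : Finset α => b.image g) '' L := by
  ext l
  simp only [Set.mem_smul_set, Set.mem_image]
  constructor
  · rintro ⟨b, hb, rfl⟩
    refine ⟨b, hb, ?_⟩
    ext x
    simp [Finset.mem_smul_finset]
  · rintro ⟨b, hb, rfl⟩
    refine ⟨b, hb, ?_⟩
    ext x
    simp [Finset.mem_smul_finset]

/-- every permutation of a hyperoval extends to exactly one automorphism of the plane -/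
theorem oval_ext_unique (P : IsPlane L) {H : Finset α} (O : IsOval L H) (σ : Equiv.Perm ↥H) :
    ∃! g : Equiv.Perm α, g ∈ Cfsg.setSystemAut L ∧ ∀ p : ↥H, g p = σ p := by
  let f : α → α := fun x => if h : x ∈ H then ((σ ⟨x, h⟩ : ↥H) : α) else x
  have hf : ∀ x (h : x ∈ H), f x = ((σ ⟨x, h⟩ : ↥H) : α) := fun x h => dif_pos h
  have hfi : Set.InjOn f H := by
    intro x hx y hy hxy
    rw [hf x hx, hf y hy] at hxy
    have := σ.injective (Subtype.ext hxy)
    exact congrArg Subtype.val this
  have hfH : ∀ a ∈ H, f a ∈ H := by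
    intro a ha
    rw [hf a ha]
    exact (σ ⟨a, ha⟩).2
  obtain ⟨g, hg, k⟩ := recon_exists P P O O f hfi hfH
  refine ⟨g, ⟨?_, ?_⟩, ?_⟩
  · rw [MulAction.mem_stabilizer_iff, smul_lines]
    exact image_lines P P g k
  · intro p
    rw [hg p p.2, hf p p.2]
  · rintro g' ⟨hs, hp⟩
    rw [MulAction.mem_stabilizer_iff, smul_lines] at hs
    have k' : ∀ l ∈ L, l.image g' ∈ L := by
      intro l hl
      rw [← hs]
      exact ⟨l, hl, rfl⟩
    have hg' : ∀ a ∈ H, g' a = f a := by
      intro a ha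
      rw [hf a ha]
      exact hp ⟨a, ha⟩
    exact recon_unique P P O O f hfi hfH g' g hg' k' hg k

end Cfsg.Agent.H22.Plane4
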