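import Mathlib
/-!
Abstract computations in the unipotent group of type G₂ in characteristic 3 with the
graph-field endomorphism (helper22): fixed points are the "Ree words".
-/
set_option autoImplicit false

namespace Cfsg.Agent.H22.Ree

/-- abstract unipotent system of type G₂: six additive one-parameter families, the last four
commuting with each other, and a commutator formula for the first two with coefficients `e1..e4`. -/
structure USys (K : Type*) [Field K] (Γ : Type*) [Group Γ] where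
  xa : K → Γ
  xb : K → Γ
  y1 : K → Γ
  y2 : K → Γ
  y3 : K → Γ
  y4 : K → Γ
  e1 : K
  e2 : K
  e3 : K
  e4 : K
  xa_add : ∀ s t, xa (s + t) = xa s * xa t
  xb_add : ∀ s t, xb (s + t) = xb s * xb t
  y1_add : ∀ s t, y1 (s + t) = y1 s * y1 t
  y2_add : ∀ s t, y2 (s + t) = y2 s * y2 t
  y3_add : ∀ s t, y3 (s + t) = y3 s * y3 t
  y4_add : ∀ s t, y4 (s + t) = y4 s * y4 t
  c12 : ∀ s t, y2 t * y1 s = y1 s * y2 t
  c13 : ∀ s t, y3 t * y1 s = y1 s * y3 t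
  c14 : ∀ s t, y4 t * y1 s = y1 s * y4 t
  c23 : ∀ s t, y3 t * y2 s = y2 s * y3 t
  c24 : ∀ s t, y4 t * y2 s = y2 s * y4 t
  c34 : ∀ s t, y4 t * y3 s = y3 s * y4 t
  swap : ∀ s t, xb t * xa s = xa s * xb t *
    (y1 (e1 * s * t) * y2 (e2 * s ^ 2 * t) * y3 (e3 * s ^ 3 * t) * y4 (e4 * s ^ 3 * t ^ 2))

namespace USys

variable {K : Type*} [Field K] {Γ : Type*} [Group Γ] (S : USys K Γ)

/-- product of the four commuting families -/
def P (c1 c2 c3 c4 : K) : Γ := S.y1 c1 * S.y2 c2 * S.y3 c3 * S.y4 c4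

theorem y1_zero : S.y1 0 = 1 := by
  have h := S.y1_add 0 0
  rw [add_zero] at h
  exact (mul_eq_left.mp h.symm)

theorem y2_zero : S.y2 0 = 1 := by
  have h := S.y2_add 0 0
  rw [add_zero] at h
  exact (mul_eq_left.mp h.symm)

theorem y3_zero : S.y3 0 = 1 := by
  have h := S.y3_add 0 0
  rw [add_zero] at h
  exact (mul_eq_left.mp h.symm)

theorem y4_zero : S.y4 0 = 1 := by
  have h := S.y4_add 0 0
  rw [add_zero] at h
  exact (mul_eq_left.mp h.symm)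

theorem P_add (c1 c2 c3 c4 d1 d2 d3 d4 : K) :
    S.P c1 c2 c3 c4 * S.P d1 d2 d3 d4 = S.P (c1 + d1) (c2 + d2) (c3 + d3) (c4 + d4) := by
  unfold P
  rw [S.y1_add, S.y2_add, S.y3_add, S.y4_add]
  have a12 : ∀ s t (z : Γ), S.y2 t * (S.y1 s * z) = S.y1 s * (S.y2 t * z) := fun s t z => by
    rw [← mul_assoc, S.c12, mul_assoc]
  have a13 : ∀ s t (z : Γ), S.y3 t * (S.y1 s * z) = S.y1 s * (S.y3 t * z) := fun s t z => by
    rw [← mul_assoc, S.c13, mul_assoc]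
  have a14 : ∀ s t (z : Γ), S.y4 t * (S.y1 s * z) = S.y1 s * (S.y4 t * z) := fun s t z => by
    rw [← mul_assoc, S.c14, mul_assoc]
  have a23 : ∀ s t (z : Γ), S.y3 t * (S.y2 s * z) = S.y2 s * (S.y3 t * z) := fun s t z => by
    rw [← mul_assoc, S.c23, mul_assoc]
  have a24 : ∀ s t (z : Γ), S.y4 t * (S.y2 s * z) = S.y2 s * (S.y4 t * z) := fun s t z => by
    rw [← mul_assoc, S.c24, mul_assoc]
  have a34 : ∀ s t (z : Γ), S.y4 t * (S.y3 s * z) = S.y3 s * (S.y4 t * z) := fun s t z => by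
    rw [← mul_assoc, S.c34, mul_assoc]
  simp only [mul_assoc, a12, a13, a14, a23, a24, a34]

theorem P_zero : S.P 0 0 0 0 = 1 := by
  unfold P; rw [S.y1_zero, S.y2_zero, S.y3_zero, S.y4_zero]; simp

theorem P_neg (c1 c2 c3 c4 : K) : (S.P c1 c2 c3 c4)⁻¹ = S.P (-c1) (-c2) (-c3) (-c4) := by
  apply inv_eq_of_mul_eq_one_right
  rw [S.P_add]
  simp only [add_neg_cancel]
  exact S.P_zero

theorem y1_eq_P (c : K) : S.y1 c = S.P c 0 0 0 := by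
  unfold P; rw [S.y2_zero, S.y3_zero, S.y4_zero]; simp

theorem y2_eq_P (c : K) : S.y2 c = S.P 0 c 0 0 := by
  unfold P; rw [S.y1_zero, S.y3_zero, S.y4_zero]; simp

theorem y3_eq_P (c : K) : S.y3 c = S.P 0 0 c 0 := by
  unfold P; rw [S.y1_zero, S.y2_zero, S.y4_zero]; simp

theorem y4_eq_P (c : K) : S.y4 c = S.P 0 0 0 c := by
  unfold P; rw [S.y1_zero, S.y2_zero, S.y3_zero]; simp

/-- the element with coordinates in the order `b, a, a+b, 2a+b, 3a+b, 3a+2b` -/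
def E (c6 c7 c8 c9 c10 c11 : K) : Γ := S.xb c6 * S.xa c7 * S.P c8 c9 c10 c11

/-- the element with coordinates in the order `a, b, a+b, 2a+b, 3a+b, 3a+2b` -/
def E' (s t c8 c9 c10 c11 : K) : Γ := S.xa s * S.xb t * S.P c8 c9 c10 c11

theorem E_eq_E' (t s c8 c9 c10 c11 : K) :
    S.E t s c8 c9 c10 c11 =
      S.E' s t (S.e1 * s * t + c8) (S.e2 * s ^ 2 * t + c9) (S.e3 * s ^ 3 * t + c10)
        (S.e4 * s ^ 3 * t ^ 2 + c11) := by
  unfold E E'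
  rw [S.swap, mul_assoc (S.xa s * S.xb t)]
  congr 1
  exact S.P_add _ _ _ _ _ _ _ _

theorem E'_eq_E (s t c8 c9 c10 c11 : K) :
    S.E' s t c8 c9 c10 c11 =
      S.E t s (c8 - S.e1 * s * t) (c9 - S.e2 * s ^ 2 * t) (c10 - S.e3 * s ^ 3 * t)
        (c11 - S.e4 * s ^ 3 * t ^ 2) := by
  rw [S.E_eq_E']
  congr 1 <;> ring

/-- images of the six families under an endomorphism of graph-field type -/
structure Tw (σ : Γ →* Γ) (τ : K →+* K) : Prop where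
  hτ : ∀ c : K, τ (τ c) ^ 3 = c
  σ_xa : ∀ s, σ (S.xa s) = S.xb (τ s ^ 3)
  σ_xb : ∀ t, σ (S.xb t) = S.xa (τ t)
  σ_y1 : ∀ c, σ (S.y1 c) = S.y3 (τ c ^ 3)
  σ_y2 : ∀ c, σ (S.y2 c) = S.y4 (τ c ^ 3)
  σ_y3 : ∀ c, σ (S.y3 c) = S.y1 (τ c)
  σ_y4 : ∀ c, σ (S.y4 c) = S.y2 (τ c)

variable {S}
variable {σ : Γ →* Γ} {τ : K →+* K}

theorem Tw.σ_P (T : S.Tw σ τ) (c1 c2 c3 c4 : K) :
    σ (S.P c1 c2 c3 c4) = S.P (τ c3) (τ c4) (τ c1 ^ 3) (τ c2 ^ 3) := by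
  unfold P
  rw [map_mul, map_mul, map_mul, T.σ_y1, T.σ_y2, T.σ_y3, T.σ_y4]
  have h := S.P_add 0 0 (τ c1 ^ 3) (τ c2 ^ 3) (τ c3) (τ c4) 0 0
  unfold P at h
  rw [S.y1_zero, S.y2_zero, S.y3_zero, S.y4_zero] at h
  simp only [one_mul, mul_one, zero_add, add_zero] at h
  rw [← h]
  simp only [mul_assoc]

theorem Tw.σ_E' (T : S.Tw σ τ) (s t c8 c9 c10 c11 : K) :
    σ (S.E' s t c8 c9 c10 c11) = S.E (τ s ^ 3) (τ t) (τ c10) (τ c11) (τ c8 ^ 3) (τ c9 ^ 3) := by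
  unfold E' E
  rw [map_mul, map_mul, T.σ_xa, T.σ_xb, T.σ_P]

/-- the Ree word `x_a(t^θ) x_b(t) x_{a+b}(t^{θ+1}+u^θ) x_{2a+b}(t^{2θ+1}+v^θ) x_{3a+b}(u) x_{3a+2b}(v)` -/
def R (S : USys K Γ) (τ : K →+* K) (t u v : K) : Γ :=
  S.E' (τ t) t (τ t * t + τ u) (τ t ^ 2 * t + τ v) u v

/-- the sign pattern of the tabulated structure constants -/
def Signs (S : USys K Γ) : Prop := S.e1 = 1 ∧ S.e2 = 1 ∧ S.e3 = -1 ∧ S.e4 = -1

theorem R_eq_E (hs : S.Signs) (τ : K →+* K) (t u v : K) :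
    S.R τ t u v = S.E t (τ t) (τ u) (τ v) (u + τ t ^ 3 * t) (v + τ t ^ 3 * t ^ 2) := by
  obtain ⟨h1, h2, h3, h4⟩ := hs
  unfold R
  rw [S.E'_eq_E, h1, h2, h3, h4]
  congr 1 <;> ring

theorem Tw.σ_R [CharP K 3] (T : S.Tw σ τ) (hs : S.Signs) (t u v : K) :
    σ (S.R τ t u v) = S.R τ t u v := by
  have hs' := hs
  obtain ⟨h1, h2, h3, h4⟩ := hs
  have e1 : τ (τ t * t + τ u) ^ 3 = t * τ t ^ 3 + u := by
    rw [map_add, map_mul, add_pow_char, mul_pow, T.hτ, T.hτ]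
  have e2 : τ (τ t ^ 2 * t + τ v) ^ 3 = t ^ 2 * τ t ^ 3 + v := by
    rw [map_add, map_mul, map_pow, add_pow_char, mul_pow, ← pow_mul, mul_comm 2 3, pow_mul, T.hτ, T.hτ]
  unfold R
  rw [T.σ_E', T.hτ, e1, e2, S.E_eq_E', h1, h2, h3, h4]
  congr 1 <;> ring

/-- a fixed point of `σ` in coordinates is a Ree word -/
theorem Tw.fixed_eq_R [CharP K 3] (T : S.Tw σ τ) (hs : S.Signs)
    (hE : ∀ c6 c7 c8 c9 c10 c11 d6 d7 d8 d9 d10 d11 : K,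
      S.E c6 c7 c8 c9 c10 c11 = S.E d6 d7 d8 d9 d10 d11 →
        c6 = d6 ∧ c7 = d7 ∧ c8 = d8 ∧ c9 = d9 ∧ c10 = d10 ∧ c11 = d11)
    (c6 c7 c8 c9 c10 c11 : K) (hfix : σ (S.E c6 c7 c8 c9 c10 c11) = S.E c6 c7 c8 c9 c10 c11) :
    S.E c6 c7 c8 c9 c10 c11 = S.R τ c6 (c10 - c7 ^ 3 * c6) (c11 - c7 ^ 3 * c6 ^ 2) := by
  have hs' := hs
  obtain ⟨h1, h2, h3, h4⟩ := hs
  rw [S.E_eq_E', T.σ_E'] at hfix
  rw [← S.E_eq_E'] at hfix
  obtain ⟨a6, a7, a8, a9, -, -⟩ := hE _ _ _ _ _ _ _ _ _ _ _ _ hfix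
  rw [h3] at a8
  rw [h4] at a9
  subst a7
  rw [R_eq_E hs']
  have b8 : τ (c10 - τ c6 ^ 3 * c6) = c8 := by rw [← a8]; congr 1; ring
  have b9 : τ (c11 - τ c6 ^ 3 * c6 ^ 2) = c9 := by rw [← a9]; congr 1; ring
  rw [b8, b9]
  congr 1 <;> ring

/-- the Ree word determines its parameters -/
theorem R_inj (hs : S.Signs) (τ : K →+* K)
    (hE : ∀ c6 c7 c8 c9 c10 c11 d6 d7 d8 d9 d10 d11 : K,
      S.E c6 c7 c8 c9 c10 c11 = S.E d6 d7 d8 d9 d10 d11 →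
        c6 = d6 ∧ c7 = d7 ∧ c8 = d8 ∧ c9 = d9 ∧ c10 = d10 ∧ c11 = d11)
    (t u v t' u' v' : K) (h : S.R τ t u v = S.R τ t' u' v') : t = t' ∧ u = u' ∧ v = v' := by
  rw [R_eq_E hs, R_eq_E hs] at h
  obtain ⟨a6, -, -, -, a10, a11⟩ := hE _ _ _ _ _ _ _ _ _ _ _ _ h
  subst a6
  exact ⟨rfl, add_right_cancel a10, add_right_cancel a11⟩

end USys

end Cfsg.Agent.H22.Ree
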