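import Cfsg.Agent.H22.ReeOrd
import Cfsg.Prelude.Def_LieExceptional
/-!
The (B,N)-pair of `²G₂(q)` (helper22).
-/
set_option autoImplicit false
open Cfsg Cfsg.Lie

namespace Cfsg.Agent.H22.Ree

open Cfsg.Agent.H22 Cfsg.Agent.H22.GEx

theorem r3_sq : (DihedralGroup.r 3 : DihedralGroup 6) * DihedralGroup.r 3 = 1 := by decide

namespace Ctx

variable {K : Type*} [Field K] [CharP K 3] {e : ℕ} (C : Ctx K e)

omit [CharP K 3] in
/-- `B ∩ N ≤ H` -/
theorem B_inf_N (hcan : CanonG2 K) (t : GL chevG2.Idx K) (htB : t ∈ chevG2.borelSubgroup K)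
    (htN : t ∈ chevG2.monomialSubgroup K) : t ∈ chevG2.diagonalSubgroup K := by
  have h := (hcan.2 t 1 1 t 1 1 htB (one_mem _) (one_mem _) htN (one_mem _) (one_mem _)
    (by group)).1
  rw [inv_one, one_mul] at h
  exact h

/-- elements of `N¹` lie in `H` or in `n₀ H` -/
theorem N1_class (hcan : CanonG2 K) (hW : WeylG2 K) (x : GL chevG2.Idx K)
    (hx : x ∈ chevG2.monomialSubgroup K ⊓ twistedG2 K e) :
    x ∈ chevG2.diagonalSubgroup K ∨
      (C.n0 : GL chevG2.Idx K)⁻¹ * x ∈ chevG2.diagonalSubgroup K := by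
  obtain ⟨φ, -, hker, hsimp⟩ := hW
  obtain ⟨hxG, hfix⟩ := C.fixed_of_mem _ hx.2
  have h1 : ((⟨x, hx.1⟩ : ↥(chevG2.monomialSubgroup K)) : GL chevG2.Idx K)⁻¹ *
      (C.sigN ⟨x, hx.1⟩ : GL chevG2.Idx K) ∈ chevG2.diagonalSubgroup K := by
    rw [C.sigN_coe]
    have e2 : (⟨((⟨x, hx.1⟩ : ↥(chevG2.monomialSubgroup K)) : GL chevG2.Idx K),
        C.monomial_le_group hx.1⟩ : ↥(chevG2.group K)) = ⟨x, hxG⟩ := rfl
    rw [e2, hfix, inv_mul_cancel]
    exact one_mem _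
  exact (C.N_class hcan φ hker hsimp ⟨x, hx.1⟩ h1).1

/-- `n₀² ∈ H` -/
theorem n0_sq_H (hcan : CanonG2 K) (hW : WeylG2 K) :
    (C.n0 : GL chevG2.Idx K) * (C.n0 : GL chevG2.Idx K) ∈ chevG2.diagonalSubgroup K := by
  obtain ⟨φ, -, hker, hsimp⟩ := hW
  obtain ⟨n0', hn0'⟩ : ∃ a : ↥(chevG2.monomialSubgroup K),
      (a : GL chevG2.Idx K) = (C.n0 : GL chevG2.Idx K) := ⟨⟨_, C.n0_mem_N⟩, rfl⟩
  have hn0fix : (n0' : GL chevG2.Idx K)⁻¹ * (C.sigN n0' : GL chevG2.Idx K) ∈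
      chevG2.diagonalSubgroup K := by
    rw [C.sigN_coe]
    have e1 : (⟨(n0' : GL chevG2.Idx K), C.monomial_le_group n0'.2⟩ : ↥(chevG2.group K)) =
        C.n0 := Subtype.ext hn0'
    rw [e1, C.sig_n0, hn0', inv_mul_cancel]
    exact one_mem _
  have h1 : kap (φ (n0' * n0')) = 1 := by
    rw [map_mul, map_mul]
    rcases (C.N_class hcan φ hker hsimp n0' hn0fix).2 with h | h
    · rw [h, mul_one]
    · rw [h, r3_sq]
  have h2 : φ (n0' * n0') = 1 := kap_injective (by rw [h1, map_one])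
  have h3 : n0' * n0' ∈ φ.ker := MonoidHom.mem_ker.mpr h2
  rw [hker, Subgroup.mem_subgroupOf, Subgroup.coe_mul, hn0'] at h3
  exact h3

theorem RP001_ne_one : (C.SP.R C.τ 0 0 1 : GL chevG2.Idx K) ≠ 1 := by
  intro h
  have h1 : C.SP.R C.τ 0 0 1 = C.SP.E 0 0 0 0 0 0 := by
    rw [C.E_zero]; exact Subtype.ext h
  rw [USys.R_eq_E (signs_pos K C.θ)] at h1
  obtain ⟨-, -, -, -, -, a11⟩ := C.E_inj _ _ _ _ _ _ _ _ _ _ _ _ h1
  rw [map_zero] at a11
  norm_num at a11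

include C in
/-- the (B,N)-pair of `²G₂(q)` -/
theorem bn_pair [Fintype K] {m : ℕ} (hK : Fintype.card K = 3 ^ (2 * m + 1)) (hcan : CanonG2 K)
    (hW : WeylG2 K) :
    ∃ P : Cfsg.BNPair ↥(twistedG2 K e),
      P.B = (chevG2.borelSubgroup K ⊓ twistedG2 K e).subgroupOf (twistedG2 K e) ∧
      P.N = (chevG2.monomialSubgroup K ⊓ twistedG2 K e).subgroupOf (twistedG2 K e) := by
  obtain ⟨B1, hB1⟩ : ∃ S : Subgroup ↥(twistedG2 K e),
      S = (chevG2.borelSubgroup K ⊓ twistedG2 K e).subgroupOf (twistedG2 K e) := ⟨_, rfl⟩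
  obtain ⟨N1, hN1⟩ : ∃ S : Subgroup ↥(twistedG2 K e),
      S = (chevG2.monomialSubgroup K ⊓ twistedG2 K e).subgroupOf (twistedG2 K e) := ⟨_, rfl⟩
  have mB : ∀ x : ↥(twistedG2 K e), x ∈ B1 ↔ (x : GL chevG2.Idx K) ∈ chevG2.borelSubgroup K := by
    intro x; rw [hB1, Subgroup.mem_subgroupOf]
    exact ⟨fun h => h.1, fun h => ⟨h, x.2⟩⟩
  have mN : ∀ x : ↥(twistedG2 K e), x ∈ N1 ↔
      (x : GL chevG2.Idx K) ∈ chevG2.monomialSubgroup K := by
    intro x; rw [hN1, Subgroup.mem_subgroupOf]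
    exact ⟨fun h => h.1, fun h => ⟨h, x.2⟩⟩
  obtain ⟨s, hs⟩ : ∃ a : ↥(twistedG2 K e), (a : GL chevG2.Idx K) = (C.n0 : GL chevG2.Idx K) :=
    ⟨⟨_, C.n0_mem⟩, rfl⟩
  have hsN : s ∈ N1 := (mN s).mpr (by rw [hs]; exact C.n0_mem_N)
  have hssH : ((s * s : ↥(twistedG2 K e)) : GL chevG2.Idx K) ∈ chevG2.diagonalSubgroup K := by
    rw [Subgroup.coe_mul, hs]; exact C.n0_sq_H hcan hW
  have hssB : s * s ∈ B1 := (mB _).mpr (H_le_B hssH)
  -- classification of `N¹`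
  have hcls : ∀ n : ↥(twistedG2 K e), n ∈ N1 →
      (n : GL chevG2.Idx K) ∈ chevG2.diagonalSubgroup K ∨
        ((s⁻¹ * n : ↥(twistedG2 K e)) : GL chevG2.Idx K) ∈ chevG2.diagonalSubgroup K := by
    intro n hn
    have h := C.N1_class hcan hW (n : GL chevG2.Idx K) ⟨(mN n).mp hn, n.2⟩
    rw [Subgroup.coe_mul, Subgroup.coe_inv, hs]
    exact h
  have hdec : ∀ g : ↥(twistedG2 K e), g ∈ B1 ∨ ∃ b ∈ B1, ∃ u ∈ B1, g = b * s * u := by
    intro g
    rcases C.mem_decomp hK hcan hW (g : GL chevG2.Idx K) g.2 with h | ⟨b, hb, u, hu, hgbu⟩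
    · exact Or.inl ((mB g).mpr h.1)
    · refine Or.inr ⟨⟨b, hb.2⟩, (mB _).mpr hb.1, ⟨u, hu.2⟩, (mB _).mpr (U_le_B hu.1), ?_⟩
      apply Subtype.ext
      rw [hgbu, Subgroup.coe_mul, Subgroup.coe_mul, hs]
  refine ⟨Cfsg.BNPair.mk B1 N1 {s} ?_ ?_ ?_ ?_ ?_ ?_ ?_ ?_, hB1, hN1⟩
  · -- sup_eq_top
    rw [eq_top_iff]
    intro g _
    rcases hdec g with h | ⟨b, hb, u, hu, rfl⟩
    · exact (le_sup_left : B1 ≤ B1 ⊔ N1) h
    · exact mul_mem (mul_mem ((le_sup_left : B1 ≤ B1 ⊔ N1) hb) ((le_sup_right : N1 ≤ B1 ⊔ N1) hsN))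
        ((le_sup_left : B1 ≤ B1 ⊔ N1) hu)
  · -- conj_mem
    intro n hn t ht
    have htH := B_inf_N hcan _ ((mB t).mp ht.1) ((mN t).mp ht.2)
    rw [mB, Subgroup.coe_mul, Subgroup.coe_mul, Subgroup.coe_inv]
    exact H_le_B (N_conj_H _ _ ((mN n).mp hn) htH).1
  · -- subset
    intro x hx
    rw [Set.mem_singleton_iff] at hx
    rw [hx]; exact hsN
  · -- sq_mem
    intro x hx
    rw [Set.mem_singleton_iff] at hx
    rw [hx]; exact hssB
  · -- inj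
    intro x hx x' hx' _
    rw [Set.mem_singleton_iff] at hx hx'
    rw [hx, hx']
  · -- closure_sup
    apply le_antisymm
    · apply sup_le
      · rw [Subgroup.closure_le]
        intro x hx
        rw [Set.mem_singleton_iff] at hx
        rw [hx]; exact hsN
      · exact inf_le_right
    · intro n hn
      have hHm : ∀ y : ↥(twistedG2 K e), (y : GL chevG2.Idx K) ∈ chevG2.diagonalSubgroup K →
          y ∈ B1 ⊓ N1 := fun y hy => ⟨(mB y).mpr (H_le_B hy), (mN y).mpr (H_le_N hy)⟩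
      rcases hcls n hn with h | h
      · exact (le_sup_right : B1 ⊓ N1 ≤ Subgroup.closure {s} ⊔ (B1 ⊓ N1)) (hHm n h)
      · have e1 : n = s * (s⁻¹ * n) := by group
        rw [e1]
        exact mul_mem ((le_sup_left : Subgroup.closure {s} ≤ Subgroup.closure {s} ⊔ (B1 ⊓ N1))
            (Subgroup.subset_closure (Set.mem_singleton s)))
          ((le_sup_right : B1 ⊓ N1 ≤ Subgroup.closure {s} ⊔ (B1 ⊓ N1)) (hHm _ h))
  · -- mul_mem_union
    intro x hx n hn b hb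
    rw [Set.mem_singleton_iff] at hx
    subst hx
    rcases hcls n hn with h | h
    · left
      rw [DoubleCoset.mem_doubleCoset]
      have hnB : n ∈ B1 := (mB n).mpr (H_le_B h)
      exact ⟨1, one_mem _, n⁻¹ * b * n, mul_mem (mul_mem (inv_mem hnB) hb) hnB, by group⟩
    · have hhB : x⁻¹ * n ∈ B1 := (mB _).mpr (H_le_B h)
      rcases hdec (x * b * n) with hy | ⟨b₁, hb₁, u₁, hu₁, hy⟩
      · left
        rw [DoubleCoset.mem_doubleCoset]
        have hsn : x * n ∈ B1 := by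
          have e1 : x * n = x * x * (x⁻¹ * n) := by group
          rw [e1]; exact mul_mem hssB hhB
        exact ⟨x * b * n, hy, (x * n)⁻¹, inv_mem hsn, by group⟩
      · right
        rw [DoubleCoset.mem_doubleCoset]
        refine ⟨b₁, hb₁, (x⁻¹ * n)⁻¹ * u₁, mul_mem (inv_mem hhB) hu₁, ?_⟩
        rw [hy]; group
  · -- conj_ne
    intro x hx hEq
    rw [Set.mem_singleton_iff] at hx
    subst hx
    obtain ⟨w, hw⟩ : ∃ a : ↥(twistedG2 K e),
        (a : GL chevG2.Idx K) = (C.SP.R C.τ 0 0 1 : GL chevG2.Idx K) :=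
      ⟨⟨_, C.RP_mem 0 0 1⟩, rfl⟩
    have hwU : (w : GL chevG2.Idx K) ∈ chevG2.posUnipotent K := by
      rw [hw, USys.R_eq_E (signs_pos K C.θ)]; exact C.E_mem_U _ _ _ _ _ _
    have hwB : w ∈ B1 := (mB w).mpr (U_le_B hwU)
    have h1 : x * w * x ∈ (B1 : Set ↥(twistedG2 K e)) := by
      rw [← hEq]; exact ⟨w, hwB, rfl⟩
    have h2 : x * w * x⁻¹ ∈ B1 := by
      have e1 : x * w * x⁻¹ = x * w * x * (x * x)⁻¹ := by group
      rw [e1]; exact mul_mem h1 (inv_mem hssB)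
    have h3 := (mB _).mp h2
    rw [Subgroup.coe_mul, Subgroup.coe_mul, Subgroup.coe_inv, hs] at h3
    have hwUm : (w : GL chevG2.Idx K) ∈ Um K (C.n0 : GL chevG2.Idx K) := by
      rw [C.Um_n0]; exact hwU
    have h4 := (hcan.2 _ 1 C.n0 C.n0 1 (w : GL chevG2.Idx K) h3 (one_mem _) C.n0_mem_N C.n0_mem_N
      (one_mem _) hwUm (by group)).2 rfl
    exact C.RP001_ne_one (by rw [← hw]; exact h4.2.symm)

end Ctx

end Cfsg.Agent.H22.Ree
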