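import Mathlib
import Cfsg.Agent.H46.CoxG2
/-!
The Coxeter group of type `G₂` is the dihedral group of order 12; the elements fixed by the
diagram automorphism are the identity and the longest element (helper22).
-/
set_option autoImplicit false

namespace Cfsg.Agent.H22.Ree

/-- the images of the simple reflections in the dihedral group -/
def dgen (i : Fin 2) : DihedralGroup 6 := if i = 0 then DihedralGroup.sr 0 else DihedralGroup.sr 1

/-- the swapped images -/
def dgen' (i : Fin 2) : DihedralGroup 6 := if i = 0 then DihedralGroup.sr 1 else DihedralGroup.sr 0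

theorem g2M : ∀ i i' : Fin 2, CoxeterMatrix.G₂ i i' = if i = i' then 1 else 6 := by
  intro i i'
  fin_cases i <;> fin_cases i' <;> rfl

theorem dgen_liftable : CoxeterMatrix.IsLiftable CoxeterMatrix.G₂ dgen := by
  intro i i'
  rw [g2M]
  revert i i'
  decide

theorem dgen'_liftable : CoxeterMatrix.IsLiftable CoxeterMatrix.G₂ dgen' := by
  intro i i'
  rw [g2M]
  revert i i'
  decide

/-- the isomorphism onto the dihedral group -/
noncomputable def kap : CoxeterMatrix.G₂.Group →* DihedralGroup 6 :=
  CoxeterMatrix.G₂.toCoxeterSystem.lift ⟨dgen, dgen_liftable⟩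

/-- the isomorphism twisted by the diagram automorphism -/
noncomputable def kap' : CoxeterMatrix.G₂.Group →* DihedralGroup 6 :=
  CoxeterMatrix.G₂.toCoxeterSystem.lift ⟨dgen', dgen'_liftable⟩

theorem kap_simple (i : Fin 2) : kap (CoxeterMatrix.G₂.simple i) = dgen i :=
  CoxeterMatrix.G₂.toCoxeterSystem.lift_apply_simple dgen_liftable i

theorem kap'_simple (i : Fin 2) : kap' (CoxeterMatrix.G₂.simple i) = dgen' i :=
  CoxeterMatrix.G₂.toCoxeterSystem.lift_apply_simple dgen'_liftable i

/-- the diagram automorphism on the dihedral group -/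
def dswap : DihedralGroup 6 → DihedralGroup 6
  | DihedralGroup.r i => DihedralGroup.r (-i)
  | DihedralGroup.sr i => DihedralGroup.sr (1 - i)

theorem dswap_mul : ∀ a b : DihedralGroup 6, dswap (a * b) = dswap a * dswap b := by decide

/-- the diagram automorphism as a homomorphism -/
def dswapHom : DihedralGroup 6 →* DihedralGroup 6 := MonoidHom.mk' dswap dswap_mul

theorem kap'_eq : kap' = dswapHom.comp kap := by
  apply CoxeterMatrix.G₂.toCoxeterSystem.ext_simple
  intro i
  rw [MonoidHom.comp_apply]
  show kap' (CoxeterMatrix.G₂.simple i) = dswapHom (kap (CoxeterMatrix.G₂.simple i))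
  rw [kap'_simple, kap_simple]
  revert i
  decide

theorem dswap_fix : ∀ x : DihedralGroup 6, dswap x = x → x = 1 ∨ x = DihedralGroup.r 3 := by decide

theorem kap_fix (w : CoxeterMatrix.G₂.Group) (h : kap' w = kap w) :
    kap w = 1 ∨ kap w = DihedralGroup.r 3 := by
  rw [kap'_eq, MonoidHom.comp_apply] at h
  exact dswap_fix _ h

theorem kap_surjective : Function.Surjective kap := by
  have h0 : DihedralGroup.sr 0 ∈ kap.range := ⟨CoxeterMatrix.G₂.simple 0, by rw [kap_simple]; rfl⟩
  have h1 : DihedralGroup.sr 1 ∈ kap.range := ⟨CoxeterMatrix.G₂.simple 1, by rw [kap_simple]; rfl⟩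
  have hr : (DihedralGroup.r 1 : DihedralGroup 6) ∈ kap.range := by
    have : (DihedralGroup.r 1 : DihedralGroup 6) = DihedralGroup.sr 0 * DihedralGroup.sr 1 := by
      decide
    rw [this]; exact mul_mem h0 h1
  have hall : ∀ x : DihedralGroup 6, ∃ k : Fin 6, x = DihedralGroup.r 1 ^ (k : ℕ) ∨
      x = DihedralGroup.sr 0 * DihedralGroup.r 1 ^ (k : ℕ) := by decide
  intro x
  obtain ⟨k, hk | hk⟩ := hall x
  · rw [hk]; exact pow_mem hr _
  · rw [hk]; exact mul_mem h0 (pow_mem hr _)

theorem kap_injective : Function.Injective kap := by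
  have hc : Nat.card CoxeterMatrix.G₂.Group = 12 := Cfsg.Agent.H46.cxG2_card
  have hfin : Finite CoxeterMatrix.G₂.Group := Nat.finite_of_card_ne_zero (by rw [hc]; norm_num)
  have hd : Nat.card (DihedralGroup 6) = 12 := by rw [DihedralGroup.nat_card]
  exact (Function.Surjective.bijective_of_nat_card_le kap_surjective (by rw [hc, hd])).1

/-- the parity character, non-trivial on the longest element -/
def dpar : DihedralGroup 6 → Multiplicative (ZMod 2)
  | DihedralGroup.r i => Multiplicative.ofAdd ((i.val : ZMod 2))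
  | DihedralGroup.sr i => Multiplicative.ofAdd ((i.val : ZMod 2))

theorem dpar_mul : ∀ a b : DihedralGroup 6, dpar (a * b) = dpar a * dpar b := by decide

/-- the parity character as a homomorphism -/
def dparHom : DihedralGroup 6 →* Multiplicative (ZMod 2) := MonoidHom.mk' dpar dpar_mul

theorem dpar_r3 : dparHom (DihedralGroup.r 3) = Multiplicative.ofAdd (1 : ZMod 2) := by decide

theorem dpar_one_ne : Multiplicative.ofAdd (1 : ZMod 2) ≠ 1 := by decide

end Cfsg.Agent.H22.Ree
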