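import Cfsg.Agent.H22.ReeSig
import Cfsg.Agent.H22.ReeW
/-!
The `σ`-fixed points of `G₂(K)`: from the canonical form of `G₂(K)` and `N/H ≅ W`, every fixed
element lies in `B¹` or in `B¹ n₀ U¹` (helper22).
-/
set_option autoImplicit false
open Cfsg Cfsg.Lie

namespace Cfsg.Agent.H22.Ree

open Cfsg.Agent.H22 Cfsg.Agent.H22.GEx

/-- the word `n_{a+b}(1) n_{3a+b}(1)` -/
def n0N : List (ℕ × Poly) :=
  [(8, kc 1 0), (3, kc 0 1), (8, kc 1 0), (10, kc 1 0), (1, kc 0 1), (10, kc 1 0)]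

theorem n0N_check : wordEqCheckN chevG2 64 32 64 32 n0W n0N = true := by decide +kernel

theorem pos_neg11 : ∀ r < 12, chevG2.IsPosRoot r → chevG2.IsNegRoot (11 - r) := by decide +kernel

/-- the canonical form of `G₂(K)` (statement S1100 for `G₂`) -/
def CanonG2 (K : Type*) [Field K] : Prop :=
  (∀ g ∈ chevG2.group K, ∃ b ∈ chevG2.borelSubgroup K, ∃ n ∈ chevG2.monomialSubgroup K,
    ∃ u ∈ Um K n, g = b * n * u) ∧
  (∀ (b b' n n' u u' : GL chevG2.Idx K), b ∈ chevG2.borelSubgroup K →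
    b' ∈ chevG2.borelSubgroup K → n ∈ chevG2.monomialSubgroup K →
    n' ∈ chevG2.monomialSubgroup K → u ∈ Um K n → u' ∈ Um K n' →
    b * n * u = b' * n' * u' →
      n⁻¹ * n' ∈ chevG2.diagonalSubgroup K ∧ (n = n' → b = b' ∧ u = u'))

/-- `N/H ≅ W` (statement S1039 for `G₂`) -/
def WeylG2 (K : Type*) [Field K] : Prop :=
  ∃ φ : ↥(chevG2.monomialSubgroup K) →* CoxeterMatrix.G₂.Group, Function.Surjective φ ∧
    φ.ker = (chevG2.diagonalSubgroup K).subgroupOf (chevG2.monomialSubgroup K) ∧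
    ∀ (i : Fin 2) (g : ↥(chevG2.monomialSubgroup K)),
      ((g : GL chevG2.Idx K) : Matrix chevG2.Idx chevG2.Idx K) =
        chevG2.nMat K (chevG2.simple i) 1 → φ g = CoxeterMatrix.G₂.simple i

theorem N_conj_H {K : Type*} [Field K] (n h : GL chevG2.Idx K)
    (hn : n ∈ chevG2.monomialSubgroup K) (hh : h ∈ chevG2.diagonalSubgroup K) :
    n * h * n⁻¹ ∈ chevG2.diagonalSubgroup K ∧ n⁻¹ * h * n ∈ chevG2.diagonalSubgroup K :=
  monomial_conj_mem (by simp) n hn h hh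

theorem H_le_B {K : Type*} [Field K] : chevG2.diagonalSubgroup K ≤ chevG2.borelSubgroup K :=
  le_sup_right

theorem U_le_B {K : Type*} [Field K] : chevG2.posUnipotent K ≤ chevG2.borelSubgroup K :=
  le_sup_left

theorem H_le_N {K : Type*} [Field K] : chevG2.diagonalSubgroup K ≤ chevG2.monomialSubgroup K :=
  le_sup_left

namespace Ctx

variable {K : Type*} [Field K] [CharP K 3] {e : ℕ} (C : Ctx K e)

include C in
theorem monomial_le_group : chevG2.monomialSubgroup K ≤ chevG2.group K := by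
  unfold ChevalleyDatum.monomialSubgroup
  apply sup_le C.diagonal_le_group
  rw [Subgroup.closure_le]
  rintro g ⟨r, hr, hg⟩
  have hg' : g = (C.θ (nEl chevG2 K r 1) : GL chevG2.Idx K) :=
    Units.ext (by rw [hg, C.nEl_val r hr])
  rw [hg']
  exact (C.θ _).2

include C in
theorem borel_le_group : chevG2.borelSubgroup K ≤ chevG2.group K :=
  sup_le posUnipotent_le_group C.diagonal_le_group

theorem n0_mem_N : (C.n0 : GL chevG2.Idx K) ∈ chevG2.monomialSubgroup K := by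
  have h : (C.n0 : GL chevG2.Idx K) = (C.θ (nEl chevG2 K 8 1) : GL chevG2.Idx K) *
      (C.θ (nEl chevG2 K 10 1) : GL chevG2.Idx K) := by
    apply Units.ext
    rw [Units.val_mul, C.nEl_val 8 (by decide), C.nEl_val 10 (by decide),
      C.n0_val ⟨1, 1, one_ne_zero, one_ne_zero⟩,
      wordMat_eq_of_checkN tablesCheck_G2 maskCheck_G2 64 32 64 32 n0W n0N n0N_check]
    unfold ChevalleyDatum.nMat
    rw [← wordMat_append]
    congr 1
    simp only [evalWord, n0N, List.map_cons, List.map_nil, kc_eval, ChevalleyDatum.nWord,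
      List.cons_append, List.nil_append]
    have n8 : chevG2.neg 8 = 3 := by decide
    have n10 : chevG2.neg 10 = 1 := by decide
    rw [n8, n10]
    norm_num
  rw [h]
  exact mul_mem (C.nEl_mem_N 8 (by decide)) (C.nEl_mem_N 10 (by decide))

theorem sig_n0 : C.σ C.n0 = C.n0 := by
  obtain ⟨hx', hfix⟩ := C.fixed_of_mem _ C.n0_mem
  exact hfix

theorem n0_conj (r : ℕ) (hr : r < 12) (c : K) :
    (C.n0 : GL chevG2.Idx K) * (xg K C.θ r c : GL chevG2.Idx K) * (C.n0 : GL chevG2.Idx K)⁻¹ =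
      (xg K C.θ (11 - r) (-c) : GL chevG2.Idx K) := by
  rw [mul_inv_eq_iff_eq_mul]
  exact congrArg Subtype.val (C.n0_mul_xg r hr c)

theorem Um_n0 : Um K (C.n0 : GL chevG2.Idx K) = chevG2.posUnipotent K := by
  apply le_antisymm (Um_le _)
  unfold Um ChevalleyDatum.posUnipotent
  apply Subgroup.closure_mono
  rintro x ⟨r, t, hr, hx⟩
  refine ⟨r, t, hr, ?_, hx⟩
  unfold ChevalleyDatum.rootSubgroup
  rw [MonoidHom.map_closure, Subgroup.closure_le]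
  rintro _ ⟨g, ⟨c, hg⟩, rfl⟩
  have hg' := C.eq_xg g r hr.1 c hg
  subst hg'
  show (C.n0 : GL chevG2.Idx K) * (xg K C.θ r c : GL chevG2.Idx K) *
    (C.n0 : GL chevG2.Idx K)⁻¹ ∈ chevG2.negUnipotent K
  rw [C.n0_conj r hr.1 c]
  exact C.xg_mem_V _ (pos_neg11 r hr.1 hr) _

include C in
/-- `U ∩ H = 1` -/
theorem U_inf_H (hcan : CanonG2 K) (u : GL chevG2.Idx K) (hu : u ∈ chevG2.posUnipotent K)
    (hh : u ∈ chevG2.diagonalSubgroup K) : u = 1 := by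
  have hU : u ∈ Um K (C.n0 : GL chevG2.Idx K) := by rw [C.Um_n0]; exact hu
  have hb' := (N_conj_H _ u C.n0_mem_N hh).1
  have h := hcan.2 1 ((C.n0 : GL chevG2.Idx K) * u * (C.n0 : GL chevG2.Idx K)⁻¹) C.n0 C.n0 u 1
    (one_mem _) (H_le_B hb') C.n0_mem_N C.n0_mem_N hU (one_mem _) (by group)
  exact (h.2 rfl).2

theorem xg8_ne_one : xg K C.θ 8 1 ≠ 1 := by
  intro h
  have hE : C.SP.E 0 0 1 0 0 0 = C.SP.E 0 0 0 0 0 0 := by
    show xg K C.θ 6 0 * xg K C.θ 7 0 *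
        (xg K C.θ 8 1 * xg K C.θ 9 0 * xg K C.θ 10 0 * xg K C.θ 11 0) =
      xg K C.θ 6 0 * xg K C.θ 7 0 *
        (xg K C.θ 8 0 * xg K C.θ 9 0 * xg K C.θ 10 0 * xg K C.θ 11 0)
    rw [h, C.xg_zero 8 (by decide)]
  exact one_ne_zero (C.E_inj _ _ _ _ _ _ _ _ _ _ _ _ hE).2.2.1

/-- `n₀ ∉ H` -/
theorem n0_not_H (hcan : CanonG2 K) : (C.n0 : GL chevG2.Idx K) ∉ chevG2.diagonalSubgroup K := by
  intro hn
  have hg : (C.n0 : GL chevG2.Idx K) * (xg K C.θ 8 1 : GL chevG2.Idx K) *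
      (C.n0 : GL chevG2.Idx K)⁻¹ ∈ chevG2.posUnipotent K :=
    C.H_conj_U _ _ hn (C.xg_mem_U 8 (by decide) 1)
  have hU : (xg K C.θ 8 1 : GL chevG2.Idx K) ∈ Um K (C.n0 : GL chevG2.Idx K) := by
    rw [C.Um_n0]; exact C.xg_mem_U 8 (by decide) 1
  have h := hcan.2 ((C.n0 : GL chevG2.Idx K) * (xg K C.θ 8 1 : GL chevG2.Idx K) *
      (C.n0 : GL chevG2.Idx K)⁻¹) 1 C.n0 C.n0 1 (xg K C.θ 8 1) (U_le_B hg) (one_mem _)
    C.n0_mem_N C.n0_mem_N (one_mem _) hU (by group)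
  exact C.xg8_ne_one (Subtype.ext (h.2 rfl).2.symm)

/-- the restriction of `σ` to `N` -/
def sigN : ↥(chevG2.monomialSubgroup K) →* ↥(chevG2.monomialSubgroup K) :=
  MonoidHom.mk'
    (fun m => ⟨(C.σ ⟨(m : GL chevG2.Idx K), C.monomial_le_group m.2⟩ : GL chevG2.Idx K),
      C.sig_N _ m.2⟩)
    (by
      intro a b
      apply Subtype.ext
      have e1 : (⟨((a * b : ↥(chevG2.monomialSubgroup K)) : GL chevG2.Idx K),
          C.monomial_le_group (a * b).2⟩ : ↥(chevG2.group K)) =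
          ⟨(a : GL chevG2.Idx K), C.monomial_le_group a.2⟩ *
            ⟨(b : GL chevG2.Idx K), C.monomial_le_group b.2⟩ := rfl
      show (C.σ ⟨((a * b : ↥(chevG2.monomialSubgroup K)) : GL chevG2.Idx K), _⟩ :
        GL chevG2.Idx K) = _
      rw [e1, map_mul]
      rfl)

theorem sigN_coe (m : ↥(chevG2.monomialSubgroup K)) :
    ((C.sigN m : ↥(chevG2.monomialSubgroup K)) : GL chevG2.Idx K) =
      (C.σ ⟨(m : GL chevG2.Idx K), C.monomial_le_group m.2⟩ : GL chevG2.Idx K) := rfl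

/-- `φ ∘ σ = δ ∘ φ` on `N`, in terms of the two isomorphisms onto the dihedral group -/
theorem kap_sig (φ : ↥(chevG2.monomialSubgroup K) →* CoxeterMatrix.G₂.Group)
    (hker : φ.ker = (chevG2.diagonalSubgroup K).subgroupOf (chevG2.monomialSubgroup K))
    (hsimp : ∀ (i : Fin 2) (g : ↥(chevG2.monomialSubgroup K)),
      ((g : GL chevG2.Idx K) : Matrix chevG2.Idx chevG2.Idx K) =
        chevG2.nMat K (chevG2.simple i) 1 → φ g = CoxeterMatrix.G₂.simple i)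
    (m : ↥(chevG2.monomialSubgroup K)) : kap' (φ (C.sigN m)) = kap (φ m) := by
  have hp3 : Fact (Nat.Prime 3) := ⟨Nat.prime_three⟩
  obtain ⟨f₁, hf₁⟩ : ∃ f : ↥(chevG2.monomialSubgroup K) →* DihedralGroup 6,
      f = kap'.comp (φ.comp C.sigN) := ⟨_, rfl⟩
  obtain ⟨f₂, hf₂⟩ : ∃ f : ↥(chevG2.monomialSubgroup K) →* DihedralGroup 6,
      f = kap.comp φ := ⟨_, rfl⟩
  suffices h : f₁ = f₂ by
    have := DFunLike.congr_fun h m
    rw [hf₁, hf₂] at this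
    exact this
  have s0 : chevG2.simple ((0 : Fin 2) : ℕ) = 7 := by decide
  have s1 : chevG2.simple ((1 : Fin 2) : ℕ) = 6 := by decide
  -- the two generators
  obtain ⟨a7, ha7⟩ : ∃ a : ↥(chevG2.monomialSubgroup K),
      (a : GL chevG2.Idx K) = (C.θ (nEl chevG2 K 7 1) : GL chevG2.Idx K) :=
    ⟨⟨_, C.nEl_mem_N 7 (by decide)⟩, rfl⟩
  obtain ⟨a6, ha6⟩ : ∃ a : ↥(chevG2.monomialSubgroup K),
      (a : GL chevG2.Idx K) = (C.θ (nEl chevG2 K 6 1) : GL chevG2.Idx K) :=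
    ⟨⟨_, C.nEl_mem_N 6 (by decide)⟩, rfl⟩
  have hφ7 : φ a7 = CoxeterMatrix.G₂.simple 0 :=
    hsimp 0 a7 (by rw [ha7, C.nEl_val 7 (by decide), s0])
  have hφ6 : φ a6 = CoxeterMatrix.G₂.simple 1 :=
    hsimp 1 a6 (by rw [ha6, C.nEl_val 6 (by decide), s1])
  have hσ7 : ((C.sigN a7 : ↥(chevG2.monomialSubgroup K)) : GL chevG2.Idx K) =
      (C.θ (nEl chevG2 K 6 1) : GL chevG2.Idx K) := by
    rw [C.sigN_coe]
    have e1 : (⟨(a7 : GL chevG2.Idx K), C.monomial_le_group a7.2⟩ : ↥(chevG2.group K)) =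
        C.θ (nEl chevG2 K 7 1) := Subtype.ext ha7
    rw [e1, C.hσψ, nEl_map chevG2 K rhoG2 lamG2 3 chk_G2 C.τ C.ψ C.hψ 7 (by decide), map_one,
      one_pow]
    rfl
  have hσ6 : ((C.sigN a6 : ↥(chevG2.monomialSubgroup K)) : GL chevG2.Idx K) =
      (C.θ (nEl chevG2 K 7 1) : GL chevG2.Idx K) := by
    rw [C.sigN_coe]
    have e1 : (⟨(a6 : GL chevG2.Idx K), C.monomial_le_group a6.2⟩ : ↥(chevG2.group K)) =
        C.θ (nEl chevG2 K 6 1) := Subtype.ext ha6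
    rw [e1, C.hσψ, nEl_map chevG2 K rhoG2 lamG2 3 chk_G2 C.τ C.ψ C.hψ 6 (by decide), map_one,
      one_pow]
    rfl
  have hφσ7 : φ (C.sigN a7) = CoxeterMatrix.G₂.simple 1 :=
    hsimp 1 _ (by rw [hσ7, C.nEl_val 6 (by decide), s1])
  have hφσ6 : φ (C.sigN a6) = CoxeterMatrix.G₂.simple 0 :=
    hsimp 0 _ (by rw [hσ6, C.nEl_val 7 (by decide), s0])
  have hE7 : f₁ a7 = f₂ a7 := by
    rw [hf₁, hf₂, MonoidHom.comp_apply, MonoidHom.comp_apply, MonoidHom.comp_apply, hφσ7, hφ7,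
      kap'_simple, kap_simple]
    rfl
  have hE6 : f₁ a6 = f₂ a6 := by
    rw [hf₁, hf₂, MonoidHom.comp_apply, MonoidHom.comp_apply, MonoidHom.comp_apply, hφσ6, hφ6,
      kap'_simple, kap_simple]
    rfl
  have hK : φ.ker ≤ MonoidHom.eqLocus f₁ f₂ := by
    intro k hk
    have hkH : (k : GL chevG2.Idx K) ∈ chevG2.diagonalSubgroup K := by
      rw [hker] at hk; exact hk
    have hsk : C.sigN k ∈ φ.ker := by
      rw [hker, Subgroup.mem_subgroupOf, C.sigN_coe]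
      exact C.sig_H _ hkH
    show f₁ k = f₂ k
    rw [hf₁, hf₂, MonoidHom.comp_apply, MonoidHom.comp_apply, MonoidHom.comp_apply,
      MonoidHom.mem_ker.mp hsk, MonoidHom.mem_ker.mp hk, map_one, map_one]
  have htop : ∀ x : ↥(chevG2.monomialSubgroup K), x ∈ MonoidHom.eqLocus f₁ f₂ := by
    intro x
    have hcl : Subgroup.closure (Set.range CoxeterMatrix.G₂.toCoxeterSystem.simple) ≤
        (MonoidHom.eqLocus f₁ f₂).map φ := by
      rw [Subgroup.closure_le]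
      rintro _ ⟨i, rfl⟩
      fin_cases i
      · exact ⟨a7, hE7, hφ7⟩
      · exact ⟨a6, hE6, hφ6⟩
    rw [CoxeterMatrix.G₂.toCoxeterSystem.subgroup_closure_range_simple] at hcl
    obtain ⟨y, hy, hyx⟩ := hcl (Subgroup.mem_top (φ x))
    have hk : y⁻¹ * x ∈ φ.ker := by
      rw [MonoidHom.mem_ker, map_mul, map_inv, hyx, inv_mul_cancel]
    have h2 := mul_mem hy (hK hk)
    rwa [mul_inv_cancel_left] at h2
  exact MonoidHom.ext fun x => htop x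

/-- an element of `N` with `n⁻¹ σ(n) ∈ H` lies in `H` or in `n₀ H` -/
theorem N_class (hcan : CanonG2 K)
    (φ : ↥(chevG2.monomialSubgroup K) →* CoxeterMatrix.G₂.Group)
    (hker : φ.ker = (chevG2.diagonalSubgroup K).subgroupOf (chevG2.monomialSubgroup K))
    (hsimp : ∀ (i : Fin 2) (g : ↥(chevG2.monomialSubgroup K)),
      ((g : GL chevG2.Idx K) : Matrix chevG2.Idx chevG2.Idx K) =
        chevG2.nMat K (chevG2.simple i) 1 → φ g = CoxeterMatrix.G₂.simple i)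
    (n : ↥(chevG2.monomialSubgroup K))
    (h : (n : GL chevG2.Idx K)⁻¹ * (C.sigN n : GL chevG2.Idx K) ∈ chevG2.diagonalSubgroup K) :
    ((n : GL chevG2.Idx K) ∈ chevG2.diagonalSubgroup K ∨
      (C.n0 : GL chevG2.Idx K)⁻¹ * (n : GL chevG2.Idx K) ∈ chevG2.diagonalSubgroup K) ∧
    (kap (φ n) = 1 ∨ kap (φ n) = DihedralGroup.r 3) := by
  have key : ∀ x : ↥(chevG2.monomialSubgroup K),
      (x : GL chevG2.Idx K)⁻¹ * (C.sigN x : GL chevG2.Idx K) ∈ chevG2.diagonalSubgroup K →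
      kap (φ x) = 1 ∨ kap (φ x) = DihedralGroup.r 3 := by
    intro x hx
    have hk : x⁻¹ * C.sigN x ∈ φ.ker := by
      rw [hker, Subgroup.mem_subgroupOf]; exact hx
    have e1 : φ (C.sigN x) = φ x := by
      have := MonoidHom.mem_ker.mp hk
      rw [map_mul, map_inv] at this
      exact (inv_mul_eq_one.mp this).symm
    have e2 := C.kap_sig φ hker hsimp x
    rw [e1] at e2
    exact kap_fix _ e2
  have mem_of : ∀ x : ↥(chevG2.monomialSubgroup K), kap (φ x) = 1 →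
      (x : GL chevG2.Idx K) ∈ chevG2.diagonalSubgroup K := by
    intro x hx
    have h1 : φ x = 1 := kap_injective (by rw [hx, map_one])
    have h2 : x ∈ φ.ker := MonoidHom.mem_ker.mpr h1
    rw [hker] at h2
    exact h2
  obtain ⟨n0', hn0'⟩ : ∃ a : ↥(chevG2.monomialSubgroup K),
      (a : GL chevG2.Idx K) = (C.n0 : GL chevG2.Idx K) := ⟨⟨_, C.n0_mem_N⟩, rfl⟩
  have hn0fix : (n0' : GL chevG2.Idx K)⁻¹ * (C.sigN n0' : GL chevG2.Idx K) ∈
      chevG2.diagonalSubgroup K := by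
    rw [C.sigN_coe]
    have e1 : (⟨(n0' : GL chevG2.Idx K), C.monomial_le_group n0'.2⟩ : ↥(chevG2.group K)) =
        C.n0 := Subtype.ext hn0'
    rw [e1, C.sig_n0, hn0', inv_mul_cancel]
    exact one_mem _
  have hn0r : kap (φ n0') = DihedralGroup.r 3 := by
    rcases key n0' hn0fix with h1 | h1
    · exact absurd (hn0' ▸ mem_of n0' h1) (C.n0_not_H hcan)
    · exact h1
  have hn := key n h
  refine ⟨?_, hn⟩
  rcases hn with h1 | h1
  · exact Or.inl (mem_of n h1)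
  · right
    have h2 : kap (φ (n0'⁻¹ * n)) = 1 := by
      rw [map_mul, map_mul, map_inv, map_inv, hn0r, h1, inv_mul_cancel]
    have h3 := mem_of _ h2
    rw [Subgroup.coe_mul, Subgroup.coe_inv, hn0'] at h3
    exact h3

/-- `σ`-fixed elements of `B` are products of fixed elements of `U` and `H` -/
theorem fixed_B_decomp [Fintype K] {m : ℕ} (hK : Fintype.card K = 3 ^ (2 * m + 1))
    (hcan : CanonG2 K) (b : ↥(chevG2.group K))
    (hb : (b : GL chevG2.Idx K) ∈ chevG2.borelSubgroup K) (hfix : C.σ b = b) :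
    ∃ u ∈ chevG2.posUnipotent K ⊓ twistedG2 K e, ∃ h ∈ chevG2.diagonalSubgroup K ⊓ twistedG2 K e,
      (b : GL chevG2.Idx K) = u * h := by
  obtain ⟨u, hu, h, hh, hbuh⟩ := C.exists_mul_of_mem_B _ hb
  have huG := posUnipotent_le_group hu
  have hhG := C.diagonal_le_group hh
  have e1 : b = ⟨u, huG⟩ * ⟨h, hhG⟩ := Subtype.ext hbuh
  rw [e1, map_mul] at hfix
  obtain ⟨su, hsu⟩ : ∃ s, s = C.σ ⟨u, huG⟩ := ⟨_, rfl⟩
  obtain ⟨sh, hsh⟩ : ∃ s, s = C.σ ⟨h, hhG⟩ := ⟨_, rfl⟩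
  rw [← hsu, ← hsh] at hfix
  have hsuU : (su : GL chevG2.Idx K) ∈ chevG2.posUnipotent K := by
    rw [hsu]; exact C.sig_U ⟨u, huG⟩ hu
  have hshH : (sh : GL chevG2.Idx K) ∈ chevG2.diagonalSubgroup K := by
    rw [hsh]; exact C.sig_H ⟨h, hhG⟩ hh
  have hfix' : (su : GL chevG2.Idx K) * (sh : GL chevG2.Idx K) = u * h :=
    congrArg Subtype.val hfix
  have key : u⁻¹ * (su : GL chevG2.Idx K) = h * (sh : GL chevG2.Idx K)⁻¹ := by
    calc u⁻¹ * (su : GL chevG2.Idx K)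
        = u⁻¹ * ((su : GL chevG2.Idx K) * (sh : GL chevG2.Idx K)) * (sh : GL chevG2.Idx K)⁻¹ := by
          group
      _ = u⁻¹ * (u * h) * (sh : GL chevG2.Idx K)⁻¹ := by rw [hfix']
      _ = h * (sh : GL chevG2.Idx K)⁻¹ := by group
  have h1 : u⁻¹ * (su : GL chevG2.Idx K) = 1 :=
    C.U_inf_H hcan _ (mul_mem (inv_mem hu) hsuU) (by rw [key]; exact mul_mem hh (inv_mem hshH))
  have hsu' : su = ⟨u, huG⟩ := Subtype.ext (inv_mul_eq_one.mp h1).symm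
  have hsh' : sh = ⟨h, hhG⟩ := by
    rw [hsu'] at hfix; exact mul_left_cancel hfix
  exact ⟨u, ⟨hu, C.fixed_U ⟨u, huG⟩ hu (hsu ▸ hsu')⟩, h,
    ⟨hh, C.fixed_H hK ⟨h, hhG⟩ hh (hsh ▸ hsh')⟩, hbuh⟩

/-- a `σ`-fixed element of `G₂(K)` lies in `B¹` or in `B¹ n₀ U¹` -/
theorem fixed_decomp [Fintype K] {m : ℕ} (hK : Fintype.card K = 3 ^ (2 * m + 1))
    (hcan : CanonG2 K) (hW : WeylG2 K) (g : ↥(chevG2.group K)) (hfix : C.σ g = g) :
    (g : GL chevG2.Idx K) ∈ chevG2.borelSubgroup K ⊓ twistedG2 K e ∨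
      ∃ b ∈ chevG2.borelSubgroup K ⊓ twistedG2 K e, ∃ u ∈ chevG2.posUnipotent K ⊓ twistedG2 K e,
        (g : GL chevG2.Idx K) = b * (C.n0 : GL chevG2.Idx K) * u := by
  obtain ⟨φ, -, hker, hsimp⟩ := hW
  obtain ⟨b, hb, n, hn, u, hu, hg⟩ := hcan.1 _ g.2
  have hbG := C.borel_le_group hb
  have hnG := C.monomial_le_group hn
  have huU := Um_le n hu
  have huG := posUnipotent_le_group huU
  have e1 : g = ⟨b, hbG⟩ * ⟨n, hnG⟩ * ⟨u, huG⟩ := Subtype.ext hg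
  have hfix2 : C.σ ⟨b, hbG⟩ * C.σ ⟨n, hnG⟩ * C.σ ⟨u, huG⟩ =
      ⟨b, hbG⟩ * ⟨n, hnG⟩ * ⟨u, huG⟩ := by
    rw [← map_mul, ← map_mul, ← e1, hfix]
  have hfix3 : b * n * u = (C.σ ⟨b, hbG⟩ : GL chevG2.Idx K) * (C.σ ⟨n, hnG⟩ : GL chevG2.Idx K) *
      (C.σ ⟨u, huG⟩ : GL chevG2.Idx K) := (congrArg Subtype.val hfix2).symm
  have h1 := (hcan.2 b _ n _ u _ hb (C.sig_B _ hb) hn (C.sig_N _ hn) hu
    (C.sig_Um ⟨n, hnG⟩ ⟨u, huG⟩ hu) hfix3).1
  rcases (C.N_class hcan φ hker hsimp ⟨n, hn⟩ h1).1 with hnH | hnH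
  · left
    have hgB : (g : GL chevG2.Idx K) ∈ chevG2.borelSubgroup K := by
      rw [hg]; exact mul_mem (mul_mem hb (H_le_B hnH)) (U_le_B huU)
    obtain ⟨u1, hu1, h1, hh1, e2⟩ := C.fixed_B_decomp hK hcan g hgB hfix
    exact ⟨hgB, by rw [e2]; exact mul_mem hu1.2 hh1.2⟩
  · right
    obtain ⟨h, hh_def⟩ : ∃ h : GL chevG2.Idx K, h = (C.n0 : GL chevG2.Idx K)⁻¹ * n := ⟨_, rfl⟩
    have hnH' : h ∈ chevG2.diagonalSubgroup K := by rw [hh_def]; exact hnH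
    have hc := (N_conj_H _ h C.n0_mem_N hnH').1
    obtain ⟨b₂, hb₂_def⟩ : ∃ b₂ : GL chevG2.Idx K,
        b₂ = b * ((C.n0 : GL chevG2.Idx K) * h * (C.n0 : GL chevG2.Idx K)⁻¹) := ⟨_, rfl⟩
    have hb₂ : b₂ ∈ chevG2.borelSubgroup K := by
      rw [hb₂_def]; exact mul_mem hb (H_le_B hc)
    have hg2 : (g : GL chevG2.Idx K) = b₂ * (C.n0 : GL chevG2.Idx K) * u := by
      rw [hg, hb₂_def, hh_def]; group
    have huU0 : u ∈ Um K (C.n0 : GL chevG2.Idx K) := by rw [C.Um_n0]; exact huU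
    have hb₂G := C.borel_le_group hb₂
    have e2 : g = ⟨b₂, hb₂G⟩ * C.n0 * ⟨u, huG⟩ := Subtype.ext hg2
    have hfix4 : C.σ ⟨b₂, hb₂G⟩ * C.n0 * C.σ ⟨u, huG⟩ = ⟨b₂, hb₂G⟩ * C.n0 * ⟨u, huG⟩ := by
      have h3 := hfix
      rw [e2, map_mul, map_mul, C.sig_n0] at h3
      exact h3
    have hfix5 : b₂ * (C.n0 : GL chevG2.Idx K) * u =
        (C.σ ⟨b₂, hb₂G⟩ : GL chevG2.Idx K) * (C.n0 : GL chevG2.Idx K) *
          (C.σ ⟨u, huG⟩ : GL chevG2.Idx K) := (congrArg Subtype.val hfix4).symm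
    have h2 := (hcan.2 b₂ _ C.n0 C.n0 u _ hb₂ (C.sig_B _ hb₂) C.n0_mem_N C.n0_mem_N huU0
      (by rw [C.Um_n0]; exact C.sig_U _ huU) hfix5).2 rfl
    have fb : C.σ ⟨b₂, hb₂G⟩ = ⟨b₂, hb₂G⟩ := Subtype.ext h2.1.symm
    have fu : C.σ ⟨u, huG⟩ = ⟨u, huG⟩ := Subtype.ext h2.2.symm
    obtain ⟨u1, hu1, h1, hh1, e3⟩ := C.fixed_B_decomp hK hcan ⟨b₂, hb₂G⟩ hb₂ fb
    have e3' : b₂ = u1 * h1 := e3
    exact ⟨b₂, ⟨hb₂, by rw [e3']; exact mul_mem hu1.2 hh1.2⟩, u,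
      ⟨huU, C.fixed_U ⟨u, huG⟩ huU fu⟩, hg2⟩

end Ctx

end Cfsg.Agent.H22.Ree
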