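import Cfsg.Agent.H22.ReeH2
import Cfsg.Agent.H22.ChevHAll
/-!
Action of the torus on `U` in `G₂`; elements of `H ∩ ²G₂` of odd order act fixed-point-freely
on `U`, and half of `H ∩ ²G₂` has odd order (helper22).
-/
set_option autoImplicit false
open Cfsg Cfsg.Lie

namespace Cfsg.Agent.H22.Ree

open Cfsg.Agent.H22 Cfsg.Agent.H22.GEx

/-- in a cyclic group of order `2k`, `k` odd, exactly `k` elements have odd order -/
theorem two_mul_card_odd_order {G : Type*} [Group G] [Finite G] [IsCyclic G] (k : ℕ) (hk : Odd k)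
    (hG : Nat.card G = 2 * k) : 2 * Nat.card {g : G // Odd (orderOf g)} = 2 * k := by
  let _ : CommGroup G := IsCyclic.commGroup
  have h1 : Nat.card (powMonoidHom k : G →* G).ker = k := by
    rw [IsCyclic.card_powMonoidHom_ker, hG]
    exact Nat.gcd_eq_right (Dvd.intro_left 2 rfl)
  have h2 : ∀ g : G, Odd (orderOf g) ↔ g ∈ (powMonoidHom k : G →* G).ker := by
    intro g
    rw [MonoidHom.mem_ker, powMonoidHom_apply]
    constructor
    · intro ho
      have hd : orderOf g ∣ 2 * k := by rw [← hG]; exact orderOf_dvd_natCard g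
      have hc : Nat.Coprime (orderOf g) 2 := Nat.coprime_two_right.mpr ho
      exact orderOf_dvd_iff_pow_eq_one.mp (hc.dvd_of_dvd_mul_left hd)
    · intro hp
      exact Odd.of_dvd_nat hk (orderOf_dvd_of_pow_eq_one hp)
  rw [Nat.card_congr (Equiv.subtypeEquivRight h2)]
  exact congrArg (2 * ·) h1

/-- the character of `h_a(s₁) h_b(s₂)` on the root `r` -/
def chi {K : Type*} [Field K] (s₁ s₂ : K) (r : ℕ) : K :=
  s₁ ^ pairZ chevG2 7 r * s₂ ^ pairZ chevG2 6 r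

theorem chi_vals {K : Type*} [Field K] (s₁ s₂ : K) :
    chi s₁ s₂ 6 = s₁ ^ (-3 : ℤ) * s₂ ^ (2 : ℤ) ∧ chi s₁ s₂ 7 = s₁ ^ (2 : ℤ) * s₂ ^ (-1 : ℤ) ∧
    chi s₁ s₂ 8 = s₁ ^ (-1 : ℤ) * s₂ ^ (1 : ℤ) ∧ chi s₁ s₂ 9 = s₁ ^ (1 : ℤ) * s₂ ^ (0 : ℤ) ∧
    chi s₁ s₂ 10 = s₁ ^ (3 : ℤ) * s₂ ^ (-1 : ℤ) ∧ chi s₁ s₂ 11 = s₁ ^ (0 : ℤ) * s₂ ^ (1 : ℤ) := by
  have p76 : pairZ chevG2 7 6 = -3 := by decide +kernel
  have p66 : pairZ chevG2 6 6 = 2 := by decide +kernel
  have p77 : pairZ chevG2 7 7 = 2 := by decide +kernel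
  have p67 : pairZ chevG2 6 7 = -1 := by decide +kernel
  have p78 : pairZ chevG2 7 8 = -1 := by decide +kernel
  have p68 : pairZ chevG2 6 8 = 1 := by decide +kernel
  have p79 : pairZ chevG2 7 9 = 1 := by decide +kernel
  have p69 : pairZ chevG2 6 9 = 0 := by decide +kernel
  have p710 : pairZ chevG2 7 10 = 3 := by decide +kernel
  have p610 : pairZ chevG2 6 10 = -1 := by decide +kernel
  have p711 : pairZ chevG2 7 11 = 0 := by decide +kernel
  have p611 : pairZ chevG2 6 11 = 1 := by decide +kernel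
  unfold chi
  rw [p76, p66, p77, p67, p78, p68, p79, p69, p710, p610, p711, p611]
  exact ⟨rfl, rfl, rfl, rfl, rfl, rfl⟩

namespace Ctx

variable {K : Type*} [Field K] [CharP K 3] {e : ℕ} (C : Ctx K e)

theorem hh_mul_xg (s₁ s₂ : K) (h1 : s₁ ≠ 0) (h2 : s₂ ≠ 0) (r : ℕ) (hr : r < chevG2.nroots)
    (t : K) : C.hh s₁ s₂ * xg K C.θ r t = xg K C.θ r (chi s₁ s₂ r * t) * C.hh s₁ s₂ := by
  apply Subtype.ext
  apply Units.ext
  rw [Subgroup.coe_mul, Units.val_mul, Subgroup.coe_mul, Units.val_mul, C.xg_val r hr,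
    C.xg_val r hr, C.hh_val s₁ s₂ h1 h2, ← hMat_mul_hMat s₁ s₂ h1 h2]
  have hD : chevG2 ∈ [chevG2, chevB2, chevD4, chevF4, chevE6, chevE7, chevE8] := by simp
  rw [mul_assoc, hMat_mul_x chevG2 hD 6 r (by decide) hr s₂ h2, ← mul_assoc,
    hMat_mul_x chevG2 hD 7 r (by decide) hr s₁ h1, mul_assoc]
  unfold chi
  rw [mul_assoc]

theorem hh_mul_E (s₁ s₂ : K) (h1 : s₁ ≠ 0) (h2 : s₂ ≠ 0) (c6 c7 c8 c9 c10 c11 : K) :
    C.hh s₁ s₂ * C.SP.E c6 c7 c8 c9 c10 c11 =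
      C.SP.E (chi s₁ s₂ 6 * c6) (chi s₁ s₂ 7 * c7) (chi s₁ s₂ 8 * c8) (chi s₁ s₂ 9 * c9)
        (chi s₁ s₂ 10 * c10) (chi s₁ s₂ 11 * c11) * C.hh s₁ s₂ := by
  have k := fun (r : ℕ) (hr : r < chevG2.nroots) (t : K) => C.hh_mul_xg s₁ s₂ h1 h2 r hr t
  have a : ∀ (r : ℕ) (hr : r < chevG2.nroots) (t : K) (z : ↥(chevG2.group K)),
      C.hh s₁ s₂ * (xg K C.θ r t * z) = xg K C.θ r (chi s₁ s₂ r * t) * (C.hh s₁ s₂ * z) := by
    intro r hr t z
    rw [← mul_assoc, k r hr, mul_assoc]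
  show C.hh s₁ s₂ * (xg K C.θ 6 c6 * xg K C.θ 7 c7 *
      (xg K C.θ 8 c8 * xg K C.θ 9 c9 * xg K C.θ 10 c10 * xg K C.θ 11 c11)) =
    xg K C.θ 6 _ * xg K C.θ 7 _ * (xg K C.θ 8 _ * xg K C.θ 9 _ * xg K C.θ 10 _ * xg K C.θ 11 _) *
      C.hh s₁ s₂
  simp only [mul_assoc]
  rw [a 6 (by decide), a 7 (by decide), a 8 (by decide), a 9 (by decide), a 10 (by decide),
    k 11 (by decide)]

theorem E_zero : C.SP.E 0 0 0 0 0 0 = 1 := by
  have h6 := xg_add K C.θ 6 (by decide) 0 0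
  have h7 := xg_add K C.θ 7 (by decide) 0 0
  rw [add_zero] at h6 h7
  have h6' : xg K C.θ 6 0 = 1 := mul_eq_left.mp h6.symm
  have h7' : xg K C.θ 7 0 = 1 := mul_eq_left.mp h7.symm
  show xg K C.θ 6 0 * xg K C.θ 7 0 * C.SP.P 0 0 0 0 = 1
  rw [h6', h7', C.SP.P_zero, one_mul, one_mul]

/-- if the character of `h_a(τ t) h_b(t)` is trivial on some positive root then `t² = 1` -/
theorem sq_eq_one_of_chi (t : K) (ht : t ≠ 0) :
    (chi (C.τ t) t 6 = 1 → t ^ 2 = 1) ∧ (chi (C.τ t) t 7 = 1 → t ^ 2 = 1) ∧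
    (chi (C.τ t) t 8 = 1 → t ^ 2 = 1) ∧ (chi (C.τ t) t 9 = 1 → t ^ 2 = 1) ∧
    (chi (C.τ t) t 10 = 1 → t ^ 2 = 1) ∧ (chi (C.τ t) t 11 = 1 → t ^ 2 = 1) := by
  obtain ⟨v6, v7, v8, v9, v10, v11⟩ := chi_vals (C.τ t) t
  have hs : C.τ t ≠ 0 := (map_ne_zero C.τ).mpr ht
  have hτ := C.hτ t
  -- the two relations `s² = t`, `t² = s³` force `t = 1`
  have key : ∀ s : K, s ≠ 0 → s ^ 2 = t → t ^ 2 = s ^ 3 → t ^ 2 = 1 := by
    intro s hs0 e1 e2
    have e3 : s ^ 3 * (s - 1) = 0 := by rw [← e1] at e2; linear_combination e2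
    have e4 : s = 1 := by
      rcases mul_eq_zero.mp e3 with h | h
      · exact absurd (pow_eq_zero_iff (by norm_num) |>.mp h) hs0
      · exact sub_eq_zero.mp h
    rw [← e1, e4]; norm_num
  -- the relations `t = s`, `s³ = t` force `t² = 1`
  have key2 : ∀ s : K, s ≠ 0 → t = s → s ^ 3 = t → t ^ 2 = 1 := by
    intro s hs0 e1 e2
    subst e1
    have e3 : t * (t ^ 2 - 1) = 0 := by linear_combination e2
    rcases mul_eq_zero.mp e3 with h | h
    · exact absurd h hs0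
    · exact sub_eq_zero.mp h
  refine ⟨?_, ?_, ?_, ?_, ?_, ?_⟩
  · intro h
    rw [v6, zpow_neg, zpow_ofNat, zpow_ofNat] at h
    have e2 : t ^ 2 = C.τ t ^ 3 := by field_simp at h; exact h
    have e1 : C.τ t ^ 2 = t := by
      have := congrArg C.τ e2
      rw [map_pow, map_pow, hτ] at this
      exact this
    exact key _ hs e1 e2
  · intro h
    rw [v7, zpow_neg, zpow_ofNat, zpow_one] at h
    have e1 : C.τ t ^ 2 = t := by field_simp at h; exact h
    have e2 : t ^ 2 = C.τ t ^ 3 := by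
      have := congrArg (fun z => C.τ z ^ 3) e1
      simp only [map_pow] at this
      rw [← pow_mul, mul_comm 2 3, pow_mul, hτ] at this
      exact this
    exact key _ hs e1 e2
  · intro h
    rw [v8, zpow_neg, zpow_one, zpow_one] at h
    have e1 : t = C.τ t := by field_simp at h; exact h
    have e2 : C.τ t ^ 3 = t := by
      have := congrArg (fun z => C.τ z ^ 3) e1
      rw [hτ] at this
      exact this
    exact key2 _ hs e1 e2
  · intro h
    rw [v9, zpow_one, zpow_zero, mul_one] at h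
    have e1 : t = 1 := by rw [← hτ, h, map_one, one_pow]
    rw [e1, one_pow]
  · intro h
    rw [v10, zpow_neg, zpow_ofNat, zpow_one] at h
    have e2 : C.τ t ^ 3 = t := by field_simp at h; exact h
    have e1 : t = C.τ t := by
      have := congrArg C.τ e2
      rw [map_pow, hτ] at this
      exact this
    exact key2 _ hs e1 e2
  · intro h
    rw [v11, zpow_zero, zpow_one, one_mul] at h
    rw [h, one_pow]

include C in
/-- an element of `H ∩ ²G₂` which is not an involution centralises no non-trivial element of `U` -/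
theorem centralizer_trivial (g u : GL chevG2.Idx K)
    (hg : g ∈ chevG2.diagonalSubgroup K ⊓ twistedG2 K e) (hg2 : g * g ≠ 1)
    (hu : u ∈ chevG2.posUnipotent K) (hcomm : g * u = u * g) : u = 1 := by
  obtain ⟨t, ht, rfl⟩ := C.exists_of_mem_H1 g hg
  obtain ⟨c6, c7, c8, c9, c10, c11, rfl⟩ := C.exists_E u hu
  have hs : C.τ t ≠ 0 := (map_ne_zero C.τ).mpr ht
  have ht2 : t ^ 2 ≠ 1 := by
    intro h
    apply hg2
    apply Units.ext
    rw [Units.val_mul, C.hh_val _ _ hs ht, dg_mul, ← pow_two, ← pow_two, ← map_pow, h, map_one]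
    unfold dg
    have hc : cc (1 : K) 1 = fun _ => (1 : K) := by
      funext i; unfold cc; split_ifs <;> rfl
    rw [hc, torusDiag_one, Units.val_one]
    exact Matrix.diagonal_one
  have hcomm' : C.hh (C.τ t) t * C.SP.E c6 c7 c8 c9 c10 c11 =
      C.SP.E c6 c7 c8 c9 c10 c11 * C.hh (C.τ t) t := Subtype.ext hcomm
  rw [C.hh_mul_E _ _ hs ht] at hcomm'
  obtain ⟨a6, a7, a8, a9, a10, a11⟩ := C.E_inj _ _ _ _ _ _ _ _ _ _ _ _ (mul_right_cancel hcomm')
  obtain ⟨i6, i7, i8, i9, i10, i11⟩ := C.sq_eq_one_of_chi t ht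
  have z : ∀ (x c : K), (x = 1 → t ^ 2 = 1) → x * c = c → c = 0 := by
    intro x c hx hxc
    by_contra hc
    exact ht2 (hx (mul_right_cancel₀ hc (by rw [hxc, one_mul])))
  rw [z _ _ i6 a6, z _ _ i7 a7, z _ _ i8 a8, z _ _ i9 a9, z _ _ i10 a10, z _ _ i11 a11, C.E_zero]
  rfl

end Ctx

end Cfsg.Agent.H22.Ree
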