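import Cfsg.Agent.H22.ReeU
/-!
Construction of the Ree context from Steinberg's theorem and the unique factorisation in `U` (helper22).
-/
set_option autoImplicit false
open Cfsg Cfsg.Lie

namespace Cfsg.Agent.H22.Ree

open Cfsg.Agent.H22.GEx

theorem charP_three_of_card {K : Type*} [Field K] [Fintype K] {n : ℕ}
    (hK : Fintype.card K = 3 ^ (n + 1)) : CharP K 3 := by
  obtain ⟨p, hp⟩ := CharP.exists K
  obtain ⟨k, hpp, hk⟩ := FiniteField.card K p
  have h1 : p ∣ 3 ^ (n + 1) := by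
    rw [← hK, hk]
    exact dvd_pow_self p k.ne_zero
  have h2 : p ∣ 3 := hpp.dvd_of_dvd_pow h1
  have h3 : p = 3 := (Nat.prime_dvd_prime_iff_eq hpp Nat.prime_three).mp h2
  subst h3
  exact hp

theorem exists_ctx {K : Type*} [Field K] [CharP K 3] [Fintype K] {m : ℕ}
    (hK : Fintype.card K = 3 ^ (2 * m + 1))
    (hθ : ∃ θ : chevG2.SteinbergGroup K →* ↥(chevG2.group K), Function.Surjective θ ∧
      θ.ker = Subgroup.center (chevG2.SteinbergGroup K) ∧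
      ∀ (r : ℕ) (t : K), r < chevG2.nroots →
        ((θ (chevG2.stGen K r t) : GL chevG2.Idx K) : Matrix chevG2.Idx chevG2.Idx K) = chevG2.x K r t)
    (hU : ∀ g : GL chevG2.Idx K, g ∈ chevG2.posUnipotent K →
      ∃! t : ℕ → K, (∀ r, ¬ chevG2.IsPosRoot r → t r = 0) ∧
        (g : Matrix chevG2.Idx chevG2.Idx K) = chevG2.wordMat K (chevG2.posRoots.map fun r => (r, t r))) :
    Nonempty (Ctx K (3 ^ m)) := by
  have hp3 : Fact (Nat.Prime 3) := ⟨Nat.prime_three⟩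
  let τ : K →+* K := iterateFrobenius K 3 m
  have τ_eq : ∀ c : K, τ c = c ^ 3 ^ m := fun c => iterateFrobenius_def 3 m c
  have hτ : ∀ c : K, τ (τ c) ^ 3 = c := by
    intro c
    rw [τ_eq, τ_eq, ← pow_mul, ← pow_mul]
    have h1 : 3 ^ m * (3 ^ m * 3) = Fintype.card K := by
      rw [hK]; ring
    rw [h1, FiniteField.pow_card]
  have hbij : Function.Bijective τ := by
    refine ⟨τ.injective, fun c => ⟨τ c ^ 3, ?_⟩⟩
    rw [map_pow]; exact hτ c
  have hperf : ∀ x : K, ∃ y : K, y ^ 3 = x := fun x => ⟨τ (τ x), hτ x⟩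
  obtain ⟨θ, hs, hk, hx⟩ := hθ
  obtain ⟨σ, ψ, hσψ, hψ⟩ := twist_of_theta chevG2 K rhoG2 lamG2 3 chk_G2 chk2_G2 hperf τ hbij θ hs hk
  exact ⟨⟨θ, hs, hx, τ, τ_eq, hτ, σ, ψ, hσψ, hψ, hU⟩⟩

end Cfsg.Agent.H22.Ree
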