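import Cfsg.Agent.H22.ReeC
/-!
Cubes in the Sylow 3-subgroup of `²G₂(q)` and the number of its elements of order 3 (helper22).
-/
set_option autoImplicit false
open Cfsg Cfsg.Lie

namespace Cfsg.Agent.H22.Ree

open Cfsg.Agent.H22 Cfsg.Agent.H22.GEx

namespace USys

variable {K : Type*} [Field K] {Γ : Type*} [Group Γ] (S : USys K Γ)

/-- the remaining commutation relations of the six families -/
structure Ext (f1 f2 : K) : Prop where
  a1 : ∀ s c, S.y1 c * S.xa s = S.xa s * S.y1 c * S.y2 (f1 * s * c)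
  a2 : ∀ s c, S.y2 c * S.xa s = S.xa s * S.y2 c
  a3 : ∀ s c, S.y3 c * S.xa s = S.xa s * S.y3 c
  a4 : ∀ s c, S.y4 c * S.xa s = S.xa s * S.y4 c
  b1 : ∀ t c, S.y1 c * S.xb t = S.xb t * S.y1 c
  b2 : ∀ t c, S.y2 c * S.xb t = S.xb t * S.y2 c
  b3 : ∀ t c, S.y3 c * S.xb t = S.xb t * S.y3 c * S.y4 (f2 * t * c)
  b4 : ∀ t c, S.y4 c * S.xb t = S.xb t * S.y4 c

theorem xa_zero : S.xa 0 = 1 := by
  have h := S.xa_add 0 0
  rw [add_zero] at h
  exact (mul_eq_left.mp h.symm)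

theorem xb_zero : S.xb 0 = 1 := by
  have h := S.xb_add 0 0
  rw [add_zero] at h
  exact (mul_eq_left.mp h.symm)

variable {S}

theorem Ext.P_xa {f1 f2 : K} (X : S.Ext f1 f2) (s c1 c2 c3 c4 : K) :
    S.P c1 c2 c3 c4 * S.xa s = S.xa s * S.P c1 (f1 * s * c1 + c2) c3 c4 := by
  unfold P
  have a1 : ∀ c (z : Γ), S.y1 c * (S.xa s * z) = S.xa s * (S.y1 c * (S.y2 (f1 * s * c) * z)) :=
    fun c z => by rw [← mul_assoc, X.a1]; simp only [mul_assoc]
  have a2 : ∀ c (z : Γ), S.y2 c * (S.xa s * z) = S.xa s * (S.y2 c * z) :=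
    fun c z => by rw [← mul_assoc, X.a2, mul_assoc]
  have a3 : ∀ c (z : Γ), S.y3 c * (S.xa s * z) = S.xa s * (S.y3 c * z) :=
    fun c z => by rw [← mul_assoc, X.a3, mul_assoc]
  rw [S.y2_add]
  simp only [mul_assoc]
  rw [X.a4, a3, a2, a1]
  simp only [mul_assoc]

theorem Ext.P_xb {f1 f2 : K} (X : S.Ext f1 f2) (t c1 c2 c3 c4 : K) :
    S.P c1 c2 c3 c4 * S.xb t = S.xb t * S.P c1 c2 c3 (f2 * t * c3 + c4) := by
  unfold P
  have b1 : ∀ c (z : Γ), S.y1 c * (S.xb t * z) = S.xb t * (S.y1 c * z) :=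
    fun c z => by rw [← mul_assoc, X.b1, mul_assoc]
  have b2 : ∀ c (z : Γ), S.y2 c * (S.xb t * z) = S.xb t * (S.y2 c * z) :=
    fun c z => by rw [← mul_assoc, X.b2, mul_assoc]
  have b3 : ∀ c (z : Γ), S.y3 c * (S.xb t * z) = S.xb t * (S.y3 c * (S.y4 (f2 * t * c) * z)) :=
    fun c z => by rw [← mul_assoc, X.b3]; simp only [mul_assoc]
  rw [S.y4_add]
  simp only [mul_assoc]
  rw [X.b4, b3, b2, b1]
  simp only [mul_assoc]

/-- the product of two elements in normal form -/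
theorem Ext.E'_mul {f1 f2 : K} (X : S.Ext f1 f2) (s t c1 c2 c3 c4 s' t' d1 d2 d3 d4 : K) :
    S.E' s t c1 c2 c3 c4 * S.E' s' t' d1 d2 d3 d4 =
      S.E' (s + s') (t + t') (S.e1 * s' * t + (c1 + d1))
        (S.e2 * s' ^ 2 * t + (f1 * s' * c1 + c2 + d2)) (S.e3 * s' ^ 3 * t + (c3 + d3))
        (f2 * t' * (S.e3 * s' ^ 3 * t) + S.e4 * s' ^ 3 * t ^ 2 + (f2 * t' * c3 + c4 + d4)) := by
  unfold E'
  calc S.xa s * S.xb t * S.P c1 c2 c3 c4 * (S.xa s' * S.xb t' * S.P d1 d2 d3 d4)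
      = S.xa s * S.xb t * (S.P c1 c2 c3 c4 * S.xa s') * S.xb t' * S.P d1 d2 d3 d4 := by
        simp only [mul_assoc]
    _ = S.xa s * (S.xb t * S.xa s') * (S.P c1 (f1 * s' * c1 + c2) c3 c4 * S.xb t') *
          S.P d1 d2 d3 d4 := by
        rw [X.P_xa]; simp only [mul_assoc]
    _ = S.xa s * (S.xa s' * S.xb t * S.P (S.e1 * s' * t) (S.e2 * s' ^ 2 * t) (S.e3 * s' ^ 3 * t)
          (S.e4 * s' ^ 3 * t ^ 2)) * (S.xb t' * S.P c1 (f1 * s' * c1 + c2) c3 (f2 * t' * c3 + c4)) *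
          S.P d1 d2 d3 d4 := by
        rw [S.swap, X.P_xb]; rfl
    _ = S.xa s * S.xa s' * S.xb t * (S.P (S.e1 * s' * t) (S.e2 * s' ^ 2 * t) (S.e3 * s' ^ 3 * t)
          (S.e4 * s' ^ 3 * t ^ 2) * S.xb t') * (S.P c1 (f1 * s' * c1 + c2) c3 (f2 * t' * c3 + c4) *
          S.P d1 d2 d3 d4) := by
        simp only [mul_assoc]
    _ = S.xa (s + s') * S.xb (t + t') * (S.P (S.e1 * s' * t) (S.e2 * s' ^ 2 * t)
          (S.e3 * s' ^ 3 * t) (f2 * t' * (S.e3 * s' ^ 3 * t) + S.e4 * s' ^ 3 * t ^ 2) *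
          S.P (c1 + d1) (f1 * s' * c1 + c2 + d2) (c3 + d3) (f2 * t' * c3 + c4 + d4)) := by
        rw [X.P_xb, S.P_add, S.xa_add, S.xb_add]; simp only [mul_assoc]
    _ = _ := by rw [S.P_add]

/-- the cube of an element in normal form, in characteristic 3 -/
theorem Ext.E'_cube [CharP K 3] {f1 f2 : K} (X : S.Ext f1 f2) (s t c1 c2 c3 c4 : K) :
    S.E' s t c1 c2 c3 c4 * S.E' s t c1 c2 c3 c4 * S.E' s t c1 c2 c3 c4 =
      S.P 0 (f1 * S.e1 * s ^ 2 * t) 0 ((f2 * S.e3 - S.e4) * s ^ 3 * t ^ 2) := by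
  have h3 : (3 : K) = 0 := by exact_mod_cast CharP.cast_eq_zero K 3
  rw [X.E'_mul, X.E'_mul]
  unfold E'
  have hs : s + s + s = 0 := by linear_combination s * h3
  have ht : t + t + t = 0 := by linear_combination t * h3
  rw [hs, ht, S.xa_zero, S.xb_zero, one_mul, one_mul]
  have k1 : S.e1 * s * (t + t) + (S.e1 * s * t + (c1 + c1) + c1) = 0 := by
    linear_combination (S.e1 * s * t + c1) * h3
  have k2 : S.e2 * s ^ 2 * (t + t) + (f1 * s * (S.e1 * s * t + (c1 + c1)) +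
      (S.e2 * s ^ 2 * t + (f1 * s * c1 + c2 + c2)) + c2) = f1 * S.e1 * s ^ 2 * t := by
    linear_combination (S.e2 * s ^ 2 * t + f1 * s * c1 + c2) * h3
  have k3 : S.e3 * s ^ 3 * (t + t) + (S.e3 * s ^ 3 * t + (c3 + c3) + c3) = 0 := by
    linear_combination (S.e3 * s ^ 3 * t + c3) * h3
  have k4 : f2 * t * (S.e3 * s ^ 3 * (t + t)) + S.e4 * s ^ 3 * (t + t) ^ 2 +
      (f2 * t * (S.e3 * s ^ 3 * t + (c3 + c3)) +
        (f2 * t * (S.e3 * s ^ 3 * t) + S.e4 * s ^ 3 * t ^ 2 + (f2 * t * c3 + c4 + c4)) + c4) =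
      (f2 * S.e3 - S.e4) * s ^ 3 * t ^ 2 := by
    linear_combination (f2 * S.e3 * s ^ 3 * t ^ 2 + 2 * S.e4 * s ^ 3 * t ^ 2 + f2 * t * c3 + c4) * h3
  rw [k1, k2, k3, k4]

end USys

theorem commTerms_7_8 :
    chevG2.commTerms 7 8 = [(9, -2, 1, 1), (10, -3, 2, 1), (11, 3, 1, 2)] := by decide +kernel

theorem commTerms_6_10 : chevG2.commTerms 6 10 = [(11, 1, 1, 1)] := by decide +kernel

theorem cok_7_9 : commOK chevG2 3 7 9 := by decide +kernel
theorem cok_7_10 : commOK chevG2 3 7 10 := by decide +kernel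
theorem cok_7_11 : commOK chevG2 3 7 11 := by decide +kernel
theorem cok_6_8 : commOK chevG2 3 6 8 := by decide +kernel
theorem cok_6_9 : commOK chevG2 3 6 9 := by decide +kernel
theorem cok_6_11 : commOK chevG2 3 6 11 := by decide +kernel

section G2

variable (K : Type*) [Field K] [CharP K 3]
variable (θ : chevG2.SteinbergGroup K →* ↥(chevG2.group K))

omit [CharP K 3] in
theorem xg_zero' (r : ℕ) (hr : r < chevG2.nroots) : xg K θ r 0 = 1 := by
  have h := xg_add K θ r hr 0 0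
  rw [add_zero] at h
  exact mul_eq_left.mp h.symm

theorem y1_xa (s c : K) :
    xg K θ 8 c * xg K θ 7 s = xg K θ 7 s * xg K θ 8 c * xg K θ 9 (2 * s * c) := by
  have h := R2 chevG2 K 7 8 (by decide) (by decide) (by decide) (by decide) s c
  unfold ChevalleyDatum.commWord at h
  rw [commTerms_7_8] at h
  simp only [List.map_cons, List.map_nil, List.prod_cons, List.prod_nil, mul_one] at h
  have h3 : (3 : K) = 0 := by exact_mod_cast CharP.cast_eq_zero K 3
  have e9 : ((-2 : ℤ) : K) * (-s) ^ 1 * c ^ 1 = 2 * s * c := by push_cast; ring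
  have e10 : ((-3 : ℤ) : K) * (-s) ^ 2 * c ^ 1 = 0 := by
    push_cast; linear_combination (-(s ^ 2 * c)) * h3
  have e11 : ((3 : ℤ) : K) * (-s) ^ 1 * c ^ 2 = 0 := by
    push_cast; linear_combination (-(s * c ^ 2)) * h3
  rw [e9, e10, e11] at h
  have h' := congrArg θ h
  simp only [map_mul, map_inv] at h'
  have z10 := xg_zero' K θ 10 (by decide)
  have z11 := xg_zero' K θ 11 (by decide)
  unfold xg at z10 z11 ⊢
  rw [z10, z11, mul_one, mul_one] at h'
  rw [← h']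
  group

omit [CharP K 3] in
theorem y3_xb (t c : K) :
    xg K θ 10 c * xg K θ 6 t = xg K θ 6 t * xg K θ 10 c * xg K θ 11 (-1 * t * c) := by
  have h := R2 chevG2 K 6 10 (by decide) (by decide) (by decide) (by decide) t c
  unfold ChevalleyDatum.commWord at h
  rw [commTerms_6_10] at h
  simp only [List.map_cons, List.map_nil, List.prod_cons, List.prod_nil, mul_one] at h
  have e11 : ((1 : ℤ) : K) * (-t) ^ 1 * c ^ 1 = -1 * t * c := by push_cast; ring
  rw [e11] at h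
  have h' := congrArg θ h
  simp only [map_mul, map_inv] at h'
  unfold xg
  rw [← h']
  group

/-- the positive unipotent system satisfies the remaining relations -/
theorem extPos : (sysPos K θ).Ext 2 (-1) where
  a1 := y1_xa K θ
  a2 := fun s c => xg_comm K θ 7 9 cok_7_9 s c
  a3 := fun s c => xg_comm K θ 7 10 cok_7_10 s c
  a4 := fun s c => xg_comm K θ 7 11 cok_7_11 s c
  b1 := fun t c => xg_comm K θ 6 8 cok_6_8 t c
  b2 := fun t c => xg_comm K θ 6 9 cok_6_9 t c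
  b3 := y3_xb K θ
  b4 := fun t c => xg_comm K θ 6 11 cok_6_11 t c

end G2

namespace Ctx

variable {K : Type*} [Field K] [CharP K 3] {e : ℕ} (C : Ctx K e)

theorem P_eq_E (c1 c2 c3 c4 : K) : C.SP.P c1 c2 c3 c4 = C.SP.E 0 0 c1 c2 c3 c4 := by
  unfold USys.E
  rw [USys.xa_zero, USys.xb_zero, one_mul, one_mul]

/-- the cube of a Ree word is trivial exactly when its first parameter vanishes -/
theorem R_cube_eq_one_iff (t u v : K) :
    C.SP.R C.τ t u v * C.SP.R C.τ t u v * C.SP.R C.τ t u v = 1 ↔ t = 0 := by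
  have h3 : (3 : K) = 0 := by exact_mod_cast CharP.cast_eq_zero K 3
  unfold USys.R
  rw [(extPos K C.θ).E'_cube]
  constructor
  · intro h
    rw [C.P_eq_E, ← C.E_zero] at h
    obtain ⟨-, -, -, a9, -, -⟩ := C.E_inj _ _ _ _ _ _ _ _ _ _ _ _ h
    have he1 : C.SP.e1 = 1 := rfl
    rw [he1] at a9
    have h2 : (2 : K) ≠ 0 := by
      intro h2
      have : (1 : K) = 0 := by linear_combination h3 - h2
      exact one_ne_zero this
    have a9' : C.τ t ^ 2 * t = 0 := by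
      have : (2 : K) * (C.τ t ^ 2 * t) = 0 := by linear_combination a9
      exact (mul_eq_zero.mp this).resolve_left h2
    rcases mul_eq_zero.mp a9' with h | h
    · exact (map_eq_zero C.τ).mp (pow_eq_zero_iff (by norm_num) |>.mp h)
    · exact h
  · intro h
    rw [h, map_zero]
    have z2 : (2 : K) * C.SP.e1 * 0 ^ 2 * 0 = 0 := by ring
    have z4 : ((-1 : K) * C.SP.e3 - C.SP.e4) * 0 ^ 3 * 0 ^ 2 = 0 := by ring
    rw [z2, z4]
    exact USys.P_zero _

theorem reeEl_zero : C.reeEl (0, 0, 0) = 1 := by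
  apply Subtype.ext
  show (C.SP.R C.τ 0 0 0 : GL chevG2.Idx K) = 1
  rw [USys.R_eq_E (signs_pos K C.θ)]
  have z5 : (0 : K) + C.τ 0 ^ 3 * 0 = 0 := by rw [map_zero]; ring
  have z6 : (0 : K) + C.τ 0 ^ 3 * 0 ^ 2 = 0 := by rw [map_zero]; ring
  rw [z5, z6, map_zero, C.E_zero]
  rfl

/-- the Ree words of order 3 -/
theorem orderOf_reeEl (q : K × K × K) : orderOf (C.reeEl q) = 3 ↔ q.1 = 0 ∧ q.2 ≠ 0 := by
  have hp : Fact (Nat.Prime 3) := ⟨Nat.prime_three⟩
  rw [orderOf_eq_prime_iff]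
  have h1 : C.reeEl q ^ 3 = 1 ↔ q.1 = 0 := by
    rw [← C.R_cube_eq_one_iff q.1 q.2.1 q.2.2, pow_succ, pow_two]
    constructor
    · intro h
      have h' : ((C.reeEl q * C.reeEl q * C.reeEl q :
          ↥(chevG2.posUnipotent K ⊓ twistedG2 K e)) : GL chevG2.Idx K) = 1 := by
        rw [h]; rfl
      exact Subtype.ext h'
    · intro h
      apply Subtype.ext
      have h' := congrArg (fun z : ↥(chevG2.group K) => (z : GL chevG2.Idx K)) h
      exact h'
  have h2 : C.reeEl q ≠ 1 ↔ q ≠ 0 := by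
    rw [← C.reeEl_zero]
    exact C.reeEl_bij.1.ne_iff
  rw [h1, h2]
  obtain ⟨t, p⟩ := q
  constructor
  · rintro ⟨ht, hq⟩
    refine ⟨ht, ?_⟩
    intro hp0
    apply hq
    simp only at ht hp0
    rw [ht, hp0]
    rfl
  · rintro ⟨ht, hq⟩
    refine ⟨ht, ?_⟩
    intro hq0
    apply hq
    exact congrArg Prod.snd hq0

include C in
/-- the number of elements of order 3 in `U¹` -/
theorem card_order_three [Fintype K] :
    Nat.card {u : ↥(chevG2.posUnipotent K ⊓ twistedG2 K e) // orderOf u = 3} =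
      Fintype.card K ^ 2 - 1 := by
  classical
  have e1 : {q : K × K × K // orderOf (C.reeEl q) = 3} ≃
      {u : ↥(chevG2.posUnipotent K ⊓ twistedG2 K e) // orderOf u = 3} :=
    (Equiv.ofBijective C.reeEl C.reeEl_bij).subtypeEquiv (fun q => Iff.rfl)
  have e2 : {q : K × K × K // orderOf (C.reeEl q) = 3} ≃ {p : K × K // ¬ (p = 0)} :=
    { toFun := fun q => ⟨q.1.2, ((C.orderOf_reeEl q.1).mp q.2).2⟩
      invFun := fun p => ⟨(0, p.1), (C.orderOf_reeEl _).mpr ⟨rfl, p.2⟩⟩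
      left_inv := by
        rintro ⟨⟨t, p⟩, hq⟩
        have ht : t = 0 := ((C.orderOf_reeEl _).mp hq).1
        subst ht
        rfl
      right_inv := fun p => rfl }
  rw [← Nat.card_congr e1, Nat.card_congr e2, Nat.card_eq_fintype_card,
    Fintype.card_subtype_compl, Fintype.card_subtype_eq, Fintype.card_prod, pow_two]

end Ctx

end Cfsg.Agent.H22.Ree
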