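import Cfsg.Agent.H22.GraphExData
import Cfsg.Agent.H22.GraphExTwist
import Cfsg.Agent.H22.ReeAbs
import Cfsg.Prelude.Def_LieTwisted
/-!
The graph-field automorphism of G₂ in characteristic 3 and the Ree words (helper22).
-/
set_option autoImplicit false
open Cfsg Cfsg.Lie

namespace Cfsg.Agent.H22.Ree

open Cfsg.Agent.H22.GEx

theorem cok_8_9 : commOK chevG2 3 8 9 := by decide +kernel
theorem cok_8_10 : commOK chevG2 3 8 10 := by decide +kernel
theorem cok_8_11 : commOK chevG2 3 8 11 := by decide +kernel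
theorem cok_9_10 : commOK chevG2 3 9 10 := by decide +kernel
theorem cok_9_11 : commOK chevG2 3 9 11 := by decide +kernel
theorem cok_10_11 : commOK chevG2 3 10 11 := by decide +kernel
theorem cok_3_2 : commOK chevG2 3 3 2 := by decide +kernel
theorem cok_3_1 : commOK chevG2 3 3 1 := by decide +kernel
theorem cok_3_0 : commOK chevG2 3 3 0 := by decide +kernel
theorem cok_2_1 : commOK chevG2 3 2 1 := by decide +kernel
theorem cok_2_0 : commOK chevG2 3 2 0 := by decide +kernel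
theorem cok_1_0 : commOK chevG2 3 1 0 := by decide +kernel

theorem commTerms_7_6 :
    chevG2.commTerms 7 6 = [(8, -1, 1, 1), (9, 1, 2, 1), (10, 1, 3, 1), (11, 1, 3, 2)] := by
  decide +kernel

theorem commTerms_4_5 :
    chevG2.commTerms 4 5 = [(3, 1, 1, 1), (2, 1, 2, 1), (1, -1, 3, 1), (0, 1, 3, 2)] := by
  decide +kernel

variable (K : Type*) [Field K] [CharP K 3]
variable (θ : chevG2.SteinbergGroup K →* ↥(chevG2.group K))

/-- root elements of the group -/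
def xg (r : ℕ) (t : K) : ↥(chevG2.group K) := θ (chevG2.stGen K r t)

omit [CharP K 3] in
theorem xg_add (r : ℕ) (hr : r < chevG2.nroots) (s t : K) :
    xg K θ r (s + t) = xg K θ r s * xg K θ r t := by
  unfold xg; rw [← map_mul, R1 chevG2 K r hr]

theorem xg_comm (k1 k2 : ℕ) (h : commOK chevG2 3 k1 k2) (s t : K) :
    xg K θ k2 t * xg K θ k1 s = xg K θ k1 s * xg K θ k2 t := by
  unfold xg; rw [← map_mul, ← map_mul]; congr 1
  exact (commute_of_commOK chevG2 K 3 k1 k2 h s t).symm.eq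

omit [CharP K 3] in
theorem swap_pos (s t : K) :
    xg K θ 6 t * xg K θ 7 s = xg K θ 7 s * xg K θ 6 t *
      (xg K θ 8 (1 * s * t) * xg K θ 9 (1 * s ^ 2 * t) * xg K θ 10 (-1 * s ^ 3 * t) *
        xg K θ 11 (-1 * s ^ 3 * t ^ 2)) := by
  have h := R2 chevG2 K 7 6 (by decide) (by decide) (by decide) (by decide) s t
  unfold ChevalleyDatum.commWord at h
  rw [commTerms_7_6] at h
  simp only [List.map_cons, List.map_nil, List.prod_cons, List.prod_nil, mul_one] at h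
  have e8 : ((-1 : ℤ) : K) * (-s) ^ 1 * t ^ 1 = 1 * s * t := by push_cast; ring
  have e9 : ((1 : ℤ) : K) * (-s) ^ 2 * t ^ 1 = 1 * s ^ 2 * t := by push_cast; ring
  have e10 : ((1 : ℤ) : K) * (-s) ^ 3 * t ^ 1 = -1 * s ^ 3 * t := by push_cast; ring
  have e11 : ((1 : ℤ) : K) * (-s) ^ 3 * t ^ 2 = -1 * s ^ 3 * t ^ 2 := by push_cast; ring
  rw [e8, e9, e10, e11] at h
  have h' := congrArg θ h
  simp only [map_mul, map_inv] at h'
  unfold xg
  have h'' : θ (chevG2.stGen K 8 (1 * s * t)) * θ (chevG2.stGen K 9 (1 * s ^ 2 * t)) *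
      θ (chevG2.stGen K 10 (-1 * s ^ 3 * t)) * θ (chevG2.stGen K 11 (-1 * s ^ 3 * t ^ 2)) =
      (θ (chevG2.stGen K 6 t))⁻¹ * (θ (chevG2.stGen K 7 s))⁻¹ * θ (chevG2.stGen K 6 t) *
        θ (chevG2.stGen K 7 s) := by
    rw [h']; simp only [mul_assoc]
  rw [h'']
  group

omit [CharP K 3] in
theorem swap_neg (s t : K) :
    xg K θ 5 (-t) * xg K θ 4 (-s) = xg K θ 4 (-s) * xg K θ 5 (-t) *
      (xg K θ 3 (-(1 * s * t)) * xg K θ 2 (-(1 * s ^ 2 * t)) * xg K θ 1 (-(-1 * s ^ 3 * t)) *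
        xg K θ 0 (-(-1 * s ^ 3 * t ^ 2))) := by
  have h := R2 chevG2 K 4 5 (by decide) (by decide) (by decide) (by decide) (-s) (-t)
  unfold ChevalleyDatum.commWord at h
  rw [commTerms_4_5] at h
  simp only [List.map_cons, List.map_nil, List.prod_cons, List.prod_nil, mul_one] at h
  have e8 : ((1 : ℤ) : K) * (- -s) ^ 1 * (-t) ^ 1 = -(1 * s * t) := by push_cast; ring
  have e9 : ((1 : ℤ) : K) * (- -s) ^ 2 * (-t) ^ 1 = -(1 * s ^ 2 * t) := by push_cast; ring
  have e10 : ((-1 : ℤ) : K) * (- -s) ^ 3 * (-t) ^ 1 = -(-1 * s ^ 3 * t) := by push_cast; ring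
  have e11 : ((1 : ℤ) : K) * (- -s) ^ 3 * (-t) ^ 2 = -(-1 * s ^ 3 * t ^ 2) := by push_cast; ring
  rw [e8, e9, e10, e11] at h
  have h' := congrArg θ h
  simp only [map_mul, map_inv] at h'
  unfold xg
  have h'' : θ (chevG2.stGen K 3 (-(1 * s * t))) * θ (chevG2.stGen K 2 (-(1 * s ^ 2 * t))) *
      θ (chevG2.stGen K 1 (-(-1 * s ^ 3 * t))) * θ (chevG2.stGen K 0 (-(-1 * s ^ 3 * t ^ 2))) =
      (θ (chevG2.stGen K 5 (-t)))⁻¹ * (θ (chevG2.stGen K 4 (-s)))⁻¹ * θ (chevG2.stGen K 5 (-t)) *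
        θ (chevG2.stGen K 4 (-s)) := by
    rw [h']; simp only [mul_assoc]
  rw [h'']
  group

/-- the positive unipotent system -/
def sysPos : USys K ↥(chevG2.group K) where
  xa := xg K θ 7
  xb := xg K θ 6
  y1 := xg K θ 8
  y2 := xg K θ 9
  y3 := xg K θ 10
  y4 := xg K θ 11
  e1 := 1
  e2 := 1
  e3 := -1
  e4 := -1
  xa_add := xg_add K θ 7 (by decide)
  xb_add := xg_add K θ 6 (by decide)
  y1_add := xg_add K θ 8 (by decide)
  y2_add := xg_add K θ 9 (by decide)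
  y3_add := xg_add K θ 10 (by decide)
  y4_add := xg_add K θ 11 (by decide)
  c12 := xg_comm K θ 8 9 cok_8_9
  c13 := xg_comm K θ 8 10 cok_8_10
  c14 := xg_comm K θ 8 11 cok_8_11
  c23 := xg_comm K θ 9 10 cok_9_10
  c24 := xg_comm K θ 9 11 cok_9_11
  c34 := xg_comm K θ 10 11 cok_10_11
  swap := swap_pos K θ

/-- the negative unipotent system (parameters negated) -/
def sysNeg : USys K ↥(chevG2.group K) where
  xa := fun c => xg K θ 4 (-c)
  xb := fun c => xg K θ 5 (-c)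
  y1 := fun c => xg K θ 3 (-c)
  y2 := fun c => xg K θ 2 (-c)
  y3 := fun c => xg K θ 1 (-c)
  y4 := fun c => xg K θ 0 (-c)
  e1 := 1
  e2 := 1
  e3 := -1
  e4 := -1
  xa_add := fun s t => by rw [neg_add]; exact xg_add K θ 4 (by decide) _ _
  xb_add := fun s t => by rw [neg_add]; exact xg_add K θ 5 (by decide) _ _
  y1_add := fun s t => by rw [neg_add]; exact xg_add K θ 3 (by decide) _ _
  y2_add := fun s t => by rw [neg_add]; exact xg_add K θ 2 (by decide) _ _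
  y3_add := fun s t => by rw [neg_add]; exact xg_add K θ 1 (by decide) _ _
  y4_add := fun s t => by rw [neg_add]; exact xg_add K θ 0 (by decide) _ _
  c12 := fun s t => xg_comm K θ 3 2 cok_3_2 _ _
  c13 := fun s t => xg_comm K θ 3 1 cok_3_1 _ _
  c14 := fun s t => xg_comm K θ 3 0 cok_3_0 _ _
  c23 := fun s t => xg_comm K θ 2 1 cok_2_1 _ _
  c24 := fun s t => xg_comm K θ 2 0 cok_2_0 _ _
  c34 := fun s t => xg_comm K θ 1 0 cok_1_0 _ _
  swap := swap_neg K θ

theorem signs_pos : (sysPos K θ).Signs := ⟨rfl, rfl, rfl, rfl⟩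

theorem signs_neg : (sysNeg K θ).Signs := ⟨rfl, rfl, rfl, rfl⟩

variable (τ : K →+* K) (σ : ↥(chevG2.group K) ≃* ↥(chevG2.group K))

theorem tw_pos (hτ : ∀ c : K, τ (τ c) ^ 3 = c)
    (hσ : ∀ (r : ℕ) (t : K), r < chevG2.nroots →
      σ (xg K θ r t) = xg K θ (rhoG2 r) (τ t ^ lamG2 r)) :
    (sysPos K θ).Tw σ.toMonoidHom τ where
  hτ := hτ
  σ_xa := fun s => hσ 7 s (by decide)
  σ_xb := fun t => (hσ 6 t (by decide)).trans (by rw [show lamG2 6 = 1 from rfl, pow_one]; rfl)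
  σ_y1 := fun c => hσ 8 c (by decide)
  σ_y2 := fun c => hσ 9 c (by decide)
  σ_y3 := fun c => (hσ 10 c (by decide)).trans (by rw [show lamG2 10 = 1 from rfl, pow_one]; rfl)
  σ_y4 := fun c => (hσ 11 c (by decide)).trans (by rw [show lamG2 11 = 1 from rfl, pow_one]; rfl)

theorem tw_neg (hτ : ∀ c : K, τ (τ c) ^ 3 = c)
    (hσ : ∀ (r : ℕ) (t : K), r < chevG2.nroots →
      σ (xg K θ r t) = xg K θ (rhoG2 r) (τ t ^ lamG2 r)) :
    (sysNeg K θ).Tw σ.toMonoidHom τ where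
  hτ := hτ
  σ_xa := fun s => (hσ 4 (-s) (by decide)).trans
    (by rw [show lamG2 4 = 3 from rfl, map_neg, Odd.neg_pow (by decide)]; rfl)
  σ_xb := fun t => (hσ 5 (-t) (by decide)).trans
    (by rw [show lamG2 5 = 1 from rfl, pow_one, map_neg]; rfl)
  σ_y1 := fun c => (hσ 3 (-c) (by decide)).trans
    (by rw [show lamG2 3 = 3 from rfl, map_neg, Odd.neg_pow (by decide)]; rfl)
  σ_y2 := fun c => (hσ 2 (-c) (by decide)).trans
    (by rw [show lamG2 2 = 3 from rfl, map_neg, Odd.neg_pow (by decide)]; rfl)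
  σ_y3 := fun c => (hσ 1 (-c) (by decide)).trans
    (by rw [show lamG2 1 = 1 from rfl, pow_one, map_neg]; rfl)
  σ_y4 := fun c => (hσ 0 (-c) (by decide)).trans
    (by rw [show lamG2 0 = 1 from rfl, pow_one, map_neg]; rfl)

end Cfsg.Agent.H22.Ree
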