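import Cfsg.Agent.H22.ReeU
import Cfsg.Agent.H22.ChevTorus
/-!
The diagonal subgroup of `G₂` and its `σ`-fixed points; `H¹ = H ∩ ²G₂` is cyclic (helper22).
-/
set_option autoImplicit false
open Cfsg Cfsg.Lie

namespace Cfsg.Agent.H22.Ree

open Cfsg.Agent.H22.GEx

/-- parameters of a torus element of `G₂` -/
def cc {K : Type*} (s₁ s₂ : K) : ℕ → K := fun i => if i = 0 then s₁ else s₂

/-- the torus matrix `h_a(s₁) h_b(s₂)` -/
def dg {K : Type*} [Field K] (s₁ s₂ : K) : Matrix chevG2.Idx chevG2.Idx K :=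
  Matrix.diagonal (torusDiag chevG2 (cc s₁ s₂))

theorem torusDiag_inr {K : Type*} [Field K] (c : ℕ → K) (s : Fin chevG2.nroots) :
    torusDiag chevG2 c (Sum.inr s) = c 0 ^ chevG2.cartan 0 s * c 1 ^ chevG2.cartan 1 s := by
  show ((List.range 2).map fun i => c i ^ chevG2.cartan i s).prod = _
  simp [List.range_succ]

theorem torusDiag_cc {K : Type*} [Field K] (c : ℕ → K) :
    torusDiag chevG2 c = torusDiag chevG2 (cc (c 0) (c 1)) := by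
  funext j
  rcases j with i | s
  · rfl
  · rw [torusDiag_inr, torusDiag_inr]; rfl

theorem dg_mul {K : Type*} [Field K] (s₁ s₂ t₁ t₂ : K) :
    dg s₁ s₂ * dg t₁ t₂ = dg (s₁ * t₁) (s₂ * t₂) := by
  unfold dg
  rw [Matrix.diagonal_mul_diagonal]
  congr 1
  have h := torusDiag_mul chevG2 (cc s₁ s₂) (cc t₁ t₂)
  have h2 : (fun i => cc s₁ s₂ i * cc t₁ t₂ i) = cc (s₁ * t₁) (s₂ * t₂) := by
    funext i; unfold cc; split_ifs <;> rfl
  rw [h2] at h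
  rw [h]

theorem dg_inj {K : Type*} [Field K] (s₁ s₂ t₁ t₂ : K) (hs1 : s₁ ≠ 0) (hs2 : s₂ ≠ 0) (ht1 : t₁ ≠ 0)
    (ht2 : t₂ ≠ 0) (h : dg s₁ s₂ = dg t₁ t₂) : s₁ = t₁ ∧ s₂ = t₂ := by
  unfold dg at h
  have h0 := Matrix.diagonal_injective h
  have h7 := congrFun h0 (Sum.inr ⟨7, by decide⟩)
  have h6 := congrFun h0 (Sum.inr ⟨6, by decide⟩)
  rw [torusDiag_inr, torusDiag_inr] at h7 h6
  have c07 : chevG2.cartan 0 (7 : ℕ) = 2 := by decide
  have c17 : chevG2.cartan 1 (7 : ℕ) = -1 := by decide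
  have c06 : chevG2.cartan 0 (6 : ℕ) = -3 := by decide
  have c16 : chevG2.cartan 1 (6 : ℕ) = 2 := by decide
  simp only [cc, if_true, one_ne_zero, if_false] at h7 h6
  rw [c07, c17] at h7
  rw [c06, c16] at h6
  have e1 : ∀ a b : K, a ≠ 0 → b ≠ 0 →
      (a ^ (2 : ℤ) * b ^ (-1 : ℤ)) ^ 2 * (a ^ (-3 : ℤ) * b ^ (2 : ℤ)) = a := by
    intro a b ha hb
    rw [zpow_neg, zpow_neg, zpow_ofNat, zpow_ofNat, zpow_ofNat]
    field_simp
  have e2 : ∀ a b : K, a ≠ 0 → b ≠ 0 →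
      (a ^ (2 : ℤ) * b ^ (-1 : ℤ)) ^ 3 * (a ^ (-3 : ℤ) * b ^ (2 : ℤ)) ^ 2 = b := by
    intro a b ha hb
    rw [zpow_neg, zpow_neg, zpow_ofNat, zpow_ofNat, zpow_ofNat]
    field_simp
  constructor
  · rw [← e1 s₁ s₂ hs1 hs2, ← e1 t₁ t₂ ht1 ht2, h7, h6]
  · rw [← e2 s₁ s₂ hs1 hs2, ← e2 t₁ t₂ ht1 ht2, h7, h6]

namespace Ctx

variable {K : Type*} [Field K] [CharP K 3] {e : ℕ} (C : Ctx K e)

/-- the torus element `h_a(s₁) h_b(s₂)` of the group -/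
def hh (s₁ s₂ : K) : ↥(chevG2.group K) := C.θ (hEl chevG2 K 7 s₁ * hEl chevG2 K 6 s₂)

theorem hEl_val (r : ℕ) (hr : r < chevG2.nroots) (hr' : chevG2.neg r < chevG2.nroots) (t : K) :
    ((C.θ (hEl chevG2 K r t) : GL chevG2.Idx K) : Matrix chevG2.Idx chevG2.Idx K) =
      chevG2.hMat K r t := by
  unfold hEl ChevalleyDatum.hMat
  apply theta_word chevG2 K C.θ C.hx
  intro q hq
  unfold ChevalleyDatum.hWord ChevalleyDatum.nWord at hq
  simp only [List.cons_append, List.nil_append, List.mem_cons, List.mem_nil_iff, or_false] at hq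
  rcases hq with rfl | rfl | rfl | rfl | rfl | rfl <;> assumption

omit [CharP K 3] in
theorem hMat_mul_hMat (s₁ s₂ : K) (h1 : s₁ ≠ 0) (h2 : s₂ ≠ 0) :
    chevG2.hMat K 7 s₁ * chevG2.hMat K 6 s₂ = dg s₁ s₂ := by
  have h := torus_wordMat (D := chevG2) (F := K) (by simp) (cc s₁ s₂)
    (fun i _ => by unfold cc; split_ifs <;> assumption)
  have hl : ((List.range chevG2.rank).flatMap fun i => chevG2.hWord (chevG2.simple i) (cc s₁ s₂ i)) =
      chevG2.hWord 7 s₁ ++ chevG2.hWord 6 s₂ := by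
    show ((List.range 2).flatMap fun i => chevG2.hWord (chevG2.simple i) (cc s₁ s₂ i)) = _
    simp [List.range_succ, cc]
    rfl
  rw [hl, wordMat_append] at h
  exact h

theorem hh_val (s₁ s₂ : K) (h1 : s₁ ≠ 0) (h2 : s₂ ≠ 0) :
    ((C.hh s₁ s₂ : GL chevG2.Idx K) : Matrix chevG2.Idx chevG2.Idx K) = dg s₁ s₂ := by
  unfold hh
  rw [map_mul, Subgroup.coe_mul, Units.val_mul, C.hEl_val 7 (by decide) (by decide),
    C.hEl_val 6 (by decide) (by decide), hMat_mul_hMat s₁ s₂ h1 h2]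

theorem σ_hh (s₁ s₂ : K) (h1 : s₁ ≠ 0) (h2 : s₂ ≠ 0) :
    ((C.σ (C.hh s₁ s₂) : GL chevG2.Idx K) : Matrix chevG2.Idx chevG2.Idx K) =
      dg (C.τ s₂) (C.τ s₁ ^ 3) := by
  have hp3 : Fact (Nat.Prime 3) := ⟨Nat.prime_three⟩
  unfold hh
  rw [C.hσψ, map_mul, hEl_map chevG2 K rhoG2 lamG2 3 chk_G2 C.τ C.ψ C.hψ 7 (by decide),
    hEl_map chevG2 K rhoG2 lamG2 3 chk_G2 C.τ C.ψ C.hψ 6 (by decide)]
  have e7 : rhoG2 7 = 6 := rfl
  have e6 : rhoG2 6 = 7 := rfl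
  have l7 : lamG2 7 = 3 := rfl
  have l6 : lamG2 6 = 1 := rfl
  rw [e7, e6, l7, l6, pow_one, map_mul, Subgroup.coe_mul, Units.val_mul,
    C.hEl_val 7 (by decide) (by decide), C.hEl_val 6 (by decide) (by decide)]
  have h1' : C.τ s₁ ^ 3 ≠ 0 := pow_ne_zero _ ((map_ne_zero C.τ).mpr h1)
  have h2' : C.τ s₂ ≠ 0 := (map_ne_zero C.τ).mpr h2
  have hD : chevG2 ∈ [chevG2, chevB2, chevD4, chevF4, chevE6, chevE7, chevE8] := by simp
  have d6 := hMat_eq_diagonal (F := K) chevG2 hD 6 (by decide) _ h1'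
  have d7 := hMat_eq_diagonal (F := K) chevG2 hD 7 (by decide) _ h2'
  rw [← hMat_mul_hMat _ _ h2' h1', d6, d7, Matrix.diagonal_mul_diagonal,
    Matrix.diagonal_mul_diagonal]
  refine congrArg Matrix.diagonal ?_
  funext j
  exact mul_comm _ _

include C in
theorem diagonal_le_group : chevG2.diagonalSubgroup K ≤ chevG2.group K := by
  unfold ChevalleyDatum.diagonalSubgroup
  rw [Subgroup.closure_le]
  rintro g ⟨r, t, hr, ht, hg⟩
  have hr' : chevG2.neg r < chevG2.nroots := by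
    have : ∀ r < 12, chevG2.neg r < 12 := by decide
    exact this r hr
  have hg' : g = (C.θ (hEl chevG2 K r t) : GL chevG2.Idx K) :=
    Units.ext (by rw [hg, C.hEl_val r hr hr'])
  rw [hg']
  exact (C.θ (hEl chevG2 K r t)).2

/-- elements of `H` are torus elements -/
theorem exists_hh (g : GL chevG2.Idx K) (hg : g ∈ chevG2.diagonalSubgroup K) :
    ∃ s₁ s₂ : K, s₁ ≠ 0 ∧ s₂ ≠ 0 ∧ g = (C.hh s₁ s₂ : GL chevG2.Idx K) := by
  obtain ⟨c, hc, hgc⟩ := exists_torusDiag (D := chevG2) (by simp) g hg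
  refine ⟨c 0, c 1, hc 0, hc 1, Units.ext ?_⟩
  rw [hgc, C.hh_val _ _ (hc 0) (hc 1), torusDiag_cc]
  rfl

/-- elements of `H ∩ ²G₂` are of the form `h_a(τ t) h_b(t)` -/
theorem exists_of_mem_H1 (g : GL chevG2.Idx K)
    (hg : g ∈ chevG2.diagonalSubgroup K ⊓ twistedG2 K e) :
    ∃ t : K, t ≠ 0 ∧ g = (C.hh (C.τ t) t : GL chevG2.Idx K) := by
  obtain ⟨hH, hT⟩ := hg
  obtain ⟨s₁, s₂, h1, h2, rfl⟩ := C.exists_hh g hH
  obtain ⟨hx', hfix⟩ := C.fixed_of_mem _ hT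
  have hfix' : C.σ (C.hh s₁ s₂) = C.hh s₁ s₂ := hfix
  have hm := C.σ_hh s₁ s₂ h1 h2
  rw [hfix', C.hh_val s₁ s₂ h1 h2] at hm
  have h1' : C.τ s₁ ^ 3 ≠ 0 := pow_ne_zero _ ((map_ne_zero C.τ).mpr h1)
  have h2' : C.τ s₂ ≠ 0 := (map_ne_zero C.τ).mpr h2
  obtain ⟨a, -⟩ := dg_inj _ _ _ _ h1 h2 h2' h1' hm
  refine ⟨s₂, h2, ?_⟩
  rw [a]

/-- the homomorphism `t ↦ h_a(τ t) h_b(t)` -/
def eta : Kˣ →* GL chevG2.Idx K :=
  MonoidHom.mk' (fun t => (C.hh (C.τ (t : K)) (t : K) : GL chevG2.Idx K)) (by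
    intro t t'
    apply Units.ext
    simp only [Units.val_mul]
    rw [map_mul, C.hh_val _ _ ((map_ne_zero C.τ).mpr t.ne_zero) t.ne_zero,
      C.hh_val _ _ ((map_ne_zero C.τ).mpr t'.ne_zero) t'.ne_zero,
      C.hh_val _ _ (mul_ne_zero ((map_ne_zero C.τ).mpr t.ne_zero) ((map_ne_zero C.τ).mpr t'.ne_zero))
        (mul_ne_zero t.ne_zero t'.ne_zero), dg_mul])

theorem H1_le_range : chevG2.diagonalSubgroup K ⊓ twistedG2 K e ≤ C.eta.range := by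
  intro g hg
  obtain ⟨t, ht, rfl⟩ := C.exists_of_mem_H1 g hg
  exact ⟨Units.mk0 t ht, rfl⟩

include C in
theorem H1_cyclic [Finite K] : IsCyclic ↥(chevG2.diagonalSubgroup K ⊓ twistedG2 K e) := by
  have h1 : IsCyclic ↥C.eta.range :=
    isCyclic_of_surjective C.eta.rangeRestrict C.eta.rangeRestrict_surjective
  exact Subgroup.isCyclic_of_le C.H1_le_range

end Ctx

end Cfsg.Agent.H22.Ree
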