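import Cfsg.Agent.H22.ReeJ
/-!
A word identity in `G₂`: the product `y(s) y⁻(s⁻¹) y(s) · y(-1) y⁻(-1) y(-1)` of Ree words with
`t = v = 0` equals `h_{a+b}(τ s) h_{3a+b}(s)` (helper22).  Here `X = s`, `Y = τ s`.
-/
set_option autoImplicit false
open Cfsg Cfsg.Lie

namespace Cfsg.Agent.H22.Ree

open Cfsg.Agent.H22

/-- the monomial `X` -/
def mX : Poly := [⟨1, 0, 1, 0, 0, 0⟩]
/-- the monomial `Y` -/
def mY : Poly := [⟨1, 0, 0, 0, 1, 0⟩]
/-- the monomial `-X⁻¹` -/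
def mXi : Poly := [⟨0, 1, 0, 1, 0, 0⟩]
/-- the monomial `-Y⁻¹` -/
def mYi : Poly := [⟨0, 1, 0, 0, 0, 1⟩]

/-- the word of Ree words -/
def tW : List (ℕ × Poly) :=
  [(7, []), (6, []), (8, mY), (9, []), (10, mX), (11, []),
   (4, []), (5, []), (3, mYi), (2, []), (1, mXi), (0, []),
   (7, []), (6, []), (8, mY), (9, []), (10, mX), (11, []),
   (7, []), (6, []), (8, kc 0 1), (9, []), (10, kc 0 1), (11, []),
   (4, []), (5, []), (3, kc 1 0), (2, []), (1, kc 1 0), (0, []),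
   (7, []), (6, []), (8, kc 0 1), (9, []), (10, kc 0 1), (11, [])]

/-- the word `h_{a+b}(Y) h_{3a+b}(X)` -/
def tH : List (ℕ × Poly) :=
  [(8, mY), (3, mYi), (8, mY), (8, kc 0 1), (3, kc 1 0), (8, kc 0 1),
   (10, mX), (1, mXi), (10, mX), (10, kc 0 1), (1, kc 1 0), (10, kc 0 1)]

theorem tW_check : wordEqCheckN chevG2 64 32 64 32 tW tH = true := by decide +kernel

theorem tW_eq {F : Type*} [Field F] (ρ : Val F) :
    chevG2.wordMat F (evalWord ρ tW) = chevG2.wordMat F (evalWord ρ tH) :=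
  wordMat_eq_of_checkN tablesCheck_G2 maskCheck_G2 64 32 64 32 tW tH tW_check ρ

end Cfsg.Agent.H22.Ree
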