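import Cfsg.Agent.H22.ReeH
import Cfsg.Agent.H22.ReeT
/-!
`H¹ = H ∩ ²G₂` is the full group of `σ`-fixed points of `H`, of order `q - 1` (helper22).
-/
set_option autoImplicit false
open Cfsg Cfsg.Lie

namespace Cfsg.Agent.H22.Ree

open Cfsg.Agent.H22 Cfsg.Agent.H22.GEx

theorem kc_eval {F : Type*} [Field F] (ρ : Val F) (a b : ℕ) :
    Poly.eval ρ (kc a b) = (a : F) - (b : F) := by
  simp [kc, Mono.eval_const]

theorem mX_eval {F : Type*} [Field F] (ρ : Val F) : Poly.eval ρ mX = ρ.x := by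
  simp [mX, Mono.eval, Mono.mon]

theorem mY_eval {F : Type*} [Field F] (ρ : Val F) : Poly.eval ρ mY = ρ.y := by
  simp [mY, Mono.eval, Mono.mon]

theorem mXi_eval {F : Type*} [Field F] (ρ : Val F) : Poly.eval ρ mXi = -ρ.x⁻¹ := by
  simp [mXi, Mono.eval, Mono.mon]

theorem mYi_eval {F : Type*} [Field F] (ρ : Val F) : Poly.eval ρ mYi = -ρ.y⁻¹ := by
  simp [mYi, Mono.eval, Mono.mon]

theorem jd_eq_dg {K : Type*} [Field K] :
    Matrix.diagonal (fun j => ((jd (enc chevG2 j) : ℤ) : K)) = dg (-1 : K) (-1) := by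
  unfold dg
  refine congrArg Matrix.diagonal ?_
  funext j
  have hpar : ∀ n : ℤ, (-1 : K) ^ n = ((if n % 2 = 0 then 1 else -1 : ℤ) : K) := by
    intro n
    rcases Int.even_or_odd n with h | h
    · rw [Even.neg_one_zpow h, if_pos (Int.even_iff.mp h)]; simp
    · rw [Odd.neg_one_zpow h, if_neg (by rw [Int.odd_iff.mp h]; decide)]; simp
  have htab : ∀ s < 12, jd (2 + s) =
      (if chevG2.cartan 0 s % 2 = 0 then 1 else -1) * (if chevG2.cartan 1 s % 2 = 0 then 1 else -1) := by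
    decide +kernel
  rcases j with i | s
  · have : ∀ i < 2, jd i = 1 := by decide
    show ((jd i.val : ℤ) : K) = 1
    rw [this i.val i.isLt]; simp
  · rw [torusDiag_inr]
    show ((jd (2 + s.val) : ℤ) : K) = _
    have c0 : cc (-1 : K) (-1) 0 = -1 := rfl
    have c1 : cc (-1 : K) (-1) 1 = -1 := rfl
    rw [htab s.val s.isLt, c0, c1, hpar, hpar, Int.cast_mul]

theorem hMat_8_10 {K : Type*} [Field K] (c₁ c₂ : K) (h1 : c₁ ≠ 0) (h2 : c₂ ≠ 0) :
    chevG2.hMat K 8 c₁ * chevG2.hMat K 10 c₂ = dg (c₁ * c₂) (c₁ ^ 3 * c₂) := by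
  have hD : chevG2 ∈ [chevG2, chevB2, chevD4, chevF4, chevE6, chevE7, chevE8] := by simp
  have p8 : ∀ r < 12, pairZ chevG2 8 r = chevG2.cartan 0 r + 3 * chevG2.cartan 1 r := by
    decide +kernel
  have p10 : ∀ r < 12, pairZ chevG2 10 r = chevG2.cartan 0 r + chevG2.cartan 1 r := by
    decide +kernel
  have d8 := hMat_eq_diagonal (F := K) chevG2 hD 8 (by decide) c₁ h1
  have d10 := hMat_eq_diagonal (F := K) chevG2 hD 10 (by decide) c₂ h2
  rw [d8, d10, Matrix.diagonal_mul_diagonal]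
  unfold dg
  refine congrArg Matrix.diagonal ?_
  funext j
  rcases j with i | r
  · show (1 : K) * 1 = 1
    rw [mul_one]
  · rw [torusDiag_inr]
    show c₁ ^ pairZ chevG2 8 r * c₂ ^ pairZ chevG2 10 r = _
    have c0 : cc (c₁ * c₂) (c₁ ^ 3 * c₂) 0 = c₁ * c₂ := rfl
    have c1 : cc (c₁ * c₂) (c₁ ^ 3 * c₂) 1 = c₁ ^ 3 * c₂ := rfl
    rw [p8 r r.isLt, p10 r r.isLt, c0, c1, zpow_add₀ h1, zpow_add₀ h2, mul_zpow, mul_zpow,
      zpow_mul, zpow_ofNat]
    ring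

namespace Ctx

variable {K : Type*} [Field K] [CharP K 3] {e : ℕ} (C : Ctx K e)

theorem RP_mem (t u v : K) : (C.SP.R C.τ t u v : GL chevG2.Idx K) ∈ twistedG2 K e :=
  Subgroup.subset_closure ⟨reeWordU e t u v, ⟨t, u, v, Or.inl rfl⟩, C.R_val t u v⟩

theorem RN_mem (t u v : K) : (C.SN.R C.τ t u v : GL chevG2.Idx K) ∈ twistedG2 K e :=
  Subgroup.subset_closure ⟨reeWordV e t u v, ⟨t, u, v, Or.inr rfl⟩, C.RN_val t u v⟩

theorem RP_val' (t u v : K) :
    ((C.SP.R C.τ t u v : GL chevG2.Idx K) : Matrix chevG2.Idx chevG2.Idx K) =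
      chevG2.wordMat K [(7, C.τ t), (6, t), (8, C.τ t * t + C.τ u), (9, C.τ t ^ 2 * t + C.τ v),
        (10, u), (11, v)] := by
  unfold USys.R
  rw [C.E'_val]

theorem RN_val' (t u v : K) :
    ((C.SN.R C.τ t u v : GL chevG2.Idx K) : Matrix chevG2.Idx chevG2.Idx K) =
      chevG2.wordMat K [(4, -C.τ t), (5, -t), (3, -(C.τ t * t + C.τ u)),
        (2, -(C.τ t ^ 2 * t + C.τ v)), (1, -u), (0, -v)] := by
  unfold USys.R
  rw [C.EN'_val]

/-- the involution `h_a(-1) h_b(-1)` lies in `²G₂` -/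
theorem hh_neg_one_mem : (C.hh (-1) (-1) : GL chevG2.Idx K) ∈ twistedG2 K e := by
  have hm : (C.hh (-1) (-1) : GL chevG2.Idx K) =
      (C.SP.R C.τ 0 0 1 : GL chevG2.Idx K) * (C.SN.R C.τ 0 0 1 : GL chevG2.Idx K) *
        (C.SP.R C.τ 1 1 1 : GL chevG2.Idx K) * (C.SN.R C.τ (-1) 1 (-1) : GL chevG2.Idx K) := by
    apply Units.ext
    rw [C.hh_val _ _ (neg_ne_zero.mpr one_ne_zero) (neg_ne_zero.mpr one_ne_zero), Units.val_mul,
      Units.val_mul, Units.val_mul, C.RP_val', C.RN_val', C.RP_val', C.RN_val',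
      ← wordMat_append, ← wordMat_append, ← wordMat_append, ← jd_eq_dg,
      ← jW_eq (⟨1, 1, one_ne_zero, one_ne_zero⟩ : Val K)]
    congr 1
    simp only [evalWord, jW, List.map_cons, List.map_nil, kc_eval, Poly.eval_nil, map_zero, map_one,
      map_neg, List.cons_append, List.nil_append]
    norm_num
  rw [hm]
  exact mul_mem (mul_mem (mul_mem (C.RP_mem _ _ _) (C.RN_mem _ _ _)) (C.RP_mem _ _ _)) (C.RN_mem _ _ _)

/-- the elements `h_{a+b}(τ s) h_{3a+b}(s)` lie in `²G₂` -/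
theorem hh_T_mem (s : K) (hs : s ≠ 0) :
    (C.hh (C.τ s * s) (C.τ s ^ 3 * s) : GL chevG2.Idx K) ∈ twistedG2 K e := by
  have hτs : C.τ s ≠ 0 := (map_ne_zero C.τ).mpr hs
  have hm : (C.hh (C.τ s * s) (C.τ s ^ 3 * s) : GL chevG2.Idx K) =
      (C.SP.R C.τ 0 s 0 : GL chevG2.Idx K) * (C.SN.R C.τ 0 s⁻¹ 0 : GL chevG2.Idx K) *
        (C.SP.R C.τ 0 s 0 : GL chevG2.Idx K) * ((C.SP.R C.τ 0 (-1) 0 : GL chevG2.Idx K) *
        (C.SN.R C.τ 0 (-1) 0 : GL chevG2.Idx K) * (C.SP.R C.τ 0 (-1) 0 : GL chevG2.Idx K)) := by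
    apply Units.ext
    rw [C.hh_val _ _ (mul_ne_zero hτs hs) (mul_ne_zero (pow_ne_zero _ hτs) hs)]
    simp only [Units.val_mul]
    rw [C.RP_val', C.RN_val', C.RP_val', C.RN_val', ← wordMat_append, ← wordMat_append,
      ← wordMat_append, ← wordMat_append, ← wordMat_append, ← hMat_8_10 _ _ hτs hs]
    have e1 : chevG2.hMat K 8 (C.τ s) * chevG2.hMat K 10 s =
        chevG2.wordMat K (evalWord (⟨s, C.τ s, hs, hτs⟩ : Val K) tH) := by
      unfold ChevalleyDatum.hMat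
      rw [← wordMat_append]
      congr 1
      simp only [evalWord, tH, List.map_cons, List.map_nil, kc_eval, mX_eval, mY_eval, mXi_eval,
        mYi_eval, ChevalleyDatum.hWord, ChevalleyDatum.nWord, List.cons_append, List.nil_append]
      have n8 : chevG2.neg 8 = 3 := by decide
      have n10 : chevG2.neg 10 = 1 := by decide
      rw [n8, n10]
      norm_num
    rw [e1, ← tW_eq]
    congr 1
    simp only [evalWord, tW, List.map_cons, List.map_nil, kc_eval, mX_eval, mY_eval, mXi_eval,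
      mYi_eval, Poly.eval_nil, map_zero, map_one, map_neg, map_inv₀, List.cons_append,
      List.nil_append]
    norm_num
  rw [hm]
  exact mul_mem (mul_mem (mul_mem (C.RP_mem _ _ _) (C.RN_mem _ _ _)) (C.RP_mem _ _ _))
    (mul_mem (mul_mem (C.RP_mem _ _ _) (C.RN_mem _ _ _)) (C.RP_mem _ _ _))

/-- the elements `h_a(τ(x²)) h_b(x²)` lie in `²G₂` -/
theorem hh_sq_mem (x : K) (hx : x ≠ 0) :
    (C.hh (C.τ (x ^ 2)) (x ^ 2) : GL chevG2.Idx K) ∈ twistedG2 K e := by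
  have hτx : C.τ x ≠ 0 := (map_ne_zero C.τ).mpr hx
  obtain ⟨s, hs_def⟩ : ∃ s : K, s = C.τ x ^ 3 * x⁻¹ := ⟨_, rfl⟩
  have hs : s ≠ 0 := by rw [hs_def]; exact mul_ne_zero (pow_ne_zero _ hτx) (inv_ne_zero hx)
  have h1 : C.τ s ^ 3 * s = x ^ 2 := by
    have : C.τ s = C.τ (C.τ x) ^ 3 * (C.τ x)⁻¹ := by
      rw [hs_def, map_mul, map_pow, map_inv₀]
    rw [this, mul_pow, C.hτ x, hs_def]
    field_simp
  have h2 : C.τ s * s = C.τ (x ^ 2) := by
    rw [← h1, map_mul, map_pow, C.hτ s, mul_comm]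
  have h := C.hh_T_mem s hs
  rwa [h1, h2] at h

end Ctx

end Cfsg.Agent.H22.Ree
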