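import Cfsg.Agent.H22.ReeH1
/-!
`|H ∩ ²G₂(q)| = q - 1` (helper22).
-/
set_option autoImplicit false
open Cfsg Cfsg.Lie

namespace Cfsg.Agent.H22.Ree

open Cfsg.Agent.H22 Cfsg.Agent.H22.GEx

theorem card_mod_four (m : ℕ) : 3 ^ (2 * m + 1) % 4 = 3 := by
  rw [pow_succ, pow_mul, Nat.mul_mod, Nat.pow_mod]
  norm_num

/-- in a field with `3^(2m+1)` elements every non-zero element is `± a square` -/
theorem sq_or_neg_sq {K : Type*} [Field K] [CharP K 3] [Fintype K] {m : ℕ}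
    (hK : Fintype.card K = 3 ^ (2 * m + 1)) (t : K) (ht : t ≠ 0) :
    ∃ x : K, x ≠ 0 ∧ (t = x ^ 2 ∨ t = -x ^ 2) := by
  have hch : ringChar K ≠ 2 := by
    rw [ringChar.eq K 3]; decide
  have hodd : Odd (Fintype.card K / 2) := by
    rw [hK, Nat.odd_iff]
    have := card_mod_four m
    omega
  rcases FiniteField.pow_dichotomy hch ht with h | h
  · obtain ⟨x, hx⟩ := (FiniteField.isSquare_iff hch ht).mpr h
    have hx0 : x ≠ 0 := by
      rintro rfl
      rw [mul_zero] at hx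
      exact ht hx
    exact ⟨x, hx0, Or.inl (by rw [hx, pow_two])⟩
  · have h' : (-t) ^ (Fintype.card K / 2) = 1 := by
      rw [Odd.neg_pow hodd, h, _root_.neg_neg]
    obtain ⟨x, hx⟩ := (FiniteField.isSquare_iff hch (neg_ne_zero.mpr ht)).mpr h'
    have hx0 : x ≠ 0 := by
      rintro rfl
      rw [mul_zero] at hx
      exact ht (neg_eq_zero.mp hx)
    exact ⟨x, hx0, Or.inr (by rw [pow_two, ← hx, _root_.neg_neg])⟩

namespace Ctx

variable {K : Type*} [Field K] [CharP K 3] {e : ℕ} (C : Ctx K e)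

/-- all `σ`-fixed torus elements lie in `²G₂` -/
theorem hh_mem [Fintype K] {m : ℕ} (hK : Fintype.card K = 3 ^ (2 * m + 1)) (t : K) (ht : t ≠ 0) :
    (C.hh (C.τ t) t : GL chevG2.Idx K) ∈ twistedG2 K e := by
  obtain ⟨x, hx, h | h⟩ := sq_or_neg_sq hK t ht
  · rw [h]; exact C.hh_sq_mem x hx
  · have hx2 : x ^ 2 ≠ 0 := pow_ne_zero _ hx
    have hτx2 : C.τ (x ^ 2) ≠ 0 := (map_ne_zero C.τ).mpr hx2
    have hm : (C.hh (C.τ t) t : GL chevG2.Idx K) =
        (C.hh (-1) (-1) : GL chevG2.Idx K) * (C.hh (C.τ (x ^ 2)) (x ^ 2) : GL chevG2.Idx K) := by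
      apply Units.ext
      rw [Units.val_mul, C.hh_val _ _ ((map_ne_zero C.τ).mpr ht) ht,
        C.hh_val _ _ (neg_ne_zero.mpr one_ne_zero) (neg_ne_zero.mpr one_ne_zero),
        C.hh_val _ _ hτx2 hx2, dg_mul, h, map_neg, neg_one_mul, neg_one_mul]
    rw [hm]
    exact mul_mem C.hh_neg_one_mem (C.hh_sq_mem x hx)

theorem hh_mem_H (s₁ s₂ : K) (h1 : s₁ ≠ 0) (h2 : s₂ ≠ 0) :
    (C.hh s₁ s₂ : GL chevG2.Idx K) ∈ chevG2.diagonalSubgroup K := by
  unfold hh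
  rw [map_mul, Subgroup.coe_mul]
  refine mul_mem ?_ ?_
  · exact Subgroup.subset_closure ⟨7, s₁, by decide, h1, C.hEl_val 7 (by decide) (by decide) s₁⟩
  · exact Subgroup.subset_closure ⟨6, s₂, by decide, h2, C.hEl_val 6 (by decide) (by decide) s₂⟩

theorem eta_apply (t : Kˣ) : C.eta t = (C.hh (C.τ (t : K)) (t : K) : GL chevG2.Idx K) := rfl

theorem eta_injective : Function.Injective C.eta := by
  intro t t' h
  rw [C.eta_apply, C.eta_apply] at h
  have h' : ((C.hh (C.τ (t : K)) (t : K) : GL chevG2.Idx K) : Matrix chevG2.Idx chevG2.Idx K) =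
      ((C.hh (C.τ (t' : K)) (t' : K) : GL chevG2.Idx K) : Matrix chevG2.Idx chevG2.Idx K) :=
    congrArg (fun g : GL chevG2.Idx K => (g : Matrix chevG2.Idx chevG2.Idx K)) h
  rw [C.hh_val _ _ ((map_ne_zero C.τ).mpr t.ne_zero) t.ne_zero,
    C.hh_val _ _ ((map_ne_zero C.τ).mpr t'.ne_zero) t'.ne_zero] at h'
  exact Units.ext (dg_inj _ _ _ _ ((map_ne_zero C.τ).mpr t.ne_zero) t.ne_zero
    ((map_ne_zero C.τ).mpr t'.ne_zero) t'.ne_zero h').2

theorem H1_eq_range [Fintype K] {m : ℕ} (hK : Fintype.card K = 3 ^ (2 * m + 1)) :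
    chevG2.diagonalSubgroup K ⊓ twistedG2 K e = C.eta.range := by
  apply le_antisymm C.H1_le_range
  rintro g ⟨t, rfl⟩
  rw [C.eta_apply]
  exact ⟨C.hh_mem_H _ _ ((map_ne_zero C.τ).mpr t.ne_zero) t.ne_zero, C.hh_mem hK t t.ne_zero⟩

include C in
theorem card_H1 [Fintype K] {m : ℕ} (hK : Fintype.card K = 3 ^ (2 * m + 1)) :
    Nat.card ↥(chevG2.diagonalSubgroup K ⊓ twistedG2 K e) = 3 ^ (2 * m + 1) - 1 := by
  rw [C.H1_eq_range hK, ← Nat.card_congr (MonoidHom.ofInjective C.eta_injective).toEquiv,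
    Nat.card_units, Nat.card_eq_fintype_card, hK]

end Ctx

end Cfsg.Agent.H22.Ree
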