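import Cfsg.Agent.H22.ChevNorm
import Cfsg.Agent.H22.ChevData
import Cfsg.Prelude.Def_ChevG2
/-!
A word identity in `G₂` over the prime field of characteristic 3, checked column by column
modulo 3 (helper22): the involution `h_a(-1) h_b(-1)` is a product of four Ree words.
-/
set_option autoImplicit false
open Cfsg Cfsg.Lie

namespace Cfsg.Agent.H22.Ree

open Cfsg.Agent.H22

section Mod3
variable (D : ChevalleyDatum) {F : Type*} [Field F]

/-- the entry lies on the diagonal position `(k, k)` -/
def isDiagE (k : ℕ) (e : Ent) : Bool := decide (e.row = k ∧ e.col = k)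

/-- the integer coefficient of a constant entry -/
def coefE (e : Ent) : ℤ := (e.m.cp : ℤ) - (e.m.cn : ℤ)

/-- all entries are constants and the off-diagonal ones vanish modulo 3 -/
def off3 (k : ℕ) (L : List Ent) : Bool :=
  L.all fun e => decide (e.m.ap = 0 ∧ e.m.an = 0 ∧ e.m.bp = 0 ∧ e.m.bn = 0) &&
    (isDiagE k e || decide (coefE e % 3 = 0))

/-- the sum of the diagonal coefficients -/
def diagSum (k : ℕ) (L : List Ent) : ℤ := ((L.filter (isDiagE k)).map coefE).sum

/-- the column check modulo 3 -/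
def col3 (k : ℕ) (d : ℤ) (L : List Ent) : Bool := off3 k L && decide ((diagSum k L - d) % 3 = 0)

theorem entsEval_off3 [CharP F 3] (ρ : Val F) (k : ℕ) (L : List Ent) (h : off3 k L = true) :
    entsEval D ρ L = ((diagSum k L : ℤ) : F) • bmat D F k k := by
  induction L with
  | nil => simp [diagSum]
  | cons e L ih =>
    unfold off3 at h
    rw [List.all_cons, Bool.and_eq_true, Bool.and_eq_true] at h
    obtain ⟨⟨h1, h2⟩, h3⟩ := h
    have ih' := ih h3
    rw [entsEval_cons, ih']
    have h1' := of_decide_eq_true h1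
    obtain ⟨a1, a2, a3, a4⟩ := h1'
    have hev : e.m.eval ρ = ((coefE e : ℤ) : F) := by
      unfold Mono.eval Mono.mon coefE
      rw [a1, a2, a3, a4]
      push_cast
      simp
    unfold Ent.eval
    rw [hev]
    by_cases hd : isDiagE k e = true
    · have hd' := of_decide_eq_true hd
      have hs : diagSum k (e :: L) = coefE e + diagSum k L := by
        unfold diagSum
        rw [List.filter_cons_of_pos hd, List.map_cons, List.sum_cons]
      rw [hs, hd'.1, hd'.2, Int.cast_add, add_smul]
    · have hd' : isDiagE k e = false := by simpa using hd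
      rw [hd', Bool.false_or] at h2
      have h2' := of_decide_eq_true h2
      have hz : ((coefE e : ℤ) : F) = 0 :=
        (CharP.intCast_eq_zero_iff F 3 _).mpr (Int.dvd_of_emod_eq_zero h2')
      have hs : diagSum k (e :: L) = diagSum k L := by
        unfold diagSum
        rw [List.filter_cons_of_neg (by simpa using hd')]
      rw [hs, hz, zero_smul, zero_add]

theorem entsEval_col3 [CharP F 3] (ρ : Val F) (k : ℕ) (d : ℤ) (L : List Ent) (h : col3 k d L = true) :
    entsEval D ρ L = ((d : ℤ) : F) • bmat D F k k := by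
  unfold col3 at h
  rw [Bool.and_eq_true] at h
  obtain ⟨h1, h2⟩ := h
  have h2' := of_decide_eq_true h2
  rw [entsEval_off3 D ρ k L h1]
  congr 1
  rw [CharP.intCast_eq_intCast F 3]
  exact (Int.modEq_iff_dvd.mpr (Int.dvd_of_emod_eq_zero h2')).symm

variable {D}

/-- a word with constant parameters is a diagonal matrix, checked modulo 3 -/
theorem wordMat_eq_diag3 [CharP F 3] (h : tablesCheck D = true) (w : List (ℕ × Poly)) (d : ℕ → ℤ)
    (hc : ∀ k < D.rank + D.nroots, col3 k (d k) (leftWordN D w [unitE k]) = true) (ρ : Val F) :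
    D.wordMat F (evalWord ρ w) = Matrix.diagonal (fun j => ((d (enc D j) : ℤ) : F)) := by
  apply mat_eq_of_mul_bmat
  intro k hk
  obtain ⟨j, rfl⟩ := exists_enc_eq D k hk
  rw [diagonal_mul_bmat, ← entsEval_unitE D ρ (enc D j), ← leftWordN_sound h]
  rw [entsEval_col3 D ρ (enc D j) (d (enc D j)) _ (hc _ hk), entsEval_unitE]

end Mod3

/-- the constant polynomial `cp - cn` -/
def kc (cp cn : ℕ) : Poly := [Mono.const cp cn]

/-- the word `U(0,0,1) V(0,0,1) U(1,1,1) V(-1,1,-1)` of Ree words -/
def jW : List (ℕ × Poly) :=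
  [(7, []), (6, []), (8, []), (9, kc 1 0), (10, []), (11, kc 1 0),
   (4, []), (5, []), (3, []), (2, kc 0 1), (1, []), (0, kc 0 1),
   (7, kc 1 0), (6, kc 1 0), (8, kc 2 0), (9, kc 2 0), (10, kc 1 0), (11, kc 1 0),
   (4, kc 1 0), (5, kc 1 0), (3, kc 0 2), (2, kc 2 0), (1, kc 0 1), (0, kc 1 0)]

/-- the diagonal of `h_a(-1) h_b(-1)` -/
def jd (k : ℕ) : ℤ := [1, 1, -1, 1, -1, 1, -1, -1, -1, -1, 1, -1, 1, -1].getD k 0

theorem jW_check : ∀ k < chevG2.rank + chevG2.nroots,
    col3 k (jd k) (leftWordN chevG2 jW [unitE k]) = true := by decide +kernel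

theorem jW_eq {F : Type*} [Field F] [CharP F 3] (ρ : Val F) :
    chevG2.wordMat F (evalWord ρ jW) = Matrix.diagonal (fun j => ((jd (enc chevG2 j) : ℤ) : F)) :=
  wordMat_eq_diag3 tablesCheck_G2 jW jd jW_check ρ

end Cfsg.Agent.H22.Ree
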