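import Cfsg.Agent.H22.ReeC
/-!
The element `n₀ = y(1) y⁻(1) y(1)` of `²G₂` inverting all roots, and the perfectness of
`²G₂(q)`, `q > 3` (helper22).
-/
set_option autoImplicit false
open Cfsg Cfsg.Lie

namespace Cfsg.Agent.H22.Ree

open Cfsg.Agent.H22 Cfsg.Agent.H22.GEx
open scoped commutatorElement

/-- the monomial `-X` -/
def mXn : Poly := [⟨0, 1, 1, 0, 0, 0⟩]

theorem mXn_eval {F : Type*} [Field F] (ρ : Val F) : Poly.eval ρ mXn = -ρ.x := by
  simp [mXn, Mono.eval, Mono.mon]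

/-- the word `y(1) y⁻(1) y(1)` of Ree words -/
def n0W : List (ℕ × Poly) :=
  [(7, []), (6, []), (8, kc 1 0), (9, []), (10, kc 1 0), (11, []),
   (4, []), (5, []), (3, kc 0 1), (2, []), (1, kc 0 1), (0, []),
   (7, []), (6, []), (8, kc 1 0), (9, []), (10, kc 1 0), (11, [])]

theorem n0W_check : ∀ r < 12,
    wordEqCheckN chevG2 64 32 64 32 (n0W ++ [(r, mX)]) ((11 - r, mXn) :: n0W) = true := by
  decide +kernel

theorem n0W_conj {F : Type*} [Field F] (ρ : Val F) (r : ℕ) (hr : r < 12) :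
    chevG2.wordMat F (evalWord ρ n0W) * chevG2.x F r ρ.x =
      chevG2.x F (11 - r) (-ρ.x) * chevG2.wordMat F (evalWord ρ n0W) := by
  have h := wordMat_eq_of_checkN tablesCheck_G2 maskCheck_G2 64 32 64 32 _ _ (n0W_check r hr) ρ
  have e1 : evalWord ρ (n0W ++ [(r, mX)]) = evalWord ρ n0W ++ [(r, ρ.x)] := by
    simp [evalWord, mX_eval]
  have e2 : evalWord ρ ((11 - r, mXn) :: n0W) = [(11 - r, -ρ.x)] ++ evalWord ρ n0W := by
    simp [evalWord, mXn_eval]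
  have s1 : ∀ (a : ℕ) (c : F), chevG2.wordMat F [(a, c)] = chevG2.x F a c := by
    intro a c; simp [ChevalleyDatum.wordMat]
  rw [e1, e2, wordMat_append, wordMat_append, s1, s1] at h
  exact h

namespace Ctx

variable {K : Type*} [Field K] [CharP K 3] {e : ℕ} (C : Ctx K e)

/-- the element `n₀ = y(1) y⁻(1) y(1)` -/
def n0 : ↥(chevG2.group K) := C.SP.R C.τ 0 1 0 * C.SN.R C.τ 0 1 0 * C.SP.R C.τ 0 1 0

theorem n0_val (ρ : Val K) :
    ((C.n0 : GL chevG2.Idx K) : Matrix chevG2.Idx chevG2.Idx K) =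
      chevG2.wordMat K (evalWord ρ n0W) := by
  unfold n0
  simp only [Subgroup.coe_mul, Units.val_mul]
  rw [C.RP_val', C.RN_val', ← wordMat_append, ← wordMat_append]
  congr 1
  simp only [evalWord, n0W, List.map_cons, List.map_nil, kc_eval, Poly.eval_nil, map_zero, map_one,
    List.cons_append, List.nil_append]
  norm_num

theorem n0_mem : (C.n0 : GL chevG2.Idx K) ∈ twistedG2 K e := by
  unfold n0
  simp only [Subgroup.coe_mul]
  exact mul_mem (mul_mem (C.RP_mem _ _ _) (C.RN_mem _ _ _)) (C.RP_mem _ _ _)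

theorem xg_zero (r : ℕ) (hr : r < chevG2.nroots) : xg K C.θ r 0 = 1 := by
  have h := xg_add K C.θ r hr 0 0
  rw [add_zero] at h
  exact mul_eq_left.mp h.symm

theorem n0_mul_xg (r : ℕ) (hr : r < 12) (c : K) :
    C.n0 * xg K C.θ r c = xg K C.θ (11 - r) (-c) * C.n0 := by
  have hr' : r < chevG2.nroots := hr
  have hr'' : 11 - r < chevG2.nroots := by show 11 - r < 12; omega
  by_cases hc : c = 0
  · subst hc
    rw [neg_zero, C.xg_zero r hr', C.xg_zero (11 - r) hr'', mul_one, one_mul]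
  · apply Subtype.ext
    apply Units.ext
    rw [Subgroup.coe_mul, Units.val_mul, Subgroup.coe_mul, Units.val_mul, C.xg_val r hr',
      C.xg_val _ hr'', C.n0_val ⟨c, 1, hc, one_ne_zero⟩]
    exact n0W_conj ⟨c, 1, hc, one_ne_zero⟩ r hr

theorem xg_mul_n0 (r r' : ℕ) (hr : r < 12) (hrr : r' = 11 - r) (c : K) :
    xg K C.θ r (-c) * C.n0 = C.n0 * xg K C.θ r' c := by
  have h := C.n0_mul_xg r' (by omega) c
  have e1 : 11 - r' = r := by omega
  rw [e1] at h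
  exact h.symm

theorem EN'_mul_n0 (s t c8 c9 c10 c11 : K) :
    C.SN.E' s t c8 c9 c10 c11 * C.n0 = C.n0 * C.SP.E' s t c8 c9 c10 c11 := by
  have b : ∀ (r r' : ℕ) (hr : r < 12) (hrr : r' = 11 - r) (c : K) (z : ↥(chevG2.group K)),
      xg K C.θ r (-c) * (C.n0 * z) = C.n0 * (xg K C.θ r' c * z) := by
    intro r r' hr hrr c z
    rw [← mul_assoc, C.xg_mul_n0 r r' hr hrr, mul_assoc]
  show xg K C.θ 4 (-s) * xg K C.θ 5 (-t) *
      (xg K C.θ 3 (-c8) * xg K C.θ 2 (-c9) * xg K C.θ 1 (-c10) * xg K C.θ 0 (-c11)) * C.n0 =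
    C.n0 * (xg K C.θ 7 s * xg K C.θ 6 t *
      (xg K C.θ 8 c8 * xg K C.θ 9 c9 * xg K C.θ 10 c10 * xg K C.θ 11 c11))
  simp only [mul_assoc]
  rw [C.xg_mul_n0 0 11 (by norm_num) (by norm_num), b 1 10 (by norm_num) (by norm_num),
    b 2 9 (by norm_num) (by norm_num), b 3 8 (by norm_num) (by norm_num),
    b 5 6 (by norm_num) (by norm_num), b 4 7 (by norm_num) (by norm_num)]

/-- the negative Ree words are the `n₀`-conjugates of the positive ones -/
theorem RN_eq_conj (t u v : K) : C.SN.R C.τ t u v = C.n0 * C.SP.R C.τ t u v * C.n0⁻¹ := by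
  unfold USys.R
  rw [eq_mul_inv_iff_mul_eq]
  exact C.EN'_mul_n0 _ _ _ _ _ _

theorem conj_mem_U (s₁ s₂ : K) (h1 : s₁ ≠ 0) (h2 : s₂ ≠ 0) (u : GL chevG2.Idx K)
    (hu : u ∈ chevG2.posUnipotent K) :
    (C.hh s₁ s₂ : GL chevG2.Idx K) * u * (C.hh s₁ s₂ : GL chevG2.Idx K)⁻¹ ∈
      chevG2.posUnipotent K := by
  obtain ⟨c6, c7, c8, c9, c10, c11, rfl⟩ := C.exists_E u hu
  have h := C.hh_mul_E s₁ s₂ h1 h2 c6 c7 c8 c9 c10 c11
  have h' : (C.hh s₁ s₂ : GL chevG2.Idx K) * (C.SP.E c6 c7 c8 c9 c10 c11 : GL chevG2.Idx K) *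
      (C.hh s₁ s₂ : GL chevG2.Idx K)⁻¹ =
      (C.SP.E (chi s₁ s₂ 6 * c6) (chi s₁ s₂ 7 * c7) (chi s₁ s₂ 8 * c8) (chi s₁ s₂ 9 * c9)
        (chi s₁ s₂ 10 * c10) (chi s₁ s₂ 11 * c11) : GL chevG2.Idx K) := by
    rw [mul_inv_eq_iff_eq_mul]
    exact congrArg Subtype.val h
  rw [h']
  exact C.E_mem_U _ _ _ _ _ _

include C in
/-- for `q > 3` every element of `U ∩ ²G₂` is a commutator in `²G₂` -/
theorem exists_comm [Fintype K] {m : ℕ} (hK : Fintype.card K = 3 ^ (2 * m + 1)) (hm : 1 ≤ m)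
    (x : GL chevG2.Idx K) (hx : x ∈ chevG2.posUnipotent K ⊓ twistedG2 K e) :
    ∃ g y : GL chevG2.Idx K, g ∈ twistedG2 K e ∧ y ∈ twistedG2 K e ∧ x = g * y * g⁻¹ * y⁻¹ := by
  classical
  obtain ⟨t, ht0, ht2⟩ : ∃ t : K, t ≠ 0 ∧ t ^ 2 ≠ 1 := by
    by_contra hcon
    push Not at hcon
    have hsub : (Finset.univ : Finset K) ⊆ {0, 1, -1} := by
      intro t _
      by_cases h0 : t = 0
      · simp [h0]
      · have h2 := hcon t h0
        have h3 : (t - 1) * (t + 1) = 0 := by linear_combination h2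
        rcases mul_eq_zero.mp h3 with h | h
        · have h4 : t = 1 := sub_eq_zero.mp h
          simp [h4]
        · have h4 : t = -1 := eq_neg_of_add_eq_zero_left h
          simp [h4]
    have hc := Finset.card_le_card hsub
    rw [Finset.card_univ, hK] at hc
    have h3 : ({0, 1, -1} : Finset K).card ≤ 3 := Finset.card_le_three
    have h27 : 3 ^ 3 ≤ 3 ^ (2 * m + 1) := Nat.pow_le_pow_right (by norm_num) (by omega)
    omega
  have hs : C.τ t ≠ 0 := (map_ne_zero C.τ).mpr ht0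
  obtain ⟨g, hg⟩ : ∃ g : GL chevG2.Idx K, g = (C.hh (C.τ t) t : GL chevG2.Idx K) := ⟨_, rfl⟩
  have hgH : g ∈ chevG2.diagonalSubgroup K ⊓ twistedG2 K e := by
    rw [hg]; exact ⟨C.hh_mem_H _ _ hs ht0, C.hh_mem hK t ht0⟩
  have hg2 : g * g ≠ 1 := by
    intro h
    apply ht2
    have e1 : g = C.eta (Units.mk0 t ht0) := hg
    rw [e1, ← map_mul, ← map_one C.eta] at h
    have h3 := congrArg Units.val (C.eta_injective h)
    simpa [pow_two] using h3
  have hconj : ∀ u : GL chevG2.Idx K, u ∈ chevG2.posUnipotent K →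
      g * u * g⁻¹ ∈ chevG2.posUnipotent K := by
    intro u hu; rw [hg]; exact C.conj_mem_U _ _ hs ht0 u hu
  let f : ↥(chevG2.posUnipotent K ⊓ twistedG2 K e) → ↥(chevG2.posUnipotent K ⊓ twistedG2 K e) :=
    fun u => ⟨g * u * g⁻¹ * (u : GL chevG2.Idx K)⁻¹,
      ⟨Subgroup.mul_mem _ (hconj u u.2.1) (Subgroup.inv_mem _ u.2.1),
       Subgroup.mul_mem _ (Subgroup.mul_mem _ (Subgroup.mul_mem _ hgH.2 u.2.2)
        (Subgroup.inv_mem _ hgH.2)) (Subgroup.inv_mem _ u.2.2)⟩⟩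
  have hinj : Function.Injective f := by
    intro u u' huu
    have h1 : g * (u : GL chevG2.Idx K) * g⁻¹ * (u : GL chevG2.Idx K)⁻¹ =
        g * (u' : GL chevG2.Idx K) * g⁻¹ * (u' : GL chevG2.Idx K)⁻¹ := congrArg Subtype.val huu
    obtain ⟨a, ha⟩ : ∃ a : GL chevG2.Idx K, a = (u : GL chevG2.Idx K) := ⟨_, rfl⟩
    obtain ⟨b, hb⟩ : ∃ b : GL chevG2.Idx K, b = (u' : GL chevG2.Idx K) := ⟨_, rfl⟩
    rw [← ha, ← hb] at h1
    have h2' : a * g⁻¹ = b * g⁻¹ * b⁻¹ * a := by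
      calc a * g⁻¹ = g⁻¹ * (g * a * g⁻¹ * a⁻¹) * a := by group
        _ = g⁻¹ * (g * b * g⁻¹ * b⁻¹) * a := by rw [h1]
        _ = b * g⁻¹ * b⁻¹ * a := by group
    have h3 : b⁻¹ * a * g⁻¹ = g⁻¹ * (b⁻¹ * a) := by
      calc b⁻¹ * a * g⁻¹ = b⁻¹ * (a * g⁻¹) := by group
        _ = b⁻¹ * (b * g⁻¹ * b⁻¹ * a) := by rw [h2']
        _ = g⁻¹ * (b⁻¹ * a) := by group
    have hw : g * (b⁻¹ * a) = b⁻¹ * a * g := by
      calc g * (b⁻¹ * a) = g * (b⁻¹ * a * g⁻¹) * g := by group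
        _ = g * (g⁻¹ * (b⁻¹ * a)) * g := by rw [h3]
        _ = b⁻¹ * a * g := by group
    have hba : b⁻¹ * a ∈ chevG2.posUnipotent K := by
      rw [ha, hb]; exact mul_mem (inv_mem u'.2.1) u.2.1
    have h4 := C.centralizer_trivial g _ hgH hg2 hba hw
    apply Subtype.ext
    rw [← ha, ← hb]
    exact (inv_mul_eq_one.mp h4).symm
  obtain ⟨u, hu⟩ := Finite.surjective_of_injective hinj ⟨x, hx⟩
  exact ⟨g, u, hgH.2, u.2.2, (congrArg Subtype.val hu).symm⟩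

include C in
/-- `²G₂(q)` is perfect for `q > 3` -/
theorem perfect [Fintype K] {m : ℕ} (hK : Fintype.card K = 3 ^ (2 * m + 1)) (hm : 1 ≤ m) :
    commutator ↥(twistedG2 K e) = ⊤ := by
  have hP : ∀ t u v : K, (C.SP.R C.τ t u v : GL chevG2.Idx K) ∈
      (commutator ↥(twistedG2 K e)).map (twistedG2 K e).subtype := by
    intro t u v
    obtain ⟨g, y, hg, hy, hxy⟩ :=
      C.exists_comm hK hm _ ((C.mem_iff _).mpr ⟨t, u, v, C.R_val t u v⟩)
    refine ⟨⁅(⟨g, hg⟩ : ↥(twistedG2 K e)), ⟨y, hy⟩⁆, ?_, ?_⟩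
    · rw [SetLike.mem_coe, commutator_def]
      exact Subgroup.commutator_mem_commutator (Subgroup.mem_top _) (Subgroup.mem_top _)
    · rw [hxy]; rfl
  have key : twistedG2 K e ≤ (commutator ↥(twistedG2 K e)).map (twistedG2 K e).subtype := by
    intro x hx
    have hx' : x ∈ Subgroup.closure {g : GL chevG2.Idx K | ∃ w ∈ g2Words K e,
        (g : Matrix chevG2.Idx chevG2.Idx K) = chevG2.wordMat K w} := hx
    refine (Subgroup.closure_le _).mpr ?_ hx'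
    rintro y ⟨w, ⟨t, u, v, hw | hw⟩, hyw⟩
    · have hy' : y = (C.SP.R C.τ t u v : GL chevG2.Idx K) :=
        Units.ext (by rw [hyw, hw, C.R_val])
      rw [hy']; exact hP t u v
    · have hy' : y = (C.SN.R C.τ t u v : GL chevG2.Idx K) :=
        Units.ext (by rw [hyw, hw, C.RN_val])
      rw [hy', C.RN_eq_conj]
      obtain ⟨z, hz, hzR⟩ := hP t u v
      refine ⟨⟨C.n0, C.n0_mem⟩ * z * (⟨C.n0, C.n0_mem⟩ : ↥(twistedG2 K e))⁻¹, ?_, ?_⟩
      · exact (inferInstance : (commutator ↥(twistedG2 K e)).Normal).conj_mem z hz _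
      · have hzR' : (z : GL chevG2.Idx K) = (C.SP.R C.τ t u v : GL chevG2.Idx K) := hzR
        show (C.n0 : GL chevG2.Idx K) * (z : GL chevG2.Idx K) * (C.n0 : GL chevG2.Idx K)⁻¹ = _
        rw [hzR']; rfl
  rw [eq_top_iff]
  intro g _
  obtain ⟨z, hz, hzg⟩ := key g.2
  have hzg' : z = g := Subtype.ext hzg
  rwa [hzg'] at hz

end Ctx

end Cfsg.Agent.H22.Ree
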