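import Cfsg.Agent.H22.ReeBru
/-!
The order of `²G₂(q)`, the quotient `N¹/H¹` and the normal core of `B¹` (helper22).
-/
set_option autoImplicit false
open Cfsg Cfsg.Lie

namespace Cfsg.Agent.H22.Ree

open Cfsg.Agent.H22 Cfsg.Agent.H22.GEx

theorem zmod2_cases : ∀ x : Multiplicative (ZMod 2), x = 1 ∨ x = Multiplicative.ofAdd (1 : ZMod 2) := by
  decide

namespace Ctx

variable {K : Type*} [Field K] [CharP K 3] {e : ℕ} (C : Ctx K e)

/-- every element of `²G₂` lies in `B¹` or in `B¹ n₀ U¹` -/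
theorem mem_decomp [Fintype K] {m : ℕ} (hK : Fintype.card K = 3 ^ (2 * m + 1))
    (hcan : CanonG2 K) (hW : WeylG2 K) (g : GL chevG2.Idx K) (hg : g ∈ twistedG2 K e) :
    g ∈ chevG2.borelSubgroup K ⊓ twistedG2 K e ∨
      ∃ b ∈ chevG2.borelSubgroup K ⊓ twistedG2 K e, ∃ u ∈ chevG2.posUnipotent K ⊓ twistedG2 K e,
        g = b * (C.n0 : GL chevG2.Idx K) * u := by
  obtain ⟨hgG, hfix⟩ := C.fixed_of_mem g hg
  exact C.fixed_decomp hK hcan hW ⟨g, hgG⟩ hfix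

include C in
/-- `|B¹| = |U¹| |H¹|` -/
theorem card_B1 [Fintype K] {m : ℕ} (hK : Fintype.card K = 3 ^ (2 * m + 1)) (hcan : CanonG2 K) :
    Nat.card ↥(chevG2.borelSubgroup K ⊓ twistedG2 K e) =
      Nat.card ↥(chevG2.posUnipotent K ⊓ twistedG2 K e) *
        Nat.card ↥(chevG2.diagonalSubgroup K ⊓ twistedG2 K e) := by
  let f : ↥(chevG2.posUnipotent K ⊓ twistedG2 K e) × ↥(chevG2.diagonalSubgroup K ⊓ twistedG2 K e) →
      ↥(chevG2.borelSubgroup K ⊓ twistedG2 K e) := fun p =>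
    ⟨(p.1 : GL chevG2.Idx K) * (p.2 : GL chevG2.Idx K),
      ⟨Subgroup.mul_mem _ (U_le_B p.1.2.1) (H_le_B p.2.2.1), Subgroup.mul_mem _ p.1.2.2 p.2.2.2⟩⟩
  have hinj : Function.Injective f := by
    rintro ⟨u, h⟩ ⟨u', h'⟩ hf
    have h1 : (u : GL chevG2.Idx K) * (h : GL chevG2.Idx K) =
        (u' : GL chevG2.Idx K) * (h' : GL chevG2.Idx K) := congrArg Subtype.val hf
    have h2 : (u' : GL chevG2.Idx K)⁻¹ * (u : GL chevG2.Idx K) =
        (h' : GL chevG2.Idx K) * (h : GL chevG2.Idx K)⁻¹ := by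
      calc (u' : GL chevG2.Idx K)⁻¹ * (u : GL chevG2.Idx K)
          = (u' : GL chevG2.Idx K)⁻¹ * ((u : GL chevG2.Idx K) * (h : GL chevG2.Idx K)) *
              (h : GL chevG2.Idx K)⁻¹ := by group
        _ = (u' : GL chevG2.Idx K)⁻¹ * ((u' : GL chevG2.Idx K) * (h' : GL chevG2.Idx K)) *
              (h : GL chevG2.Idx K)⁻¹ := by rw [h1]
        _ = (h' : GL chevG2.Idx K) * (h : GL chevG2.Idx K)⁻¹ := by group
    have h3 : (u' : GL chevG2.Idx K)⁻¹ * (u : GL chevG2.Idx K) = 1 :=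
      C.U_inf_H hcan _ (mul_mem (inv_mem u'.2.1) u.2.1)
        (by rw [h2]; exact mul_mem h'.2.1 (inv_mem h.2.1))
    have h4 : (u : GL chevG2.Idx K) = (u' : GL chevG2.Idx K) := (inv_mul_eq_one.mp h3).symm
    have h5 : (h : GL chevG2.Idx K) = (h' : GL chevG2.Idx K) := by
      rw [h4] at h1; exact mul_left_cancel h1
    exact Prod.ext (Subtype.ext h4) (Subtype.ext h5)
  have hsurj : Function.Surjective f := by
    rintro ⟨b, hbB, hbT⟩
    obtain ⟨hbG, hfix⟩ := C.fixed_of_mem b hbT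
    obtain ⟨u, hu, h, hh, hbuh⟩ := C.fixed_B_decomp hK hcan ⟨b, hbG⟩ hbB hfix
    exact ⟨(⟨u, hu⟩, ⟨h, hh⟩), Subtype.ext hbuh.symm⟩
  rw [← Nat.card_prod]
  exact (Nat.card_congr (Equiv.ofBijective f ⟨hinj, hsurj⟩)).symm

include C in
/-- `|²G₂| = |B¹| + |B¹| |U¹|` -/
theorem card_G1 [Fintype K] {m : ℕ} (hK : Fintype.card K = 3 ^ (2 * m + 1)) (hcan : CanonG2 K)
    (hW : WeylG2 K) :
    Nat.card ↥(twistedG2 K e) = Nat.card ↥(chevG2.borelSubgroup K ⊓ twistedG2 K e) +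
      Nat.card ↥(chevG2.borelSubgroup K ⊓ twistedG2 K e) *
        Nat.card ↥(chevG2.posUnipotent K ⊓ twistedG2 K e) := by
  let F : ↥(chevG2.borelSubgroup K ⊓ twistedG2 K e) ⊕
      (↥(chevG2.borelSubgroup K ⊓ twistedG2 K e) × ↥(chevG2.posUnipotent K ⊓ twistedG2 K e)) →
      ↥(twistedG2 K e) := fun p =>
    match p with
    | Sum.inl b => ⟨(b : GL chevG2.Idx K), b.2.2⟩
    | Sum.inr q => ⟨(q.1 : GL chevG2.Idx K) * (C.n0 : GL chevG2.Idx K) * (q.2 : GL chevG2.Idx K),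
        Subgroup.mul_mem _ (Subgroup.mul_mem _ q.1.2.2 C.n0_mem) q.2.2.2⟩
  have hUm : ∀ u : ↥(chevG2.posUnipotent K ⊓ twistedG2 K e),
      (u : GL chevG2.Idx K) ∈ Um K (C.n0 : GL chevG2.Idx K) := by
    intro u; rw [C.Um_n0]; exact u.2.1
  have hne : ∀ (b : ↥(chevG2.borelSubgroup K ⊓ twistedG2 K e))
      (q : ↥(chevG2.borelSubgroup K ⊓ twistedG2 K e) × ↥(chevG2.posUnipotent K ⊓ twistedG2 K e)),
      (b : GL chevG2.Idx K) ≠
        (q.1 : GL chevG2.Idx K) * (C.n0 : GL chevG2.Idx K) * (q.2 : GL chevG2.Idx K) := by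
    intro b q hbq
    have h := (hcan.2 (b : GL chevG2.Idx K) q.1 1 C.n0 1 q.2 b.2.1 q.1.2.1 (one_mem _) C.n0_mem_N
      (one_mem _) (hUm q.2) (by rw [mul_one, mul_one]; exact hbq)).1
    rw [inv_one, one_mul] at h
    exact C.n0_not_H hcan h
  have hinj : Function.Injective F := by
    rintro (b | q) (b' | q') hF
    · have h1 : (b : GL chevG2.Idx K) = (b' : GL chevG2.Idx K) :=
        congrArg (fun z : ↥(twistedG2 K e) => (z : GL chevG2.Idx K)) hF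
      exact congrArg Sum.inl (Subtype.ext h1)
    · exact absurd (congrArg (fun z : ↥(twistedG2 K e) => (z : GL chevG2.Idx K)) hF) (hne b q')
    · exact absurd (congrArg (fun z : ↥(twistedG2 K e) => (z : GL chevG2.Idx K)) hF).symm
        (hne b' q)
    · have h1 : (q.1 : GL chevG2.Idx K) * (C.n0 : GL chevG2.Idx K) * (q.2 : GL chevG2.Idx K) =
          (q'.1 : GL chevG2.Idx K) * (C.n0 : GL chevG2.Idx K) * (q'.2 : GL chevG2.Idx K) :=
        congrArg (fun z : ↥(twistedG2 K e) => (z : GL chevG2.Idx K)) hF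
      have h2 := (hcan.2 _ _ C.n0 C.n0 _ _ q.1.2.1 q'.1.2.1 C.n0_mem_N C.n0_mem_N (hUm q.2)
        (hUm q'.2) h1).2 rfl
      exact congrArg Sum.inr (Prod.ext (Subtype.ext h2.1) (Subtype.ext h2.2))
  have hsurj : Function.Surjective F := by
    rintro ⟨g, hg⟩
    rcases C.mem_decomp hK hcan hW g hg with h | ⟨b, hb, u, hu, hgbu⟩
    · exact ⟨Sum.inl ⟨g, h⟩, rfl⟩
    · exact ⟨Sum.inr (⟨b, hb⟩, ⟨u, hu⟩), Subtype.ext hgbu.symm⟩
  rw [← Nat.card_prod, ← Nat.card_sum]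
  exact (Nat.card_congr (Equiv.ofBijective F ⟨hinj, hsurj⟩)).symm

include C in
/-- `|²G₂(q)| = q³ (q - 1) (q³ + 1)` -/
theorem card_twisted [Fintype K] {m : ℕ} (hK : Fintype.card K = 3 ^ (2 * m + 1))
    (hcan : CanonG2 K) (hW : WeylG2 K) :
    Nat.card ↥(twistedG2 K e) =
      (3 ^ (2 * m + 1)) ^ 3 * (3 ^ (2 * m + 1) - 1) * ((3 ^ (2 * m + 1)) ^ 3 + 1) := by
  rw [C.card_G1 hK hcan hW, C.card_B1 hK hcan, C.card_eq, C.card_H1 hK, Nat.card_eq_fintype_card,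
    hK]
  ring

include C in
/-- `N¹/H¹` has order 2 -/
theorem N1_hom (hcan : CanonG2 K) (hW : WeylG2 K) :
    ∃ Φ : ↥(chevG2.monomialSubgroup K ⊓ twistedG2 K e) →* Multiplicative (ZMod 2),
      Function.Surjective Φ ∧
      Φ.ker = (chevG2.diagonalSubgroup K ⊓ twistedG2 K e).subgroupOf
        (chevG2.monomialSubgroup K ⊓ twistedG2 K e) := by
  obtain ⟨φ, -, hker, hsimp⟩ := hW
  obtain ⟨ι, hι⟩ : ∃ ι : ↥(chevG2.monomialSubgroup K ⊓ twistedG2 K e) →*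
      ↥(chevG2.monomialSubgroup K), ι = Subgroup.inclusion inf_le_left := ⟨_, rfl⟩
  have hιc : ∀ x, ((ι x : ↥(chevG2.monomialSubgroup K)) : GL chevG2.Idx K) = x := by
    intro x; rw [hι]; rfl
  -- elements of `N¹` are fixed
  have hfix : ∀ x : ↥(chevG2.monomialSubgroup K ⊓ twistedG2 K e),
      ((ι x : ↥(chevG2.monomialSubgroup K)) : GL chevG2.Idx K)⁻¹ *
        (C.sigN (ι x) : GL chevG2.Idx K) ∈ chevG2.diagonalSubgroup K := by
    intro x
    obtain ⟨hxG, hx⟩ := C.fixed_of_mem _ x.2.2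
    have e1 : (C.sigN (ι x) : GL chevG2.Idx K) = (x : GL chevG2.Idx K) := by
      rw [C.sigN_coe]
      have e2 : (⟨((ι x : ↥(chevG2.monomialSubgroup K)) : GL chevG2.Idx K),
          C.monomial_le_group (ι x).2⟩ : ↥(chevG2.group K)) = ⟨(x : GL chevG2.Idx K), hxG⟩ :=
        Subtype.ext (hιc x)
      rw [e2, hx]
    rw [e1, hιc, inv_mul_cancel]
    exact one_mem _
  have hcls := fun x => C.N_class hcan φ hker hsimp (ι x) (hfix x)
  refine ⟨dparHom.comp (kap.comp (φ.comp ι)), ?_, ?_⟩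
  · intro y
    rcases zmod2_cases y with rfl | rfl
    · exact ⟨1, map_one _⟩
    · refine ⟨⟨(C.n0 : GL chevG2.Idx K), ⟨C.n0_mem_N, C.n0_mem⟩⟩, ?_⟩
      obtain ⟨x, hx⟩ : ∃ x : ↥(chevG2.monomialSubgroup K ⊓ twistedG2 K e),
          (x : GL chevG2.Idx K) = (C.n0 : GL chevG2.Idx K) := ⟨⟨_, ⟨C.n0_mem_N, C.n0_mem⟩⟩, rfl⟩
      have h1 : kap (φ (ι x)) = DihedralGroup.r 3 := by
        rcases (hcls x).2 with h | h
        · exfalso
          have h2 : φ (ι x) = 1 := kap_injective (by rw [h, map_one])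
          have h3 : ι x ∈ φ.ker := MonoidHom.mem_ker.mpr h2
          rw [hker, Subgroup.mem_subgroupOf, hιc, hx] at h3
          exact C.n0_not_H hcan h3
        · exact h
      have h2 : (⟨(C.n0 : GL chevG2.Idx K), ⟨C.n0_mem_N, C.n0_mem⟩⟩ :
          ↥(chevG2.monomialSubgroup K ⊓ twistedG2 K e)) = x := Subtype.ext hx.symm
      rw [h2, MonoidHom.comp_apply, MonoidHom.comp_apply, MonoidHom.comp_apply, h1]
      exact dpar_r3
  · ext x
    rw [MonoidHom.mem_ker, Subgroup.mem_subgroupOf, MonoidHom.comp_apply, MonoidHom.comp_apply,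
      MonoidHom.comp_apply]
    constructor
    · intro h
      have h1 : kap (φ (ι x)) = 1 := by
        rcases (hcls x).2 with h1 | h1
        · exact h1
        · rw [h1, dpar_r3] at h
          exact absurd h dpar_one_ne
      have h2 : φ (ι x) = 1 := kap_injective (by rw [h1, map_one])
      have h3 : ι x ∈ φ.ker := MonoidHom.mem_ker.mpr h2
      rw [hker, Subgroup.mem_subgroupOf, hιc] at h3
      exact ⟨h3, x.2.2⟩
    · intro h
      have h3 : ι x ∈ φ.ker := by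
        rw [hker, Subgroup.mem_subgroupOf, hιc]; exact h.1
      rw [MonoidHom.mem_ker.mp h3, map_one, map_one]

theorem hh_one : (C.hh 1 1 : GL chevG2.Idx K) = 1 := by
  apply Units.ext
  rw [C.hh_val _ _ one_ne_zero one_ne_zero]
  unfold dg
  have hc : cc (1 : K) 1 = fun _ => (1 : K) := by
    funext i; unfold cc; split_ifs <;> rfl
  rw [hc, torusDiag_one, Units.val_one]
  exact Matrix.diagonal_one

include C in
/-- an element of `B` whose `n₀`-conjugate lies in `B` is in `H` -/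
theorem mem_H_of_conj (hcan : CanonG2 K) (y : GL chevG2.Idx K) (hy : y ∈ chevG2.borelSubgroup K)
    (hy2 : (C.n0 : GL chevG2.Idx K)⁻¹ * y * (C.n0 : GL chevG2.Idx K) ∈ chevG2.borelSubgroup K) :
    y ∈ chevG2.diagonalSubgroup K := by
  obtain ⟨u₂, hu₂, h₂, hh₂, e2⟩ := C.exists_mul_of_mem_B _ hy2
  have hb' := (N_conj_H _ h₂ C.n0_mem_N hh₂).1
  have hu' : h₂⁻¹ * u₂ * h₂⁻¹⁻¹ ∈ Um K (C.n0 : GL chevG2.Idx K) := by
    rw [C.Um_n0]; exact C.H_conj_U _ _ (inv_mem hh₂) hu₂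
  have heq : y * (C.n0 : GL chevG2.Idx K) * 1 =
      (C.n0 : GL chevG2.Idx K) * h₂ * (C.n0 : GL chevG2.Idx K)⁻¹ * (C.n0 : GL chevG2.Idx K) *
        (h₂⁻¹ * u₂ * h₂⁻¹⁻¹) := by
    calc y * (C.n0 : GL chevG2.Idx K) * 1
        = (C.n0 : GL chevG2.Idx K) *
            ((C.n0 : GL chevG2.Idx K)⁻¹ * y * (C.n0 : GL chevG2.Idx K)) := by group
      _ = (C.n0 : GL chevG2.Idx K) * (u₂ * h₂) := by rw [e2]
      _ = _ := by group
  have h := (hcan.2 y _ C.n0 C.n0 1 _ hy (H_le_B hb') C.n0_mem_N C.n0_mem_N (one_mem _) hu' heq).2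
    rfl
  rw [h.1]
  exact hb'

include C in
/-- the normal core of `B¹` in `²G₂` is trivial -/
theorem core_trivial (hcan : CanonG2 K) :
    ((chevG2.borelSubgroup K ⊓ twistedG2 K e).subgroupOf (twistedG2 K e)).normalCore = ⊥ := by
  rw [eq_bot_iff]
  intro x hx
  rw [Subgroup.mem_bot]
  have hx' : ∀ g : ↥(twistedG2 K e), g * x * g⁻¹ ∈
      (chevG2.borelSubgroup K ⊓ twistedG2 K e).subgroupOf (twistedG2 K e) := hx
  have hxB : ∀ g : ↥(twistedG2 K e), (g : GL chevG2.Idx K) * (x : GL chevG2.Idx K) *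
      (g : GL chevG2.Idx K)⁻¹ ∈ chevG2.borelSubgroup K := fun g => (hx' g).1
  obtain ⟨n0', hn0'⟩ : ∃ a : ↥(twistedG2 K e), (a : GL chevG2.Idx K) = (C.n0 : GL chevG2.Idx K) :=
    ⟨⟨_, C.n0_mem⟩, rfl⟩
  -- conjugates of `x` lie in `H`
  have hxH : ∀ g : ↥(twistedG2 K e), (g : GL chevG2.Idx K) * (x : GL chevG2.Idx K) *
      (g : GL chevG2.Idx K)⁻¹ ∈ chevG2.diagonalSubgroup K := by
    intro g
    apply C.mem_H_of_conj hcan _ (hxB g)
    have h1 := hxB (n0'⁻¹ * g)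
    rw [Subgroup.coe_mul, Subgroup.coe_inv, hn0'] at h1
    have e1 : (C.n0 : GL chevG2.Idx K)⁻¹ * ((g : GL chevG2.Idx K) * (x : GL chevG2.Idx K) *
        (g : GL chevG2.Idx K)⁻¹) * (C.n0 : GL chevG2.Idx K) =
        (C.n0 : GL chevG2.Idx K)⁻¹ * (g : GL chevG2.Idx K) * (x : GL chevG2.Idx K) *
          ((C.n0 : GL chevG2.Idx K)⁻¹ * (g : GL chevG2.Idx K))⁻¹ := by group
    rw [e1]
    exact h1
  have h1 := hxH 1
  rw [Subgroup.coe_one, one_mul, inv_one, mul_one] at h1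
  obtain ⟨t, ht, hxt⟩ := C.exists_of_mem_H1 _ ⟨h1, x.2⟩
  have hs : C.τ t ≠ 0 := (map_ne_zero C.τ).mpr ht
  -- conjugate by the Ree word `R(0,0,1)`
  obtain ⟨w, hw⟩ : ∃ a : ↥(twistedG2 K e),
      (a : GL chevG2.Idx K) = (C.SP.R C.τ 0 0 1 : GL chevG2.Idx K) :=
    ⟨⟨_, C.RP_mem 0 0 1⟩, rfl⟩
  have hwU : (w : GL chevG2.Idx K) ∈ chevG2.posUnipotent K := by
    rw [hw, USys.R_eq_E (signs_pos K C.θ)]; exact C.E_mem_U _ _ _ _ _ _
  have h2 := hxH w
  have h3 : (w : GL chevG2.Idx K) * (x : GL chevG2.Idx K) * (w : GL chevG2.Idx K)⁻¹ *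
      (x : GL chevG2.Idx K)⁻¹ = 1 := by
    apply C.U_inf_H hcan
    · have e1 : (w : GL chevG2.Idx K) * (x : GL chevG2.Idx K) * (w : GL chevG2.Idx K)⁻¹ *
          (x : GL chevG2.Idx K)⁻¹ = (w : GL chevG2.Idx K) *
            ((x : GL chevG2.Idx K) * (w : GL chevG2.Idx K)⁻¹ * (x : GL chevG2.Idx K)⁻¹) := by group
      rw [e1]
      exact mul_mem hwU (C.H_conj_U _ _ h1 (inv_mem hwU))
    · exact mul_mem h2 (inv_mem h1)
  have h4 : (x : GL chevG2.Idx K) * (w : GL chevG2.Idx K) =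
      (w : GL chevG2.Idx K) * (x : GL chevG2.Idx K) := by
    calc (x : GL chevG2.Idx K) * (w : GL chevG2.Idx K)
        = ((w : GL chevG2.Idx K) * (x : GL chevG2.Idx K) * (w : GL chevG2.Idx K)⁻¹ *
            (x : GL chevG2.Idx K)⁻¹)⁻¹ * ((w : GL chevG2.Idx K) * (x : GL chevG2.Idx K)) := by group
      _ = (w : GL chevG2.Idx K) * (x : GL chevG2.Idx K) := by rw [h3, inv_one, one_mul]
  rw [hxt, hw, USys.R_eq_E (signs_pos K C.θ)] at h4
  have h5 : C.hh (C.τ t) t * C.SP.E 0 (C.τ 0) (C.τ 0) (C.τ 1) (0 + C.τ 0 ^ 3 * 0)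
        (1 + C.τ 0 ^ 3 * 0 ^ 2) =
      C.SP.E 0 (C.τ 0) (C.τ 0) (C.τ 1) (0 + C.τ 0 ^ 3 * 0) (1 + C.τ 0 ^ 3 * 0 ^ 2) *
        C.hh (C.τ t) t := Subtype.ext h4
  rw [C.hh_mul_E _ _ hs ht] at h5
  obtain ⟨-, -, -, -, -, a11⟩ := C.E_inj _ _ _ _ _ _ _ _ _ _ _ _ (mul_right_cancel h5)
  obtain ⟨-, -, -, -, -, v11⟩ := chi_vals (C.τ t) t
  rw [v11, zpow_zero, zpow_one, one_mul, map_zero] at a11
  have ht1 : t = 1 := by
    have : t * 1 = 1 := by simpa using a11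
    rwa [mul_one] at this
  apply Subtype.ext
  rw [hxt, ht1, map_one, C.hh_one]
  rfl

end Ctx

end Cfsg.Agent.H22.Ree
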