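import Cfsg.Agent.H22.ReeN
import Cfsg.Agent.H22.ChevMonoAll
/-!
Stability of the standard subgroups of `G₂(K)` under the graph-field automorphism `σ`, and its
fixed points in `U`, `H` and `B` (helper22).
-/
set_option autoImplicit false
open Cfsg Cfsg.Lie

namespace Cfsg.Agent.H22.Ree

open Cfsg.Agent.H22 Cfsg.Agent.H22.GEx

theorem rho_pos : ∀ r < 12, chevG2.IsPosRoot r → chevG2.IsPosRoot (rhoG2 r) := by decide +kernel

theorem rho_neg : ∀ r < 12, chevG2.IsNegRoot r → chevG2.IsNegRoot (rhoG2 r) := by decide +kernel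

theorem rho_lt : ∀ r < 12, rhoG2 r < 12 := by decide +kernel

theorem lam_cases : ∀ r < 12, lamG2 r = 1 ∨ lamG2 r = 3 := by decide +kernel

theorem neg_lt : ∀ r < 12, chevG2.neg r < 12 := by decide +kernel

/-- the subgroup `U_n⁻` of the canonical form -/
def Um (K : Type*) [Field K] (n : GL chevG2.Idx K) : Subgroup (GL chevG2.Idx K) :=
  Subgroup.closure {x : GL chevG2.Idx K | ∃ (r : ℕ) (t : K), chevG2.IsPosRoot r ∧
    (chevG2.rootSubgroup K r).map (MulAut.conj n).toMonoidHom ≤ chevG2.negUnipotent K ∧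
    (x : Matrix chevG2.Idx chevG2.Idx K) = chevG2.x K r t}

theorem Um_le {K : Type*} [Field K] (n : GL chevG2.Idx K) : Um K n ≤ chevG2.posUnipotent K := by
  unfold Um ChevalleyDatum.posUnipotent
  apply Subgroup.closure_mono
  rintro x ⟨r, t, hr, -, hx⟩
  exact ⟨r, t, hr, hx⟩

namespace Ctx

variable {K : Type*} [Field K] [CharP K 3] {e : ℕ} (C : Ctx K e)

theorem closure_sig (S : Set (GL chevG2.Idx K)) (T : Subgroup (GL chevG2.Idx K))
    (hS : ∀ y ∈ S, ∃ hy : y ∈ chevG2.group K, (C.σ ⟨y, hy⟩ : GL chevG2.Idx K) ∈ T)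
    (x : ↥(chevG2.group K)) (hx : (x : GL chevG2.Idx K) ∈ Subgroup.closure S) :
    (C.σ x : GL chevG2.Idx K) ∈ T := by
  have key : ∀ y ∈ Subgroup.closure S,
      ∃ hy : y ∈ chevG2.group K, (C.σ ⟨y, hy⟩ : GL chevG2.Idx K) ∈ T := by
    intro y hy
    induction hy using Subgroup.closure_induction with
    | mem y hy => exact hS y hy
    | one =>
      refine ⟨one_mem _, ?_⟩
      have : (⟨1, one_mem _⟩ : ↥(chevG2.group K)) = 1 := rfl
      rw [this, map_one]; exact one_mem T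
    | mul a b _ _ iha ihb =>
      obtain ⟨ha, ha'⟩ := iha
      obtain ⟨hb, hb'⟩ := ihb
      refine ⟨mul_mem ha hb, ?_⟩
      have : (⟨a * b, mul_mem ha hb⟩ : ↥(chevG2.group K)) = ⟨a, ha⟩ * ⟨b, hb⟩ := rfl
      rw [this, map_mul]; exact mul_mem ha' hb'
    | inv a _ iha =>
      obtain ⟨ha, ha'⟩ := iha
      refine ⟨inv_mem ha, ?_⟩
      have : (⟨a⁻¹, inv_mem ha⟩ : ↥(chevG2.group K)) = (⟨a, ha⟩)⁻¹ := rfl
      rw [this, map_inv]; exact inv_mem ha'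
  obtain ⟨hy, h⟩ := key x hx
  exact h

theorem eq_xg (y : GL chevG2.Idx K) (r : ℕ) (hr : r < chevG2.nroots) (t : K)
    (h : (y : Matrix chevG2.Idx chevG2.Idx K) = chevG2.x K r t) :
    y = (xg K C.θ r t : GL chevG2.Idx K) :=
  Units.ext (by rw [h, C.xg_val r hr])

theorem xg_mem_V (r : ℕ) (hr : chevG2.IsNegRoot r) (t : K) :
    (xg K C.θ r t : GL chevG2.Idx K) ∈ chevG2.negUnipotent K :=
  Subgroup.subset_closure ⟨r, t, hr, C.xg_val r hr.1 t⟩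

theorem sig_U (x : ↥(chevG2.group K)) (hx : (x : GL chevG2.Idx K) ∈ chevG2.posUnipotent K) :
    (C.σ x : GL chevG2.Idx K) ∈ chevG2.posUnipotent K := by
  refine C.closure_sig _ _ ?_ x hx
  rintro y ⟨r, t, hr, hy⟩
  have hy' := C.eq_xg y r hr.1 t hy
  subst hy'
  refine ⟨(xg K C.θ r t).2, ?_⟩
  have e1 : (⟨(xg K C.θ r t : GL chevG2.Idx K), (xg K C.θ r t).2⟩ : ↥(chevG2.group K)) =
      xg K C.θ r t := rfl
  rw [e1, C.hσ r t hr.1]
  exact C.xg_mem_U _ (rho_pos r hr.1 hr) _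

theorem sig_V (x : ↥(chevG2.group K)) (hx : (x : GL chevG2.Idx K) ∈ chevG2.negUnipotent K) :
    (C.σ x : GL chevG2.Idx K) ∈ chevG2.negUnipotent K := by
  refine C.closure_sig _ _ ?_ x hx
  rintro y ⟨r, t, hr, hy⟩
  have hy' := C.eq_xg y r hr.1 t hy
  subst hy'
  refine ⟨(xg K C.θ r t).2, ?_⟩
  have e1 : (⟨(xg K C.θ r t : GL chevG2.Idx K), (xg K C.θ r t).2⟩ : ↥(chevG2.group K)) =
      xg K C.θ r t := rfl
  rw [e1, C.hσ r t hr.1]
  exact C.xg_mem_V _ (rho_neg r hr.1 hr) _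

theorem hEl_mem_H (r : ℕ) (hr : r < chevG2.nroots) (t : K) (ht : t ≠ 0) :
    (C.θ (hEl chevG2 K r t) : GL chevG2.Idx K) ∈ chevG2.diagonalSubgroup K :=
  Subgroup.subset_closure ⟨r, t, hr, ht, C.hEl_val r hr (neg_lt r hr) t⟩

theorem sig_H (x : ↥(chevG2.group K)) (hx : (x : GL chevG2.Idx K) ∈ chevG2.diagonalSubgroup K) :
    (C.σ x : GL chevG2.Idx K) ∈ chevG2.diagonalSubgroup K := by
  have hp3 : Fact (Nat.Prime 3) := ⟨Nat.prime_three⟩
  refine C.closure_sig _ _ ?_ x hx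
  rintro y ⟨r, t, hr, ht, hy⟩
  have hy' : y = (C.θ (hEl chevG2 K r t) : GL chevG2.Idx K) :=
    Units.ext (by rw [hy, C.hEl_val r hr (neg_lt r hr)])
  subst hy'
  refine ⟨(C.θ (hEl chevG2 K r t)).2, ?_⟩
  have e1 : (⟨(C.θ (hEl chevG2 K r t) : GL chevG2.Idx K), (C.θ (hEl chevG2 K r t)).2⟩ :
      ↥(chevG2.group K)) = C.θ (hEl chevG2 K r t) := rfl
  rw [e1, C.hσψ, hEl_map chevG2 K rhoG2 lamG2 3 chk_G2 C.τ C.ψ C.hψ r hr]
  exact C.hEl_mem_H _ (rho_lt r hr) _ (pow_ne_zero _ ((map_ne_zero C.τ).mpr ht))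

theorem nEl_val (r : ℕ) (hr : r < chevG2.nroots) (t : K) :
    ((C.θ (nEl chevG2 K r t) : GL chevG2.Idx K) : Matrix chevG2.Idx chevG2.Idx K) =
      chevG2.nMat K r t := by
  unfold nEl ChevalleyDatum.nMat
  apply theta_word chevG2 K C.θ C.hx
  intro q hq
  unfold ChevalleyDatum.nWord at hq
  simp only [List.mem_cons, List.mem_nil_iff, or_false] at hq
  have hr' := neg_lt r hr
  rcases hq with rfl | rfl | rfl <;> assumption

theorem nEl_mem_N (r : ℕ) (hr : r < chevG2.nroots) :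
    (C.θ (nEl chevG2 K r 1) : GL chevG2.Idx K) ∈ chevG2.monomialSubgroup K :=
  (le_sup_right : _ ≤ chevG2.monomialSubgroup K)
    (Subgroup.subset_closure ⟨r, hr, C.nEl_val r hr 1⟩)

omit [CharP K 3] in
theorem monomial_eq_closure : chevG2.monomialSubgroup K =
    Subgroup.closure ((chevG2.diagonalSubgroup K : Set (GL chevG2.Idx K)) ∪
      {g | ∃ r : ℕ, r < chevG2.nroots ∧
        (g : Matrix chevG2.Idx chevG2.Idx K) = chevG2.nMat K r 1}) := by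
  rw [Subgroup.closure_union, Subgroup.closure_eq]; rfl

theorem sig_N (x : ↥(chevG2.group K)) (hx : (x : GL chevG2.Idx K) ∈ chevG2.monomialSubgroup K) :
    (C.σ x : GL chevG2.Idx K) ∈ chevG2.monomialSubgroup K := by
  have hp3 : Fact (Nat.Prime 3) := ⟨Nat.prime_three⟩
  rw [monomial_eq_closure] at hx
  refine C.closure_sig _ _ ?_ x hx
  rintro y (hy | ⟨r, hr, hy⟩)
  · have hyG := C.diagonal_le_group hy
    exact ⟨hyG, (le_sup_left : _ ≤ chevG2.monomialSubgroup K) (C.sig_H ⟨y, hyG⟩ hy)⟩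
  · have hy' : y = (C.θ (nEl chevG2 K r 1) : GL chevG2.Idx K) :=
      Units.ext (by rw [hy, C.nEl_val r hr])
    subst hy'
    refine ⟨(C.θ (nEl chevG2 K r 1)).2, ?_⟩
    have e1 : (⟨(C.θ (nEl chevG2 K r 1) : GL chevG2.Idx K), (C.θ (nEl chevG2 K r 1)).2⟩ :
        ↥(chevG2.group K)) = C.θ (nEl chevG2 K r 1) := rfl
    rw [e1, C.hσψ, nEl_map chevG2 K rhoG2 lamG2 3 chk_G2 C.τ C.ψ C.hψ r hr, map_one, one_pow]
    exact C.nEl_mem_N _ (rho_lt r hr)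

omit [CharP K 3] in
theorem borel_eq_closure : chevG2.borelSubgroup K =
    Subgroup.closure ((chevG2.posUnipotent K : Set (GL chevG2.Idx K)) ∪
      (chevG2.diagonalSubgroup K : Set (GL chevG2.Idx K))) := by
  rw [Subgroup.closure_union, Subgroup.closure_eq, Subgroup.closure_eq]; rfl

theorem sig_B (x : ↥(chevG2.group K)) (hx : (x : GL chevG2.Idx K) ∈ chevG2.borelSubgroup K) :
    (C.σ x : GL chevG2.Idx K) ∈ chevG2.borelSubgroup K := by
  rw [borel_eq_closure] at hx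
  refine C.closure_sig _ _ ?_ x hx
  rintro y (hy | hy)
  · have hyG := posUnipotent_le_group hy
    exact ⟨hyG, (le_sup_left : _ ≤ chevG2.borelSubgroup K) (C.sig_U ⟨y, hyG⟩ hy)⟩
  · have hyG := C.diagonal_le_group hy
    exact ⟨hyG, (le_sup_right : _ ≤ chevG2.borelSubgroup K) (C.sig_H ⟨y, hyG⟩ hy)⟩

include C in
/-- `H` normalises `U` -/
theorem H_conj_U (h u : GL chevG2.Idx K) (hh : h ∈ chevG2.diagonalSubgroup K)
    (hu : u ∈ chevG2.posUnipotent K) : h * u * h⁻¹ ∈ chevG2.posUnipotent K := by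
  obtain ⟨s₁, s₂, h1, h2, rfl⟩ := C.exists_hh h hh
  exact C.conj_mem_U s₁ s₂ h1 h2 u hu

include C in
/-- `B = U H` -/
theorem exists_mul_of_mem_B (b : GL chevG2.Idx K) (hb : b ∈ chevG2.borelSubgroup K) :
    ∃ u ∈ chevG2.posUnipotent K, ∃ h ∈ chevG2.diagonalSubgroup K, b = u * h := by
  rw [borel_eq_closure] at hb
  induction hb using Subgroup.closure_induction with
  | mem y hy =>
    rcases hy with hy | hy
    · exact ⟨y, hy, 1, one_mem _, (mul_one y).symm⟩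
    · exact ⟨1, one_mem _, y, hy, (one_mul y).symm⟩
  | one => exact ⟨1, one_mem _, 1, one_mem _, (mul_one 1).symm⟩
  | mul a b _ _ iha ihb =>
    obtain ⟨u, hu, h, hh, rfl⟩ := iha
    obtain ⟨u', hu', h', hh', rfl⟩ := ihb
    refine ⟨u * (h * u' * h⁻¹), mul_mem hu (C.H_conj_U h u' hh hu'), h * h', mul_mem hh hh', ?_⟩
    group
  | inv a _ iha =>
    obtain ⟨u, hu, h, hh, rfl⟩ := iha
    refine ⟨h⁻¹ * u⁻¹ * h⁻¹⁻¹, C.H_conj_U h⁻¹ u⁻¹ (inv_mem hh) (inv_mem hu), h⁻¹, inv_mem hh, ?_⟩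
    group

/-- `σ`-fixed elements of `U` lie in `²G₂` -/
theorem fixed_U (x : ↥(chevG2.group K)) (hx : (x : GL chevG2.Idx K) ∈ chevG2.posUnipotent K)
    (hfix : C.σ x = x) : (x : GL chevG2.Idx K) ∈ twistedG2 K e := by
  obtain ⟨c6, c7, c8, c9, c10, c11, hE⟩ := C.exists_E _ hx
  have hE' : x = C.SP.E c6 c7 c8 c9 c10 c11 := Subtype.ext hE
  subst hE'
  have hfix' : C.σ.toMonoidHom (C.SP.E c6 c7 c8 c9 c10 c11) = C.SP.E c6 c7 c8 c9 c10 c11 := hfix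
  rw [C.twP.fixed_eq_R (signs_pos K C.θ) C.E_inj c6 c7 c8 c9 c10 c11 hfix']
  exact C.RP_mem _ _ _

/-- `σ`-fixed elements of `H` lie in `²G₂` -/
theorem fixed_H [Fintype K] {m : ℕ} (hK : Fintype.card K = 3 ^ (2 * m + 1))
    (x : ↥(chevG2.group K)) (hx : (x : GL chevG2.Idx K) ∈ chevG2.diagonalSubgroup K)
    (hfix : C.σ x = x) : (x : GL chevG2.Idx K) ∈ twistedG2 K e := by
  obtain ⟨s₁, s₂, h1, h2, hE⟩ := C.exists_hh _ hx
  have hE' : x = C.hh s₁ s₂ := Subtype.ext hE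
  subst hE'
  have hm := C.σ_hh s₁ s₂ h1 h2
  rw [hfix, C.hh_val s₁ s₂ h1 h2] at hm
  have h1' : C.τ s₁ ^ 3 ≠ 0 := pow_ne_zero _ ((map_ne_zero C.τ).mpr h1)
  have h2' : C.τ s₂ ≠ 0 := (map_ne_zero C.τ).mpr h2
  obtain ⟨a, -⟩ := dg_inj _ _ _ _ h1 h2 h2' h1' hm
  rw [a]
  exact C.hh_mem hK s₂ h2

theorem sig_Um (n x : ↥(chevG2.group K)) (hx : (x : GL chevG2.Idx K) ∈ Um K (n : GL chevG2.Idx K)) :
    (C.σ x : GL chevG2.Idx K) ∈ Um K (C.σ n : GL chevG2.Idx K) := by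
  refine C.closure_sig _ _ ?_ x hx
  rintro y ⟨r, t, hr, hle, hy⟩
  have hy' := C.eq_xg y r hr.1 t hy
  subst hy'
  refine ⟨(xg K C.θ r t).2, ?_⟩
  have e1 : (⟨(xg K C.θ r t : GL chevG2.Idx K), (xg K C.θ r t).2⟩ : ↥(chevG2.group K)) =
      xg K C.θ r t := rfl
  rw [e1, C.hσ r t hr.1]
  refine Subgroup.subset_closure ⟨rhoG2 r, C.τ t ^ lamG2 r, rho_pos r hr.1 hr, ?_,
    C.xg_val _ (rho_lt r hr.1) _⟩
  unfold ChevalleyDatum.rootSubgroup
  rw [MonoidHom.map_closure, Subgroup.closure_le]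
  rintro _ ⟨g, ⟨c, hg⟩, rfl⟩
  have hg' := C.eq_xg g (rhoG2 r) (rho_lt r hr.1) c hg
  subst hg'
  obtain ⟨c', hc'⟩ : ∃ c' : K, C.τ c' ^ lamG2 r = c := by
    rcases lam_cases r hr.1 with h | h
    · exact ⟨C.τ c ^ 3, by rw [h, pow_one, map_pow, C.hτ]⟩
    · exact ⟨C.τ c, by rw [h, C.hτ]⟩
  have h1 : ((n * xg K C.θ r c' * n⁻¹ : ↥(chevG2.group K)) : GL chevG2.Idx K) ∈
      chevG2.negUnipotent K := by
    apply hle
    exact ⟨(xg K C.θ r c' : GL chevG2.Idx K),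
      Subgroup.subset_closure ⟨c', C.xg_val r hr.1 c'⟩, rfl⟩
  have h2 := C.sig_V _ h1
  rw [map_mul, map_mul, map_inv, C.hσ r c' hr.1, hc'] at h2
  exact h2

end Ctx

end Cfsg.Agent.H22.Ree
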