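import Cfsg.Agent.H22.ReeBN
/-!
Simplicity of `²G₂(q)`, `q > 3` (helper22).
-/
set_option autoImplicit false
open Cfsg Cfsg.Lie

namespace Cfsg.Agent.H22.Ree

open Cfsg.Agent.H22 Cfsg.Agent.H22.GEx
open scoped Pointwise

namespace Ctx

variable {K : Type*} [Field K] [CharP K 3] {e : ℕ} (C : Ctx K e)

include C in
/-- a normal subgroup of `²G₂` containing the positive Ree words is everything -/
theorem normal_eq_top (P : Subgroup ↥(twistedG2 K e)) (hPn : P.Normal)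
    (hP : ∀ (t u v : K) (h : (C.SP.R C.τ t u v : GL chevG2.Idx K) ∈ twistedG2 K e),
      (⟨_, h⟩ : ↥(twistedG2 K e)) ∈ P) : P = ⊤ := by
  have key : twistedG2 K e ≤ P.map (twistedG2 K e).subtype := by
    intro x hx
    have hx' : x ∈ Subgroup.closure {g : GL chevG2.Idx K | ∃ w ∈ g2Words K e,
        (g : Matrix chevG2.Idx chevG2.Idx K) = chevG2.wordMat K w} := hx
    refine (Subgroup.closure_le _).mpr ?_ hx'
    rintro y ⟨w, ⟨t, u, v, hw | hw⟩, hyw⟩
    · have hy' : y = (C.SP.R C.τ t u v : GL chevG2.Idx K) :=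
        Units.ext (by rw [hyw, hw, C.R_val])
      rw [hy']
      exact ⟨⟨_, C.RP_mem t u v⟩, hP t u v _, rfl⟩
    · have hy' : y = (C.SN.R C.τ t u v : GL chevG2.Idx K) :=
        Units.ext (by rw [hyw, hw, C.RN_val])
      rw [hy', C.RN_eq_conj]
      obtain ⟨z, hzR⟩ : ∃ z : ↥(twistedG2 K e),
          (z : GL chevG2.Idx K) = (C.SP.R C.τ t u v : GL chevG2.Idx K) :=
        ⟨⟨_, C.RP_mem t u v⟩, rfl⟩
      have hz : z ∈ P := by
        have e1 : z = ⟨_, C.RP_mem t u v⟩ := Subtype.ext hzR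
        rw [e1]; exact hP t u v _
      obtain ⟨a, ha⟩ : ∃ a : ↥(twistedG2 K e), (a : GL chevG2.Idx K) = (C.n0 : GL chevG2.Idx K) :=
        ⟨⟨_, C.n0_mem⟩, rfl⟩
      refine ⟨a * z * a⁻¹, hPn.conj_mem z hz a, ?_⟩
      show (a : GL chevG2.Idx K) * (z : GL chevG2.Idx K) * (a : GL chevG2.Idx K)⁻¹ = _
      rw [hzR, ha]
      rfl
  rw [eq_top_iff]
  intro g _
  obtain ⟨z, hz, hzg⟩ := key g.2
  have hzg' : z = g := Subtype.ext hzg
  rwa [hzg'] at hz

include C in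
/-- `²G₂(q)` is simple for `q > 3` -/
theorem simple [Fintype K] {m : ℕ} (hK : Fintype.card K = 3 ^ (2 * m + 1)) (hm : 1 ≤ m)
    (hcan : CanonG2 K) (hW : WeylG2 K) :
    IsSimpleGroup ↥(twistedG2 K e) ∧ ¬ IsMulCommutative ↥(twistedG2 K e) := by
  have hperf := C.perfect hK hm
  have hcore := C.core_trivial hcan
  obtain ⟨B1, hB1⟩ : ∃ S : Subgroup ↥(twistedG2 K e),
      S = (chevG2.borelSubgroup K ⊓ twistedG2 K e).subgroupOf (twistedG2 K e) := ⟨_, rfl⟩
  obtain ⟨U1, hU1⟩ : ∃ S : Subgroup ↥(twistedG2 K e),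
      S = (chevG2.posUnipotent K ⊓ twistedG2 K e).subgroupOf (twistedG2 K e) := ⟨_, rfl⟩
  have mB : ∀ x : ↥(twistedG2 K e), x ∈ B1 ↔ (x : GL chevG2.Idx K) ∈ chevG2.borelSubgroup K := by
    intro x; rw [hB1, Subgroup.mem_subgroupOf]
    exact ⟨fun h => h.1, fun h => ⟨h, x.2⟩⟩
  have mU : ∀ x : ↥(twistedG2 K e), x ∈ U1 ↔ (x : GL chevG2.Idx K) ∈ chevG2.posUnipotent K := by
    intro x; rw [hU1, Subgroup.mem_subgroupOf]
    exact ⟨fun h => h.1, fun h => ⟨h, x.2⟩⟩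
  have hUB : U1 ≤ B1 := fun x hx => (mB x).mpr (U_le_B ((mU x).mp hx))
  obtain ⟨s, hs⟩ : ∃ a : ↥(twistedG2 K e), (a : GL chevG2.Idx K) = (C.n0 : GL chevG2.Idx K) :=
    ⟨⟨_, C.n0_mem⟩, rfl⟩
  have hdec : ∀ g : ↥(twistedG2 K e), g ∈ B1 ∨ ∃ b ∈ B1, ∃ u ∈ U1, g = b * s * u := by
    intro g
    rcases C.mem_decomp hK hcan hW (g : GL chevG2.Idx K) g.2 with h | ⟨b, hb, u, hu, hgbu⟩
    · exact Or.inl ((mB g).mpr h.1)
    · refine Or.inr ⟨⟨b, hb.2⟩, (mB _).mpr hb.1, ⟨u, hu.2⟩, (mU _).mpr hu.1, ?_⟩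
      apply Subtype.ext
      rw [hgbu, Subgroup.coe_mul, Subgroup.coe_mul, hs]
  obtain ⟨w, hw⟩ : ∃ a : ↥(twistedG2 K e),
      (a : GL chevG2.Idx K) = (C.SP.R C.τ 0 0 1 : GL chevG2.Idx K) :=
    ⟨⟨_, C.RP_mem 0 0 1⟩, rfl⟩
  have hw1 : w ≠ 1 := by
    intro h
    apply C.RP001_ne_one
    rw [← hw, h]; rfl
  -- `B¹` normalises `U¹`
  have hBU : ∀ b ∈ B1, ∀ u ∈ U1, b * u * b⁻¹ ∈ U1 := by
    intro b hb u hu
    rw [mU, Subgroup.coe_mul, Subgroup.coe_mul, Subgroup.coe_inv]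
    obtain ⟨u', hu', h, hh, e1⟩ := C.exists_mul_of_mem_B _ ((mB b).mp hb)
    rw [e1]
    have e2 : u' * h * (u : GL chevG2.Idx K) * (u' * h)⁻¹ =
        u' * (h * (u : GL chevG2.Idx K) * h⁻¹) * u'⁻¹ := by group
    rw [e2]
    exact mul_mem (mul_mem hu' (C.H_conj_U h _ hh ((mU u).mp hu))) (inv_mem hu')
  -- `U¹` is solvable
  have hsolv : Group.IsSolvable ↥U1 := by
    have hp3 : Fact (Nat.Prime 3) := ⟨Nat.prime_three⟩
    have hcard : Nat.card ↥U1 = 3 ^ ((2 * m + 1) * 3) := by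
      rw [hU1, Nat.card_congr (Subgroup.subgroupOfEquivOfLe inf_le_right).toEquiv, C.card_eq,
        Nat.card_eq_fintype_card, hK, pow_mul]
    have hpg : IsPGroup 3 ↥U1 := IsPGroup.of_card hcard
    have hnil : Group.IsNilpotent ↥U1 := hpg.isNilpotent
    infer_instance
  refine ⟨?_, ?_⟩
  · refine @IsSimpleGroup.mk _ _ ⟨⟨w, 1, hw1⟩⟩ ?_
    intro M hM
    by_cases hMbot : M = ⊥
    · exact Or.inl hMbot
    right
    have h1 : ¬ M ≤ B1 := by
      intro hle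
      have h2 : M ≤ B1.normalCore := Subgroup.normal_le_normalCore.mpr hle
      rw [hB1, hcore] at h2
      exact hMbot (le_bot_iff.mp h2)
    obtain ⟨x, hxM, hxB⟩ := SetLike.not_le_iff_exists.mp h1
    have hsMB : s ∈ M ⊔ B1 := by
      rcases hdec x with h | ⟨b, hb, u, hu, hx⟩
      · exact absurd h hxB
      · have e1 : s = b⁻¹ * x * u⁻¹ := by rw [hx]; group
        rw [e1]
        exact mul_mem (mul_mem ((le_sup_right : B1 ≤ M ⊔ B1) (inv_mem hb))
          ((le_sup_left : M ≤ M ⊔ B1) hxM)) ((le_sup_right : B1 ≤ M ⊔ B1) (inv_mem (hUB hu)))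
    have hMB : ∀ g : ↥(twistedG2 K e), ∃ a ∈ M, ∃ b ∈ B1, g = a * b := by
      intro g
      have hg : g ∈ M ⊔ B1 := by
        rcases hdec g with h | ⟨b, hb, u, hu, rfl⟩
        · exact (le_sup_right : B1 ≤ M ⊔ B1) h
        · exact mul_mem (mul_mem ((le_sup_right : B1 ≤ M ⊔ B1) hb) hsMB)
            ((le_sup_right : B1 ≤ M ⊔ B1) (hUB hu))
      have hg' : g ∈ ((M : Set ↥(twistedG2 K e)) * (B1 : Set ↥(twistedG2 K e))) := by
        rw [← Subgroup.normal_mul]; exact hg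
      obtain ⟨a, ha, b, hb, rfl⟩ := Set.mem_mul.mp hg'
      exact ⟨a, ha, b, hb, rfl⟩
    have hMU : ∀ y ∈ M ⊔ U1, ∃ a ∈ M, ∃ u ∈ U1, y = a * u := by
      intro y hy
      have hy' : y ∈ ((M : Set ↥(twistedG2 K e)) * (U1 : Set ↥(twistedG2 K e))) := by
        rw [← Subgroup.normal_mul]; exact hy
      obtain ⟨a, ha, u, hu, rfl⟩ := Set.mem_mul.mp hy'
      exact ⟨a, ha, u, hu, rfl⟩
    have hPn : (M ⊔ U1).Normal := by
      constructor
      intro y hy g
      obtain ⟨a', ha', u, hu, rfl⟩ := hMU y hy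
      obtain ⟨a, ha, b, hb, rfl⟩ := hMB g
      have hu'' := hBU b hb u hu
      have e1 : a * b * (a' * u) * (a * b)⁻¹ =
          (a * (b * a' * b⁻¹) * ((b * u * b⁻¹) * a⁻¹ * (b * u * b⁻¹)⁻¹)) * (b * u * b⁻¹) := by
        group
      rw [e1]
      exact mul_mem ((le_sup_left : M ≤ M ⊔ U1) (mul_mem (mul_mem ha (hM.conj_mem _ ha' _))
        (hM.conj_mem _ (inv_mem ha) _))) ((le_sup_right : U1 ≤ M ⊔ U1) hu'')
    have hPtop : M ⊔ U1 = ⊤ := by
      apply C.normal_eq_top _ hPn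
      intro t u v h
      apply (le_sup_right : U1 ≤ M ⊔ U1)
      rw [mU]
      show (C.SP.R C.τ t u v : GL chevG2.Idx K) ∈ chevG2.posUnipotent K
      rw [USys.R_eq_E (signs_pos K C.θ)]
      exact C.E_mem_U _ _ _ _ _ _
    -- the quotient is solvable and perfect
    have hsurj : Function.Surjective ((QuotientGroup.mk' M).comp U1.subtype) := by
      intro y
      obtain ⟨g, rfl⟩ := QuotientGroup.mk'_surjective M y
      obtain ⟨a, ha, u, hu, rfl⟩ := hMU g (by rw [hPtop]; exact Subgroup.mem_top g)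
      refine ⟨⟨u, hu⟩, ?_⟩
      rw [MonoidHom.comp_apply, map_mul]
      have : (QuotientGroup.mk' M) a = 1 := (QuotientGroup.eq_one_iff a).mpr ha
      rw [this, one_mul]
      rfl
    have hsq : Group.IsSolvable (↥(twistedG2 K e) ⧸ M) := Group.isSolvable_of_surjective hsurj
    have hperfq : commutator (↥(twistedG2 K e) ⧸ M) = ⊤ := by
      rw [commutator_def, ← Subgroup.map_top_of_surjective (QuotientGroup.mk' M)
        (QuotientGroup.mk'_surjective M), ← Subgroup.map_commutator, ← commutator_def, hperf]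
    by_cases hsub : Subsingleton (↥(twistedG2 K e) ⧸ M)
    · exact QuotientGroup.subgroup_eq_top_of_subsingleton M hsub
    · have hnt : Nontrivial (↥(twistedG2 K e) ⧸ M) := not_subsingleton_iff_nontrivial.mp hsub
      have hlt := Group.IsSolvable.commutator_lt_top_of_nontrivial (↥(twistedG2 K e) ⧸ M)
      rw [hperfq] at hlt
      exact absurd hlt (lt_irrefl _)
  · intro hcomm
    have hbot : commutator ↥(twistedG2 K e) = ⊥ := by
      rw [commutator_def, Subgroup.commutator_eq_bot_iff_le_centralizer]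
      intro a _
      rw [Subgroup.mem_centralizer_iff]
      intro b _
      exact (isMulCommutative_iff.mp hcomm) b a
    rw [hperf] at hbot
    have h2 : w ∈ (⊥ : Subgroup ↥(twistedG2 K e)) := by rw [← hbot]; exact Subgroup.mem_top w
    exact hw1 (Subgroup.mem_bot.mp h2)

end Ctx

end Cfsg.Agent.H22.Ree
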