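import Cfsg.Agent.H22.ReeBN
/-!
The three-point stabilisers of `²G₂(q)` acting on the cosets of `B¹` (helper22).
-/
set_option autoImplicit false
open Cfsg Cfsg.Lie

namespace Cfsg.Agent.H22.Ree

open Cfsg.Agent.H22 Cfsg.Agent.H22.GEx

/-- the subgroup `B¹` of `²G₂` -/
abbrev B1sub (K : Type*) [Field K] (e : ℕ) : Subgroup ↥(twistedG2 K e) :=
  (chevG2.borelSubgroup K ⊓ twistedG2 K e).subgroupOf (twistedG2 K e)

theorem mk_eq_iff {K : Type*} [Field K] {e : ℕ} (a b : ↥(twistedG2 K e)) :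
    (QuotientGroup.mk a : ↥(twistedG2 K e) ⧸ B1sub K e) = QuotientGroup.mk b ↔
      (a : GL chevG2.Idx K)⁻¹ * (b : GL chevG2.Idx K) ∈ chevG2.borelSubgroup K := by
  rw [QuotientGroup.eq, Subgroup.mem_subgroupOf]
  constructor
  · intro h; exact h.1
  · intro h; exact ⟨h, (a⁻¹ * b).2⟩

namespace Ctx

variable {K : Type*} [Field K] [CharP K 3] {e : ℕ} (C : Ctx K e)

/-- `n₀` as an element of `²G₂` -/
def n0G : ↥(twistedG2 K e) := ⟨(C.n0 : GL chevG2.Idx K), C.n0_mem⟩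

theorem n0G_coe : (C.n0G : GL chevG2.Idx K) = (C.n0 : GL chevG2.Idx K) := rfl

/-- every coset of `B¹` is `B¹` or `u n₀ B¹` with `u ∈ U¹` -/
theorem coset_cases [Fintype K] {m : ℕ} (hK : Fintype.card K = 3 ^ (2 * m + 1)) (hcan : CanonG2 K)
    (hW : WeylG2 K) (q : ↥(twistedG2 K e) ⧸ B1sub K e) :
    q = QuotientGroup.mk 1 ∨ ∃ u : ↥(twistedG2 K e),
      (u : GL chevG2.Idx K) ∈ chevG2.posUnipotent K ∧ q = QuotientGroup.mk (u * C.n0G) := by
  obtain ⟨g, rfl⟩ := QuotientGroup.mk_surjective q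
  rcases C.mem_decomp hK hcan hW (g : GL chevG2.Idx K)⁻¹ (inv_mem g.2) with h | ⟨b, hb, u, hu, hg⟩
  · left
    rw [mk_eq_iff, OneMemClass.coe_one, mul_one]
    exact h.1
  · right
    refine ⟨(⟨u, hu.2⟩ : ↥(twistedG2 K e))⁻¹, inv_mem hu.1, ?_⟩
    rw [mk_eq_iff, Subgroup.coe_mul, Subgroup.coe_inv, C.n0G_coe]
    show (g : GL chevG2.Idx K)⁻¹ * (u⁻¹ * (C.n0 : GL chevG2.Idx K)) ∈ _
    rw [hg]
    have h1 : b * (C.n0 : GL chevG2.Idx K) * u * (u⁻¹ * (C.n0 : GL chevG2.Idx K)) =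
        b * ((C.n0 : GL chevG2.Idx K) * (C.n0 : GL chevG2.Idx K)) := by group
    rw [h1]
    exact mul_mem hb.1 (H_le_B (C.n0_sq_H hcan hW))

/-- three distinct cosets can be moved to `B¹`, `n₀ B¹`, `u n₀ B¹` -/
theorem exists_move [Fintype K] {m : ℕ} (hK : Fintype.card K = 3 ^ (2 * m + 1)) (hcan : CanonG2 K)
    (hW : WeylG2 K) (x y z : ↥(twistedG2 K e) ⧸ B1sub K e) (hxy : x ≠ y) (hxz : x ≠ z)
    (hyz : y ≠ z) :
    ∃ g u : ↥(twistedG2 K e), (u : GL chevG2.Idx K) ∈ chevG2.posUnipotent K ∧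
      g • x = QuotientGroup.mk 1 ∧ g • y = QuotientGroup.mk C.n0G ∧
      g • z = QuotientGroup.mk (u * C.n0G) ∧
      (QuotientGroup.mk (u * C.n0G) : ↥(twistedG2 K e) ⧸ B1sub K e) ≠ QuotientGroup.mk C.n0G := by
  obtain ⟨g₁, rfl⟩ := QuotientGroup.mk_surjective x
  have h1 : g₁⁻¹ • (QuotientGroup.mk g₁ : ↥(twistedG2 K e) ⧸ B1sub K e) = QuotientGroup.mk 1 := by
    show QuotientGroup.mk (g₁⁻¹ * g₁) = _
    rw [inv_mul_cancel]
  have h2 : g₁⁻¹ • y ≠ QuotientGroup.mk 1 := by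
    intro h
    apply hxy
    rw [← h1] at h
    exact (MulAction.injective g₁⁻¹ h).symm
  rcases C.coset_cases hK hcan hW (g₁⁻¹ • y) with h | ⟨u₁, hu₁, h3⟩
  · exact absurd h h2
  have h4 : (u₁⁻¹ * g₁⁻¹) • (QuotientGroup.mk g₁ : ↥(twistedG2 K e) ⧸ B1sub K e) =
      QuotientGroup.mk 1 := by
    rw [mul_smul, h1]
    show QuotientGroup.mk (u₁⁻¹ * 1) = _
    rw [mk_eq_iff, mul_one, Subgroup.coe_inv, inv_inv, OneMemClass.coe_one, mul_one]
    exact U_le_B hu₁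
  have h5 : (u₁⁻¹ * g₁⁻¹) • y = QuotientGroup.mk C.n0G := by
    rw [mul_smul, h3]
    show QuotientGroup.mk (u₁⁻¹ * (u₁ * C.n0G)) = _
    rw [inv_mul_cancel_left]
  have h6 : (u₁⁻¹ * g₁⁻¹) • z ≠ QuotientGroup.mk 1 := by
    intro h
    apply hxz
    rw [← h4] at h
    exact (MulAction.injective _ h).symm
  rcases C.coset_cases hK hcan hW ((u₁⁻¹ * g₁⁻¹) • z) with h | ⟨u, hu, h7⟩
  · exact absurd h h6
  refine ⟨u₁⁻¹ * g₁⁻¹, u, hu, h4, h5, h7, ?_⟩
  rw [← h7, ← h5]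
  intro h
  exact hyz (MulAction.injective _ h).symm

/-- an element fixing `B¹`, `n₀ B¹` and `u n₀ B¹` (`u ≠ 1`) is `1` or the involution of `H¹` -/
theorem stab_cases (hcan : CanonG2 K) (u s : ↥(twistedG2 K e))
    (hu : (u : GL chevG2.Idx K) ∈ chevG2.posUnipotent K)
    (hne : (QuotientGroup.mk (u * C.n0G) : ↥(twistedG2 K e) ⧸ B1sub K e) ≠ QuotientGroup.mk C.n0G)
    (h1 : s • (QuotientGroup.mk 1 : ↥(twistedG2 K e) ⧸ B1sub K e) = QuotientGroup.mk 1)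
    (h2 : s • (QuotientGroup.mk C.n0G : ↥(twistedG2 K e) ⧸ B1sub K e) = QuotientGroup.mk C.n0G)
    (h3 : s • (QuotientGroup.mk (u * C.n0G) : ↥(twistedG2 K e) ⧸ B1sub K e) =
      QuotientGroup.mk (u * C.n0G)) :
    (s : GL chevG2.Idx K) = 1 ∨ (s : GL chevG2.Idx K) = (C.hh (-1) (-1) : GL chevG2.Idx K) := by
  have hsB : (s : GL chevG2.Idx K) ∈ chevG2.borelSubgroup K := by
    have h := (mk_eq_iff (s * 1) 1).mp h1
    rw [mul_one, OneMemClass.coe_one, mul_one] at h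
    have h' := inv_mem h
    rw [inv_inv] at h'
    exact h'
  have e2 : (C.n0 : GL chevG2.Idx K)⁻¹ * (s : GL chevG2.Idx K) * (C.n0 : GL chevG2.Idx K) ∈
      chevG2.borelSubgroup K := by
    have h := inv_mem ((mk_eq_iff (s * C.n0G) C.n0G).mp h2)
    rw [Subgroup.coe_mul, C.n0G_coe] at h
    have e : (((s : GL chevG2.Idx K) * (C.n0 : GL chevG2.Idx K))⁻¹ * (C.n0 : GL chevG2.Idx K))⁻¹ =
        (C.n0 : GL chevG2.Idx K)⁻¹ * (s : GL chevG2.Idx K) * (C.n0 : GL chevG2.Idx K) := by group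
    rw [e] at h
    exact h
  have hsH : (s : GL chevG2.Idx K) ∈ chevG2.diagonalSubgroup K := C.mem_H_of_conj hcan _ hsB e2
  have e3 : (C.n0 : GL chevG2.Idx K)⁻¹ *
      ((u : GL chevG2.Idx K)⁻¹ * (s : GL chevG2.Idx K) * (u : GL chevG2.Idx K)) *
        (C.n0 : GL chevG2.Idx K) ∈ chevG2.borelSubgroup K := by
    have h := inv_mem ((mk_eq_iff (s * (u * C.n0G)) (u * C.n0G)).mp h3)
    rw [Subgroup.coe_mul, Subgroup.coe_mul, C.n0G_coe] at h
    have e : (((s : GL chevG2.Idx K) * ((u : GL chevG2.Idx K) * (C.n0 : GL chevG2.Idx K)))⁻¹ *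
        ((u : GL chevG2.Idx K) * (C.n0 : GL chevG2.Idx K)))⁻¹ =
        (C.n0 : GL chevG2.Idx K)⁻¹ *
          ((u : GL chevG2.Idx K)⁻¹ * (s : GL chevG2.Idx K) * (u : GL chevG2.Idx K)) *
            (C.n0 : GL chevG2.Idx K) := by group
    rw [e] at h
    exact h
  have hcB : (u : GL chevG2.Idx K)⁻¹ * (s : GL chevG2.Idx K) * (u : GL chevG2.Idx K) ∈
      chevG2.borelSubgroup K := mul_mem (mul_mem (inv_mem (U_le_B hu)) hsB) (U_le_B hu)
  have hcH := C.mem_H_of_conj hcan _ hcB e3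
  have hU' : (s : GL chevG2.Idx K)⁻¹ * (u : GL chevG2.Idx K)⁻¹ * (s : GL chevG2.Idx K)⁻¹⁻¹ *
      (u : GL chevG2.Idx K) ∈ chevG2.posUnipotent K :=
    mul_mem (C.H_conj_U _ _ (inv_mem hsH) (inv_mem hu)) hu
  have hH' : (s : GL chevG2.Idx K)⁻¹ * (u : GL chevG2.Idx K)⁻¹ * (s : GL chevG2.Idx K)⁻¹⁻¹ *
      (u : GL chevG2.Idx K) ∈ chevG2.diagonalSubgroup K := by
    have h := mul_mem (inv_mem hsH) hcH
    have e : (s : GL chevG2.Idx K)⁻¹ *
        ((u : GL chevG2.Idx K)⁻¹ * (s : GL chevG2.Idx K) * (u : GL chevG2.Idx K)) =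
        (s : GL chevG2.Idx K)⁻¹ * (u : GL chevG2.Idx K)⁻¹ * (s : GL chevG2.Idx K)⁻¹⁻¹ *
          (u : GL chevG2.Idx K) := by group
    rw [e] at h
    exact h
  have h1' := C.U_inf_H hcan _ hU' hH'
  have hcomm : (s : GL chevG2.Idx K) * (u : GL chevG2.Idx K) =
      (u : GL chevG2.Idx K) * (s : GL chevG2.Idx K) := by
    calc (s : GL chevG2.Idx K) * (u : GL chevG2.Idx K)
        = (u : GL chevG2.Idx K) * (s : GL chevG2.Idx K) *
            ((s : GL chevG2.Idx K)⁻¹ * (u : GL chevG2.Idx K)⁻¹ * (s : GL chevG2.Idx K)⁻¹⁻¹ *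
              (u : GL chevG2.Idx K)) := by group
      _ = _ := by rw [h1', mul_one]
  have hu1 : (u : GL chevG2.Idx K) ≠ 1 := by
    intro h
    apply hne
    have hu' : u = 1 := Subtype.ext h
    rw [hu', one_mul]
  by_cases hss : (s : GL chevG2.Idx K) * (s : GL chevG2.Idx K) = 1
  · obtain ⟨t, ht, hst⟩ := C.exists_of_mem_H1 _ ⟨hsH, s.2⟩
    have hη : (s : GL chevG2.Idx K) = C.eta (Units.mk0 t ht) := by
      rw [C.eta_apply]; exact hst
    rw [hη, ← map_mul, ← map_one C.eta] at hss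
    have h4 := C.eta_injective hss
    have h5 : t * t = 1 := by
      have := congrArg (fun z : Kˣ => (z : K)) h4
      simpa using this
    rcases mul_self_eq_one_iff.mp h5 with h | h
    · left
      rw [hst, h, map_one]
      exact C.hh_one
    · right
      rw [hst, h, map_neg, map_one]
  · exact absurd (C.centralizer_trivial _ _ ⟨hsH, s.2⟩ hss hu hcomm) hu1

/-- `n₀ ∉ B` -/
theorem n0_not_B (hcan : CanonG2 K) : (C.n0 : GL chevG2.Idx K) ∉ chevG2.borelSubgroup K :=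
  fun h => C.n0_not_H hcan (Ctx.B_inf_N hcan _ h C.n0_mem_N)

theorem RP010_mem_U : (C.SP.R C.τ 0 1 0 : GL chevG2.Idx K) ∈ chevG2.posUnipotent K := by
  rw [USys.R_eq_E (signs_pos K C.θ)]
  exact C.E_mem_U _ _ _ _ _ _

theorem RP010_ne_one : (C.SP.R C.τ 0 1 0 : GL chevG2.Idx K) ≠ 1 := by
  intro h
  have h1 : C.SP.R C.τ 0 1 0 = C.SP.E 0 0 0 0 0 0 := by
    rw [C.E_zero]; exact Subtype.ext h
  rw [USys.R_eq_E (signs_pos K C.θ)] at h1
  obtain ⟨-, -, -, -, a10, -⟩ := C.E_inj _ _ _ _ _ _ _ _ _ _ _ _ h1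
  rw [map_zero] at a10
  norm_num at a10

theorem hh_neg_one_ne_one : (C.hh (-1) (-1) : GL chevG2.Idx K) ≠ 1 := by
  intro h
  have h1 : C.eta (-1) = C.eta 1 := by
    rw [C.eta_apply, map_one, Units.val_neg, Units.val_one, map_neg, map_one]
    exact h
  have h2 := C.eta_injective h1
  have h3 : (-1 : K) = 1 := by
    have := congrArg (fun z : Kˣ => (z : K)) h2
    simpa using this
  have h5 : (3 : K) = 0 := by exact_mod_cast CharP.cast_eq_zero K 3
  have h6 : (1 : K) = 0 := by linear_combination h5 + h3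
  exact one_ne_zero h6

/-- the involution of `H¹` centralises `x_{a+b}(1) x_{3a+b}(1)` -/
theorem hh_neg_one_comm :
    (C.hh (-1) (-1) : GL chevG2.Idx K) * (C.SP.R C.τ 0 1 0 : GL chevG2.Idx K) =
      (C.SP.R C.τ 0 1 0 : GL chevG2.Idx K) * (C.hh (-1) (-1) : GL chevG2.Idx K) := by
  have h : C.hh (-1) (-1) * C.SP.R C.τ 0 1 0 = C.SP.R C.τ 0 1 0 * C.hh (-1) (-1) := by
    rw [USys.R_eq_E (signs_pos K C.θ),
      C.hh_mul_E _ _ (neg_ne_zero.mpr one_ne_zero) (neg_ne_zero.mpr one_ne_zero)]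
    obtain ⟨-, -, v8, -, v10, -⟩ := chi_vals (-1 : K) (-1)
    rw [v8, v10]
    have a8 : (-1 : K) ^ (-1 : ℤ) * (-1 : K) ^ (1 : ℤ) = 1 := by
      rw [zpow_neg, zpow_one]; norm_num
    have a10 : (-1 : K) ^ (3 : ℤ) * (-1 : K) ^ (-1 : ℤ) = 1 := by
      rw [zpow_neg, zpow_one, zpow_ofNat]; norm_num
    rw [a8, a10]
    simp only [map_zero, map_one, mul_zero, add_zero, one_mul]
    have z : (0 : K) + 0 ^ 3 * 0 ^ 2 = 0 := by norm_num
    rw [z, mul_zero]
  exact congrArg (fun z : ↥(chevG2.group K) => (z : GL chevG2.Idx K)) h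

include C in
/-- the three-point stabilisers of `²G₂(q)` on the cosets of `B¹` -/
theorem three_point [Fintype K] {m : ℕ} (hK : Fintype.card K = 3 ^ (2 * m + 1)) (hcan : CanonG2 K)
    (hW : WeylG2 K) :
    (∀ x y z : ↥(twistedG2 K e) ⧸ B1sub K e, x ≠ y → x ≠ z → y ≠ z →
        Nat.card ↥(MulAction.stabilizer ↥(twistedG2 K e) x ⊓
          MulAction.stabilizer ↥(twistedG2 K e) y ⊓
          MulAction.stabilizer ↥(twistedG2 K e) z) ≤ 2) ∧
      ∃ x y z : ↥(twistedG2 K e) ⧸ B1sub K e, x ≠ y ∧ x ≠ z ∧ y ≠ z ∧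
        Nat.card ↥(MulAction.stabilizer ↥(twistedG2 K e) x ⊓
          MulAction.stabilizer ↥(twistedG2 K e) y ⊓
          MulAction.stabilizer ↥(twistedG2 K e) z) = 2 := by
  constructor
  · intro x y z hxy hxz hyz
    obtain ⟨g, u, hu, hx, hy, hz, hne⟩ := C.exists_move hK hcan hW x y z hxy hxz hyz
    have key : ∀ s : ↥(MulAction.stabilizer ↥(twistedG2 K e) x ⊓
          MulAction.stabilizer ↥(twistedG2 K e) y ⊓ MulAction.stabilizer ↥(twistedG2 K e) z),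
        ((g * (s : ↥(twistedG2 K e)) * g⁻¹ : ↥(twistedG2 K e)) : GL chevG2.Idx K) = 1 ∨
        ((g * (s : ↥(twistedG2 K e)) * g⁻¹ : ↥(twistedG2 K e)) : GL chevG2.Idx K) =
          (C.hh (-1) (-1) : GL chevG2.Idx K) := by
      rintro ⟨s, ⟨hs1, hs2⟩, hs3⟩
      have hs1' : s • x = x := hs1
      have hs2' : s • y = y := hs2
      have hs3' : s • z = z := hs3
      apply C.stab_cases hcan u (g * s * g⁻¹) hu hne
      · rw [← hx, mul_smul, mul_smul, inv_smul_smul, hs1']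
      · rw [← hy, mul_smul, mul_smul, inv_smul_smul, hs2']
      · rw [← hz, mul_smul, mul_smul, inv_smul_smul, hs3']
    classical
    let f : ↥(MulAction.stabilizer ↥(twistedG2 K e) x ⊓
          MulAction.stabilizer ↥(twistedG2 K e) y ⊓ MulAction.stabilizer ↥(twistedG2 K e) z) →
        Bool := fun s =>
      decide (((g * (s : ↥(twistedG2 K e)) * g⁻¹ : ↥(twistedG2 K e)) : GL chevG2.Idx K) = 1)
    have hf : Function.Injective f := by
      intro s s' h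
      have h' : (((g * (s : ↥(twistedG2 K e)) * g⁻¹ : ↥(twistedG2 K e)) : GL chevG2.Idx K) = 1) ↔
          (((g * (s' : ↥(twistedG2 K e)) * g⁻¹ : ↥(twistedG2 K e)) : GL chevG2.Idx K) = 1) := by
        simpa [f] using h
      have h2 : ((g * (s : ↥(twistedG2 K e)) * g⁻¹ : ↥(twistedG2 K e)) : GL chevG2.Idx K) =
          ((g * (s' : ↥(twistedG2 K e)) * g⁻¹ : ↥(twistedG2 K e)) : GL chevG2.Idx K) := by
        rcases key s with a | a
        · rw [a, h'.mp a]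
        · rcases key s' with b | b
          · rw [h'.mpr b, b]
          · rw [a, b]
      have h3 : g * (s : ↥(twistedG2 K e)) * g⁻¹ = g * (s' : ↥(twistedG2 K e)) * g⁻¹ :=
        Subtype.ext h2
      exact Subtype.ext (mul_left_cancel (mul_right_cancel h3))
    calc Nat.card _ ≤ Nat.card Bool := Nat.card_le_card_of_injective f hf
      _ = 2 := by rw [Nat.card_eq_fintype_card, Fintype.card_bool]
  · obtain ⟨u0, hu0⟩ : ∃ u0 : ↥(twistedG2 K e),
        (u0 : GL chevG2.Idx K) = (C.SP.R C.τ 0 1 0 : GL chevG2.Idx K) :=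
      ⟨⟨_, C.RP_mem 0 1 0⟩, rfl⟩
    obtain ⟨j, hj⟩ : ∃ j : ↥(twistedG2 K e),
        (j : GL chevG2.Idx K) = (C.hh (-1) (-1) : GL chevG2.Idx K) :=
      ⟨⟨_, C.hh_neg_one_mem⟩, rfl⟩
    have hu0U : (u0 : GL chevG2.Idx K) ∈ chevG2.posUnipotent K := by
      rw [hu0]; exact C.RP010_mem_U
    have hjH : (j : GL chevG2.Idx K) ∈ chevG2.diagonalSubgroup K := by
      rw [hj]
      exact C.hh_mem_H _ _ (neg_ne_zero.mpr one_ne_zero) (neg_ne_zero.mpr one_ne_zero)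
    have hcomm : (j : GL chevG2.Idx K) * (u0 : GL chevG2.Idx K) =
        (u0 : GL chevG2.Idx K) * (j : GL chevG2.Idx K) := by
      rw [hj, hu0]; exact C.hh_neg_one_comm
    have hne : (QuotientGroup.mk (u0 * C.n0G) : ↥(twistedG2 K e) ⧸ B1sub K e) ≠
        QuotientGroup.mk C.n0G := by
      rw [Ne, mk_eq_iff, Subgroup.coe_mul, C.n0G_coe]
      intro h
      have h' := inv_mem h
      have e1 : (((u0 : GL chevG2.Idx K) * (C.n0 : GL chevG2.Idx K))⁻¹ *
          (C.n0 : GL chevG2.Idx K))⁻¹ =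
          (C.n0 : GL chevG2.Idx K)⁻¹ * (u0 : GL chevG2.Idx K) * (C.n0 : GL chevG2.Idx K) := by
        group
      rw [e1] at h'
      have h1 := C.U_inf_H hcan _ hu0U (C.mem_H_of_conj hcan _ (U_le_B hu0U) h')
      rw [hu0] at h1
      exact C.RP010_ne_one h1
    have hj1 : j • (QuotientGroup.mk 1 : ↥(twistedG2 K e) ⧸ B1sub K e) = QuotientGroup.mk 1 := by
      show QuotientGroup.mk (j * 1) = _
      rw [mk_eq_iff, mul_one, OneMemClass.coe_one, mul_one]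
      exact inv_mem (H_le_B hjH)
    have hj2 : j • (QuotientGroup.mk C.n0G : ↥(twistedG2 K e) ⧸ B1sub K e) =
        QuotientGroup.mk C.n0G := by
      show QuotientGroup.mk (j * C.n0G) = _
      rw [mk_eq_iff, Subgroup.coe_mul, C.n0G_coe]
      have e1 : ((j : GL chevG2.Idx K) * (C.n0 : GL chevG2.Idx K))⁻¹ * (C.n0 : GL chevG2.Idx K) =
          (C.n0 : GL chevG2.Idx K)⁻¹ * (j : GL chevG2.Idx K)⁻¹ * (C.n0 : GL chevG2.Idx K) := by
        group
      rw [e1]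
      exact H_le_B (N_conj_H _ _ C.n0_mem_N (inv_mem hjH)).2
    have hj3 : j • (QuotientGroup.mk (u0 * C.n0G) : ↥(twistedG2 K e) ⧸ B1sub K e) =
        QuotientGroup.mk (u0 * C.n0G) := by
      show QuotientGroup.mk (j * (u0 * C.n0G)) = _
      rw [mk_eq_iff, Subgroup.coe_mul, Subgroup.coe_mul, C.n0G_coe]
      have e1 : ((j : GL chevG2.Idx K) * ((u0 : GL chevG2.Idx K) * (C.n0 : GL chevG2.Idx K)))⁻¹ *
          ((u0 : GL chevG2.Idx K) * (C.n0 : GL chevG2.Idx K)) =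
          (C.n0 : GL chevG2.Idx K)⁻¹ * (j : GL chevG2.Idx K)⁻¹ * (C.n0 : GL chevG2.Idx K) := by
        calc ((j : GL chevG2.Idx K) * ((u0 : GL chevG2.Idx K) * (C.n0 : GL chevG2.Idx K)))⁻¹ *
              ((u0 : GL chevG2.Idx K) * (C.n0 : GL chevG2.Idx K))
            = ((j : GL chevG2.Idx K) * (u0 : GL chevG2.Idx K) * (C.n0 : GL chevG2.Idx K))⁻¹ *
              ((u0 : GL chevG2.Idx K) * (C.n0 : GL chevG2.Idx K)) := by rw [mul_assoc]
          _ = ((u0 : GL chevG2.Idx K) * (j : GL chevG2.Idx K) * (C.n0 : GL chevG2.Idx K))⁻¹ *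
              ((u0 : GL chevG2.Idx K) * (C.n0 : GL chevG2.Idx K)) := by rw [hcomm]
          _ = _ := by group
      rw [e1]
      exact H_le_B (N_conj_H _ _ C.n0_mem_N (inv_mem hjH)).2
    refine ⟨QuotientGroup.mk 1, QuotientGroup.mk C.n0G, QuotientGroup.mk (u0 * C.n0G),
      ?_, ?_, hne.symm, ?_⟩
    · rw [Ne, mk_eq_iff, OneMemClass.coe_one, inv_one, one_mul]
      exact C.n0_not_B hcan
    · rw [Ne, mk_eq_iff, OneMemClass.coe_one, inv_one, one_mul, Subgroup.coe_mul, C.n0G_coe]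
      intro h
      apply C.n0_not_B hcan
      have e1 : (C.n0 : GL chevG2.Idx K) =
          (u0 : GL chevG2.Idx K)⁻¹ * ((u0 : GL chevG2.Idx K) * (C.n0 : GL chevG2.Idx K)) := by
        rw [inv_mul_cancel_left]
      rw [e1]
      exact mul_mem (inv_mem (U_le_B hu0U)) h
    · rw [Nat.card_eq_two_iff]
      refine ⟨⟨1, one_mem _⟩, ⟨j, ⟨⟨hj1, hj2⟩, hj3⟩⟩, ?_, ?_⟩
      · intro h
        have h1 : (1 : ↥(twistedG2 K e)) = j := congrArg Subtype.val h
        have h2 : ((1 : ↥(twistedG2 K e)) : GL chevG2.Idx K) = (j : GL chevG2.Idx K) := by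
          rw [← h1]
        rw [hj, OneMemClass.coe_one] at h2
        exact C.hh_neg_one_ne_one h2.symm
      · rw [Set.eq_univ_iff_forall]
        rintro ⟨s, ⟨hs1, hs2⟩, hs3⟩
        rw [Set.mem_insert_iff, Set.mem_singleton_iff]
        rcases C.stab_cases hcan u0 s hu0U hne hs1 hs2 hs3 with h | h
        · left
          exact Subtype.ext (Subtype.ext h)
        · right
          exact Subtype.ext (Subtype.ext (h.trans hj.symm))

end Ctx

end Cfsg.Agent.H22.Ree
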