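import Cfsg.Agent.H22.ReeBN
/-!
The Sylow 3-subgroups of `²G₂(q)` intersect trivially (helper22).
-/
set_option autoImplicit false
open Cfsg Cfsg.Lie
open scoped Pointwise

namespace Cfsg.Agent.H22.Ree

open Cfsg.Agent.H22 Cfsg.Agent.H22.GEx

/-- the subgroup `U¹` of `²G₂` -/
abbrev U1sub (K : Type*) [Field K] (e : ℕ) : Subgroup ↥(twistedG2 K e) :=
  (chevG2.posUnipotent K ⊓ twistedG2 K e).subgroupOf (twistedG2 K e)

theorem mem_U1sub {K : Type*} [Field K] {e : ℕ} (x : ↥(twistedG2 K e)) :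
    x ∈ U1sub K e ↔ (x : GL chevG2.Idx K) ∈ chevG2.posUnipotent K := by
  rw [Subgroup.mem_subgroupOf]
  constructor
  · intro h; exact h.1
  · intro h; exact ⟨h, x.2⟩

theorem three_coprime (m k : ℕ) :
    Nat.Coprime (3 ^ k) ((3 ^ (2 * m + 1) - 1) * ((3 ^ (2 * m + 1)) ^ 3 + 1)) := by
  apply Nat.Coprime.pow_left
  rw [Nat.Prime.coprime_iff_not_dvd Nat.prime_three]
  intro h
  have h1 : 3 ^ (2 * m + 1) = 3 * 3 ^ (2 * m) := by rw [pow_succ]; ring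
  have h2 : 1 ≤ 3 ^ (2 * m) := Nat.one_le_pow _ _ (by norm_num)
  have h3 : (3 ^ (2 * m + 1)) ^ 3 = 3 * (9 * (3 ^ (2 * m)) ^ 3) := by rw [h1]; ring
  rcases (Nat.Prime.dvd_mul Nat.prime_three).mp h with h | h
  · rw [h1] at h
    omega
  · rw [h3] at h
    omega

namespace Ctx

variable {K : Type*} [Field K] [CharP K 3] {e : ℕ} (C : Ctx K e)

include C in
/-- `B` normalises `U` -/
theorem B_conj_U (b u : GL chevG2.Idx K) (hb : b ∈ chevG2.borelSubgroup K)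
    (hu : u ∈ chevG2.posUnipotent K) : b * u * b⁻¹ ∈ chevG2.posUnipotent K := by
  obtain ⟨u', hu', h', hh', rfl⟩ := C.exists_mul_of_mem_B b hb
  have e1 : u' * h' * u * (u' * h')⁻¹ = u' * (h' * u * h'⁻¹) * u'⁻¹ := by group
  rw [e1]
  exact mul_mem (mul_mem hu' (C.H_conj_U h' u hh' hu)) (inv_mem hu')

/-- `U ∩ n₀ U n₀⁻¹ = 1` -/
theorem U_inf_conj (hcan : CanonG2 K) (u v : GL chevG2.Idx K) (hu : u ∈ chevG2.posUnipotent K)
    (hv : v ∈ chevG2.posUnipotent K)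
    (h : u = (C.n0 : GL chevG2.Idx K) * v * (C.n0 : GL chevG2.Idx K)⁻¹) : u = 1 := by
  have hv' : v ∈ Um K (C.n0 : GL chevG2.Idx K) := by rw [C.Um_n0]; exact hv
  have heq : u * (C.n0 : GL chevG2.Idx K) * 1 = 1 * (C.n0 : GL chevG2.Idx K) * v := by
    rw [h]; group
  exact ((hcan.2 u 1 C.n0 C.n0 1 v (U_le_B hu) (one_mem _) C.n0_mem_N C.n0_mem_N (one_mem _) hv'
    heq).2 rfl).1

include C in
/-- `U¹` is a Sylow 3-subgroup of `²G₂` -/
theorem exists_sylow_eq_U1 [Fintype K] {m : ℕ} (hK : Fintype.card K = 3 ^ (2 * m + 1))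
    (hcan : CanonG2 K) (hW : WeylG2 K) :
    ∃ P₀ : Sylow 3 ↥(twistedG2 K e), (P₀ : Subgroup ↥(twistedG2 K e)) = U1sub K e := by
  have : Fact (Nat.Prime 3) := ⟨Nat.prime_three⟩
  have hcU : Nat.card ↥(U1sub K e) = (3 ^ (2 * m + 1)) ^ 3 := by
    rw [Nat.card_congr (Subgroup.subgroupOfEquivOfLe inf_le_right).toEquiv, C.card_eq,
      Nat.card_eq_fintype_card, hK]
  have hp : IsPGroup 3 ↥(U1sub K e) :=
    IsPGroup.of_card (n := (2 * m + 1) * 3) (by rw [hcU, ← pow_mul])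
  obtain ⟨Q, hQ⟩ := hp.exists_le_sylow
  refine ⟨Q, ?_⟩
  symm
  apply Subgroup.eq_of_le_of_card_ge hQ
  rw [hcU]
  obtain ⟨k, hk⟩ := IsPGroup.iff_card.mp Q.isPGroup'
  have hdvd : Nat.card ↥(Q : Subgroup ↥(twistedG2 K e)) ∣ Nat.card ↥(twistedG2 K e) :=
    Subgroup.card_subgroup_dvd_card _
  rw [C.card_twisted hK hcan hW, hk, mul_assoc] at hdvd
  have h1 : 3 ^ k ∣ (3 ^ (2 * m + 1)) ^ 3 := (three_coprime m k).dvd_of_dvd_mul_right hdvd
  rw [hk]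
  exact Nat.le_of_dvd (by positivity) h1

include C in
/-- distinct Sylow 3-subgroups of `²G₂` intersect trivially -/
theorem sylow3_TI [Fintype K] {m : ℕ} (hK : Fintype.card K = 3 ^ (2 * m + 1)) (hcan : CanonG2 K)
    (hW : WeylG2 K) (P Q : Sylow 3 ↥(twistedG2 K e)) (hPQ : P ≠ Q) :
    (P : Subgroup ↥(twistedG2 K e)) ⊓ (Q : Subgroup ↥(twistedG2 K e)) = ⊥ := by
  have : Fact (Nat.Prime 3) := ⟨Nat.prime_three⟩
  obtain ⟨P₀, hP₀⟩ := C.exists_sylow_eq_U1 hK hcan hW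
  have hmem : ∀ (g x : ↥(twistedG2 K e)), x ∈ ((g • P₀ : Sylow 3 ↥(twistedG2 K e)) :
      Subgroup ↥(twistedG2 K e)) ↔
      (g : GL chevG2.Idx K)⁻¹ * (x : GL chevG2.Idx K) * (g : GL chevG2.Idx K) ∈
        chevG2.posUnipotent K := by
    intro g x
    rw [Sylow.coe_subgroup_smul, Subgroup.mem_pointwise_smul_iff_inv_smul_mem, MulAut.smul_def,
      MulAut.conj_inv_apply, hP₀, mem_U1sub]
    rfl
  obtain ⟨g, rfl⟩ := MulAction.exists_smul_eq ↥(twistedG2 K e) P₀ P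
  obtain ⟨h, rfl⟩ := MulAction.exists_smul_eq ↥(twistedG2 K e) P₀ Q
  rw [eq_bot_iff]
  intro x hx
  rw [Subgroup.mem_bot]
  obtain ⟨hx1', hx2'⟩ := Subgroup.mem_inf.mp hx
  have hx1 := (hmem g x).mp hx1'
  have hx2 := (hmem h x).mp hx2'
  rcases C.mem_decomp hK hcan hW ((g : GL chevG2.Idx K)⁻¹ * (h : GL chevG2.Idx K))
      (mul_mem (inv_mem g.2) h.2) with hk | ⟨b, hb, u, hu, hk⟩
  · -- `g⁻¹ h ∈ B` normalises `U`, so the two Sylow subgroups coincide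
    exfalso
    apply hPQ
    apply Sylow.ext
    ext y
    rw [hmem, hmem]
    constructor
    · intro hy
      have h1 := C.B_conj_U _ _ (inv_mem hk.1) hy
      have e1 : ((g : GL chevG2.Idx K)⁻¹ * (h : GL chevG2.Idx K))⁻¹ *
          ((g : GL chevG2.Idx K)⁻¹ * (y : GL chevG2.Idx K) * (g : GL chevG2.Idx K)) *
          ((g : GL chevG2.Idx K)⁻¹ * (h : GL chevG2.Idx K))⁻¹⁻¹ =
          (h : GL chevG2.Idx K)⁻¹ * (y : GL chevG2.Idx K) * (h : GL chevG2.Idx K) := by group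
      rw [e1] at h1
      exact h1
    · intro hy
      have h1 := C.B_conj_U _ _ hk.1 hy
      have e1 : (g : GL chevG2.Idx K)⁻¹ * (h : GL chevG2.Idx K) *
          ((h : GL chevG2.Idx K)⁻¹ * (y : GL chevG2.Idx K) * (h : GL chevG2.Idx K)) *
          ((g : GL chevG2.Idx K)⁻¹ * (h : GL chevG2.Idx K))⁻¹ =
          (g : GL chevG2.Idx K)⁻¹ * (y : GL chevG2.Idx K) * (g : GL chevG2.Idx K) := by group
      rw [e1] at h1
      exact h1
  · -- `g⁻¹ h = b n₀ u`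
    have h4 : b⁻¹ * ((g : GL chevG2.Idx K)⁻¹ * (x : GL chevG2.Idx K) * (g : GL chevG2.Idx K)) *
        b⁻¹⁻¹ ∈ chevG2.posUnipotent K := C.B_conj_U _ _ (inv_mem hb.1) hx1
    have h3 : u * ((h : GL chevG2.Idx K)⁻¹ * (x : GL chevG2.Idx K) * (h : GL chevG2.Idx K)) *
        u⁻¹ ∈ chevG2.posUnipotent K := C.B_conj_U _ _ (U_le_B hu.1) hx2
    have hh : (h : GL chevG2.Idx K) = (g : GL chevG2.Idx K) * (b * (C.n0 : GL chevG2.Idx K) * u) := by
      rw [← hk]; group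
    have e1 : b⁻¹ * ((g : GL chevG2.Idx K)⁻¹ * (x : GL chevG2.Idx K) * (g : GL chevG2.Idx K)) *
        b⁻¹⁻¹ = (C.n0 : GL chevG2.Idx K) *
          (u * ((h : GL chevG2.Idx K)⁻¹ * (x : GL chevG2.Idx K) * (h : GL chevG2.Idx K)) * u⁻¹) *
          (C.n0 : GL chevG2.Idx K)⁻¹ := by
      rw [hh]; group
    have h5 := C.U_inf_conj hcan _ _ h4 h3 e1
    have h6 : (x : GL chevG2.Idx K) = 1 := by
      have e2 : (x : GL chevG2.Idx K) = (g : GL chevG2.Idx K) * b *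
          (b⁻¹ * ((g : GL chevG2.Idx K)⁻¹ * (x : GL chevG2.Idx K) * (g : GL chevG2.Idx K)) *
            b⁻¹⁻¹) * b⁻¹ * (g : GL chevG2.Idx K)⁻¹ := by group
      rw [e2, h5]; group
    exact Subtype.ext h6

end Ctx

end Cfsg.Agent.H22.Ree
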