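import Cfsg.Agent.H22.ReeG2
/-!
The σ-fixed points of `U` in `G₂` (characteristic 3) are the Ree words; `²G₂ ∩ U` (helper22).
-/
set_option autoImplicit false
open Cfsg Cfsg.Lie

namespace Cfsg.Agent.H22.Ree

open Cfsg.Agent.H22.GEx

theorem posRoots_G2 : chevG2.posRoots = [6, 7, 8, 9, 10, 11] := by decide +kernel

/-- everything needed about `G₂(K)`, `K` of characteristic 3 with `θ = (·)^e`, `3e² ≡ 1`. -/
structure Ctx (K : Type*) [Field K] [CharP K 3] (e : ℕ) where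
  θ : chevG2.SteinbergGroup K →* ↥(chevG2.group K)
  hs : Function.Surjective θ
  hx : ∀ (r : ℕ) (t : K), r < chevG2.nroots →
    ((θ (chevG2.stGen K r t) : GL chevG2.Idx K) : Matrix chevG2.Idx chevG2.Idx K) = chevG2.x K r t
  τ : K →+* K
  τ_eq : ∀ c : K, τ c = c ^ e
  hτ : ∀ c : K, τ (τ c) ^ 3 = c
  σ : ↥(chevG2.group K) ≃* ↥(chevG2.group K)
  ψ : chevG2.SteinbergGroup K →* chevG2.SteinbergGroup K
  hσψ : ∀ x, σ (θ x) = θ (ψ x)
  hψ : ∀ (r : ℕ) (t : K), r < chevG2.nroots →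
    ψ (chevG2.stGen K r t) = chevG2.stGen K (rhoG2 r) (τ t ^ lamG2 r)
  hU : ∀ g : GL chevG2.Idx K, g ∈ chevG2.posUnipotent K →
      ∃! t : ℕ → K, (∀ r, ¬ chevG2.IsPosRoot r → t r = 0) ∧
        (g : Matrix chevG2.Idx chevG2.Idx K) = chevG2.wordMat K (chevG2.posRoots.map fun r => (r, t r))

namespace Ctx

variable {K : Type*} [Field K] [CharP K 3] {e : ℕ} (C : Ctx K e)

/-- the positive system -/
abbrev SP : USys K ↥(chevG2.group K) := sysPos K C.θ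

/-- the negative system -/
abbrev SN : USys K ↥(chevG2.group K) := sysNeg K C.θ

theorem hσ (r : ℕ) (t : K) (hr : r < chevG2.nroots) :
    C.σ (xg K C.θ r t) = xg K C.θ (rhoG2 r) (C.τ t ^ lamG2 r) := by
  unfold xg
  rw [C.hσψ, C.hψ r t hr]

theorem xg_val (r : ℕ) (hr : r < chevG2.nroots) (t : K) :
    ((xg K C.θ r t : GL chevG2.Idx K) : Matrix chevG2.Idx chevG2.Idx K) = chevG2.x K r t :=
  C.hx r t hr

omit [CharP K 3] in
theorem wordMat6 (a1 a2 a3 a4 a5 a6 : ℕ) (c1 c2 c3 c4 c5 c6 : K) :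
    chevG2.wordMat K [(a1, c1), (a2, c2), (a3, c3), (a4, c4), (a5, c5), (a6, c6)] =
      chevG2.x K a1 c1 * chevG2.x K a2 c2 *
        (chevG2.x K a3 c3 * chevG2.x K a4 c4 * chevG2.x K a5 c5 * chevG2.x K a6 c6) := by
  unfold ChevalleyDatum.wordMat
  simp only [List.map_cons, List.map_nil, List.prod_cons, List.prod_nil, mul_one, mul_assoc]

theorem E_val (c6 c7 c8 c9 c10 c11 : K) :
    ((C.SP.E c6 c7 c8 c9 c10 c11 : GL chevG2.Idx K) : Matrix chevG2.Idx chevG2.Idx K) =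
      chevG2.wordMat K [(6, c6), (7, c7), (8, c8), (9, c9), (10, c10), (11, c11)] := by
  rw [wordMat6]
  unfold USys.E USys.P
  simp only [Subgroup.coe_mul, Units.val_mul]
  rw [← C.xg_val 6 (by decide), ← C.xg_val 7 (by decide), ← C.xg_val 8 (by decide),
    ← C.xg_val 9 (by decide), ← C.xg_val 10 (by decide), ← C.xg_val 11 (by decide)]
  rfl

theorem E'_val (s t c8 c9 c10 c11 : K) :
    ((C.SP.E' s t c8 c9 c10 c11 : GL chevG2.Idx K) : Matrix chevG2.Idx chevG2.Idx K) =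
      chevG2.wordMat K [(7, s), (6, t), (8, c8), (9, c9), (10, c10), (11, c11)] := by
  rw [wordMat6]
  unfold USys.E' USys.P
  simp only [Subgroup.coe_mul, Units.val_mul]
  rw [← C.xg_val 6 (by decide), ← C.xg_val 7 (by decide), ← C.xg_val 8 (by decide),
    ← C.xg_val 9 (by decide), ← C.xg_val 10 (by decide), ← C.xg_val 11 (by decide)]
  rfl

theorem EN'_val (s t c8 c9 c10 c11 : K) :
    ((C.SN.E' s t c8 c9 c10 c11 : GL chevG2.Idx K) : Matrix chevG2.Idx chevG2.Idx K) =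
      chevG2.wordMat K [(4, -s), (5, -t), (3, -c8), (2, -c9), (1, -c10), (0, -c11)] := by
  rw [wordMat6]
  unfold USys.E' USys.P
  simp only [Subgroup.coe_mul, Units.val_mul]
  rw [← C.xg_val 5 (by decide), ← C.xg_val 4 (by decide), ← C.xg_val 3 (by decide),
    ← C.xg_val 2 (by decide), ← C.xg_val 1 (by decide), ← C.xg_val 0 (by decide)]
  rfl

theorem pow_e1 (t : K) : t ^ (e + 1) = C.τ t * t := by rw [pow_succ, C.τ_eq]

theorem pow_e2 (t : K) : t ^ (2 * e + 1) = C.τ t ^ 2 * t := by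
  rw [pow_succ, C.τ_eq, ← pow_mul, mul_comm e 2]

theorem R_val (t u v : K) :
    ((C.SP.R C.τ t u v : GL chevG2.Idx K) : Matrix chevG2.Idx chevG2.Idx K) =
      chevG2.wordMat K (reeWordU e t u v) := by
  unfold USys.R
  rw [C.E'_val]
  unfold reeWordU g2a g2b g2ab g2aab g2aaab g2aaabb
  rw [C.pow_e1, C.pow_e2, ← C.τ_eq, ← C.τ_eq, ← C.τ_eq]

theorem RN_val (t u v : K) :
    ((C.SN.R C.τ t u v : GL chevG2.Idx K) : Matrix chevG2.Idx chevG2.Idx K) =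
      chevG2.wordMat K (reeWordV e t u v) := by
  unfold USys.R
  rw [C.EN'_val]
  have hw : reeWordV e t u v = [(4, -(t ^ e)), (5, -t), (3, -(t ^ (e + 1) + u ^ e)),
      (2, -(t ^ (2 * e + 1) + v ^ e)), (1, -u), (0, -v)] := by
    unfold reeWordV reeWordU ChevalleyDatum.negWord g2a g2b g2ab g2aab g2aaab g2aaabb
    rfl
  rw [hw, C.pow_e1, C.pow_e2, ← C.τ_eq, ← C.τ_eq, ← C.τ_eq]

theorem twP : C.SP.Tw C.σ.toMonoidHom C.τ := tw_pos K C.θ C.τ C.σ C.hτ C.hσ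

theorem twN : C.SN.Tw C.σ.toMonoidHom C.τ := tw_neg K C.θ C.τ C.σ C.hτ C.hσ

theorem xg_mem_U (r : ℕ) (hr : chevG2.IsPosRoot r) (t : K) :
    (xg K C.θ r t : GL chevG2.Idx K) ∈ chevG2.posUnipotent K :=
  Subgroup.subset_closure ⟨r, t, hr, C.xg_val r hr.1 t⟩

theorem E_mem_U (c6 c7 c8 c9 c10 c11 : K) :
    (C.SP.E c6 c7 c8 c9 c10 c11 : GL chevG2.Idx K) ∈ chevG2.posUnipotent K := by
  unfold USys.E USys.P
  simp only [Subgroup.coe_mul]
  have h6 := C.xg_mem_U 6 (by decide) c6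
  have h7 := C.xg_mem_U 7 (by decide) c7
  have h8 := C.xg_mem_U 8 (by decide) c8
  have h9 := C.xg_mem_U 9 (by decide) c9
  have h10 := C.xg_mem_U 10 (by decide) c10
  have h11 := C.xg_mem_U 11 (by decide) c11
  exact mul_mem (mul_mem h6 h7) (mul_mem (mul_mem (mul_mem h8 h9) h10) h11)

/-- coefficient function of a 6-tuple -/
def tf (c6 c7 c8 c9 c10 c11 : K) (r : ℕ) : K :=
  if r = 6 then c6 else if r = 7 then c7 else if r = 8 then c8 else if r = 9 then c9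
  else if r = 10 then c10 else if r = 11 then c11 else 0

omit [CharP K 3] in
theorem tf_zero (c6 c7 c8 c9 c10 c11 : K) (r : ℕ) (hr : ¬ chevG2.IsPosRoot r) :
    tf c6 c7 c8 c9 c10 c11 r = 0 := by
  unfold tf
  split_ifs with h6 h7 h8 h9 h10 h11
  · subst h6; exact absurd (by decide) hr
  · subst h7; exact absurd (by decide) hr
  · subst h8; exact absurd (by decide) hr
  · subst h9; exact absurd (by decide) hr
  · subst h10; exact absurd (by decide) hr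
  · subst h11; exact absurd (by decide) hr
  · rfl

theorem E_val_tf (c6 c7 c8 c9 c10 c11 : K) :
    ((C.SP.E c6 c7 c8 c9 c10 c11 : GL chevG2.Idx K) : Matrix chevG2.Idx chevG2.Idx K) =
      chevG2.wordMat K (chevG2.posRoots.map fun r => (r, tf c6 c7 c8 c9 c10 c11 r)) := by
  rw [C.E_val, posRoots_G2]
  rfl

theorem E_inj (c6 c7 c8 c9 c10 c11 d6 d7 d8 d9 d10 d11 : K)
    (h : C.SP.E c6 c7 c8 c9 c10 c11 = C.SP.E d6 d7 d8 d9 d10 d11) :
    c6 = d6 ∧ c7 = d7 ∧ c8 = d8 ∧ c9 = d9 ∧ c10 = d10 ∧ c11 = d11 := by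
  obtain ⟨t0, -, huniq⟩ := C.hU _ (C.E_mem_U c6 c7 c8 c9 c10 c11)
  have h1 := huniq (tf c6 c7 c8 c9 c10 c11) ⟨tf_zero _ _ _ _ _ _, C.E_val_tf _ _ _ _ _ _⟩
  have h2 := huniq (tf d6 d7 d8 d9 d10 d11) ⟨tf_zero _ _ _ _ _ _, by rw [h]; exact C.E_val_tf _ _ _ _ _ _⟩
  have h3 : tf c6 c7 c8 c9 c10 c11 = tf d6 d7 d8 d9 d10 d11 := h1.trans h2.symm
  exact ⟨congrFun h3 6, congrFun h3 7, congrFun h3 8, congrFun h3 9, congrFun h3 10, congrFun h3 11⟩

omit [CharP K 3] in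
theorem posUnipotent_le_group : chevG2.posUnipotent K ≤ chevG2.group K := by
  unfold ChevalleyDatum.posUnipotent
  rw [Subgroup.closure_le]
  rintro g ⟨r, t, hr, hg⟩
  refine Subgroup.subset_closure ⟨⟨r, hr.1⟩, t, ?_⟩
  rw [hg]
  unfold ChevalleyDatum.x
  rw [dif_pos hr.1]

/-- every element of `U` is an `E` -/
theorem exists_E (g : GL chevG2.Idx K) (hg : g ∈ chevG2.posUnipotent K) :
    ∃ c6 c7 c8 c9 c10 c11 : K, g = (C.SP.E c6 c7 c8 c9 c10 c11 : GL chevG2.Idx K) := by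
  obtain ⟨t0, ⟨-, ht0⟩, -⟩ := C.hU g hg
  refine ⟨t0 6, t0 7, t0 8, t0 9, t0 10, t0 11, Units.ext ?_⟩
  rw [ht0, C.E_val, posRoots_G2]
  rfl

/-- elements of the twisted group are fixed by `σ` -/
theorem fixed_of_mem (x : GL chevG2.Idx K) (hx : x ∈ twistedG2 K e) :
    ∃ hx' : x ∈ chevG2.group K, C.σ ⟨x, hx'⟩ = ⟨x, hx'⟩ := by
  unfold twistedG2 ChevalleyDatum.genSubgroup at hx
  induction hx using Subgroup.closure_induction with
  | mem y hy =>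
    obtain ⟨w, ⟨t, u, v, hw | hw⟩, hyw⟩ := hy
    · have hy' : y = (C.SP.R C.τ t u v : GL chevG2.Idx K) := Units.ext (by rw [hyw, hw, C.R_val])
      subst hy'
      refine ⟨(C.SP.R C.τ t u v).2, ?_⟩
      exact C.twP.σ_R (signs_pos K C.θ) t u v
    · have hy' : y = (C.SN.R C.τ t u v : GL chevG2.Idx K) := Units.ext (by rw [hyw, hw, C.RN_val])
      subst hy'
      refine ⟨(C.SN.R C.τ t u v).2, ?_⟩
      exact C.twN.σ_R (signs_neg K C.θ) t u v
  | one => exact ⟨one_mem _, map_one C.σ⟩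
  | mul a b _ _ iha ihb =>
    obtain ⟨ha, ha'⟩ := iha
    obtain ⟨hb, hb'⟩ := ihb
    refine ⟨mul_mem ha hb, ?_⟩
    have : (⟨a * b, mul_mem ha hb⟩ : ↥(chevG2.group K)) = ⟨a, ha⟩ * ⟨b, hb⟩ := rfl
    rw [this, map_mul, ha', hb']
  | inv a _ iha =>
    obtain ⟨ha, ha'⟩ := iha
    refine ⟨inv_mem ha, ?_⟩
    have : (⟨a⁻¹, inv_mem ha⟩ : ↥(chevG2.group K)) = (⟨a, ha⟩)⁻¹ := rfl
    rw [this, map_inv, ha']

include C in
/-- `U ∩ ²G₂` consists of the Ree words -/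
theorem mem_iff (g : GL chevG2.Idx K) :
    g ∈ chevG2.posUnipotent K ⊓ twistedG2 K e ↔
      ∃ t u v : K, (g : Matrix chevG2.Idx chevG2.Idx K) = chevG2.wordMat K (reeWordU e t u v) := by
  constructor
  · rintro ⟨hU, hT⟩
    obtain ⟨c6, c7, c8, c9, c10, c11, rfl⟩ := C.exists_E g hU
    obtain ⟨hx', hfix⟩ := C.fixed_of_mem _ hT
    have hfix' : C.σ.toMonoidHom (C.SP.E c6 c7 c8 c9 c10 c11) = C.SP.E c6 c7 c8 c9 c10 c11 := hfix
    have h := C.twP.fixed_eq_R (signs_pos K C.θ) C.E_inj c6 c7 c8 c9 c10 c11 hfix'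
    refine ⟨c6, c10 - c7 ^ 3 * c6, c11 - c7 ^ 3 * c6 ^ 2, ?_⟩
    rw [h, C.R_val]
  · rintro ⟨t, u, v, h⟩
    have hg : g = (C.SP.R C.τ t u v : GL chevG2.Idx K) := Units.ext (by rw [h, C.R_val])
    constructor
    · rw [hg, USys.R_eq_E (signs_pos K C.θ)]
      exact C.E_mem_U _ _ _ _ _ _
    · exact Subgroup.subset_closure ⟨reeWordU e t u v, ⟨t, u, v, Or.inl rfl⟩, h⟩

/-- the Ree word as an element of `U ∩ ²G₂` -/
def reeEl (q : K × K × K) : ↥(chevG2.posUnipotent K ⊓ twistedG2 K e) :=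
  ⟨(C.SP.R C.τ q.1 q.2.1 q.2.2 : GL chevG2.Idx K),
    (C.mem_iff _).mpr ⟨q.1, q.2.1, q.2.2, C.R_val _ _ _⟩⟩

theorem reeEl_bij : Function.Bijective C.reeEl := by
  constructor
  · rintro ⟨t, u, v⟩ ⟨t', u', v'⟩ h
    have h1 : (C.SP.R C.τ t u v : GL chevG2.Idx K) = (C.SP.R C.τ t' u' v' : GL chevG2.Idx K) :=
      congrArg (fun z : ↥(chevG2.posUnipotent K ⊓ twistedG2 K e) => (z : GL chevG2.Idx K)) h
    have h2 : C.SP.R C.τ t u v = C.SP.R C.τ t' u' v' := Subtype.ext h1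
    obtain ⟨a, b, c⟩ := USys.R_inj (signs_pos K C.θ) C.τ C.E_inj t u v t' u' v' h2
    rw [a, b, c]
  · rintro ⟨g, hg⟩
    obtain ⟨t, u, v, h⟩ := (C.mem_iff g).mp hg
    refine ⟨(t, u, v), Subtype.ext (Units.ext ?_)⟩
    show ((C.SP.R C.τ t u v : GL chevG2.Idx K) : Matrix chevG2.Idx chevG2.Idx K) = _
    rw [C.R_val, h]

include C in
theorem card_eq : Nat.card ↥(chevG2.posUnipotent K ⊓ twistedG2 K e) = Nat.card K ^ 3 := by
  rw [← Nat.card_congr (Equiv.ofBijective C.reeEl C.reeEl_bij), Nat.card_prod, Nat.card_prod]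
  ring

end Ctx

end Cfsg.Agent.H22.Ree
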