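import Cfsg.Agent.H45.S8Defs1
/-!
Team project S1158 (helper45), wave 2, pieces OMCARD, OMSTAB, H1, AINV (helper22).
-/
set_option autoImplicit false
set_option synthInstance.maxHeartbeats 400000
open Cfsg Cfsg.Lie

namespace Cfsg.Agent.H22.S8

open Cfsg.Agent.H22 Cfsg.Agent.H22.GEx Cfsg.Agent.H22.Ree Cfsg.Agent.H7.RT Cfsg.Agent.H45.S8

/-- `|B¹| = q³ (q - 1)` -/
theorem card_B1sub {K : Type*} [Field K] [Fintype K] [CharP K 3] {e m : ℕ} (C : Ctx K e)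
    (hK : Fintype.card K = 3 ^ (2 * m + 1)) (hcan : CanonG2 K) :
    Nat.card ↥(B1sub K e) = (3 ^ (2 * m + 1)) ^ 3 * (3 ^ (2 * m + 1) - 1) := by
  rw [Nat.card_congr (Subgroup.subgroupOfEquivOfLe inf_le_right).toEquiv, C.card_B1 hK hcan,
    C.card_eq, C.card_H1 hK, Nat.card_eq_fintype_card, hK]

/-- the number of cosets of `B¹` -/
theorem card_quot {K : Type*} [Field K] [Fintype K] [CharP K 3] {e m : ℕ} (C : Ctx K e)
    (hK : Fintype.card K = 3 ^ (2 * m + 1)) (hcan : CanonG2 K) (hW : WeylG2 K) :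
    Nat.card (↥(twistedG2 K e) ⧸ B1sub K e) = (3 ^ (2 * m + 1)) ^ 3 + 1 := by
  have h1 := Subgroup.card_eq_card_quotient_mul_card_subgroup (B1sub K e)
  rw [C.card_twisted hK hcan hW, card_B1sub C hK hcan] at h1
  have h3 : 1 ≤ 3 ^ (2 * m + 1) - 1 := by
    have : 3 ^ 1 ≤ 3 ^ (2 * m + 1) := Nat.pow_le_pow_right (by norm_num) (by omega)
    omega
  have hpos : 0 < (3 ^ (2 * m + 1)) ^ 3 * (3 ^ (2 * m + 1) - 1) :=
    Nat.mul_pos (by positivity) h3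
  have h2 : ((3 ^ (2 * m + 1)) ^ 3 + 1) * ((3 ^ (2 * m + 1)) ^ 3 * (3 ^ (2 * m + 1) - 1)) =
      Nat.card (↥(twistedG2 K e) ⧸ B1sub K e) *
        ((3 ^ (2 * m + 1)) ^ 3 * (3 ^ (2 * m + 1) - 1)) := by
    rw [← h1]; ring
  exact (Nat.eq_of_mul_eq_mul_right hpos h2).symm

/-- (OMCARD) -/
theorem omCard {K : Type*} [Field K] [Fintype K] [CharP K 3] {m : ℕ} (C : Ctx K (3 ^ m))
    (hK : Fintype.card K = 3 ^ (2 * m + 1)) (hcan : CanonG2 K) (hW : WeylG2 K) :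
    StOmCard K m := by
  unfold StOmCard qq
  exact card_quot C hK hcan hW

/-- an element fixing a point has order dividing `|B¹|` -/
theorem stab_pow {K : Type*} [Field K] [Fintype K] [CharP K 3] {e m : ℕ} (C : Ctx K e)
    (hK : Fintype.card K = 3 ^ (2 * m + 1)) (hcan : CanonG2 K)
    (g : ↥(twistedG2 K e)) (x : ↥(twistedG2 K e) ⧸ B1sub K e) (hx : g • x = x) :
    g ^ ((3 ^ (2 * m + 1)) ^ 3 * (3 ^ (2 * m + 1) - 1)) = 1 := by
  obtain ⟨c, rfl⟩ := QuotientGroup.mk_surjective x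
  have h1 : c⁻¹ * g * c⁻¹⁻¹ ∈ B1sub K e := by
    have h0 : (QuotientGroup.mk (g * c) : ↥(twistedG2 K e) ⧸ B1sub K e) = QuotientGroup.mk c := hx
    have h2 := inv_mem (QuotientGroup.eq.mp h0)
    have e1 : ((g * c)⁻¹ * c)⁻¹ = c⁻¹ * g * c⁻¹⁻¹ := by group
    rw [e1] at h2
    exact h2
  have h2 : (⟨c⁻¹ * g * c⁻¹⁻¹, h1⟩ : ↥(B1sub K e)) ^ Nat.card ↥(B1sub K e) = 1 :=
    pow_card_eq_one'
  have h3 : (c⁻¹ * g * c⁻¹⁻¹) ^ Nat.card ↥(B1sub K e) = 1 := by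
    have h := congrArg (fun z : ↥(B1sub K e) => (z : ↥(twistedG2 K e))) h2
    simpa using h
  rw [card_B1sub C hK hcan, conj_pow] at h3
  calc g ^ ((3 ^ (2 * m + 1)) ^ 3 * (3 ^ (2 * m + 1) - 1))
      = c * (c⁻¹ * g ^ ((3 ^ (2 * m + 1)) ^ 3 * (3 ^ (2 * m + 1) - 1)) * c⁻¹⁻¹) * c⁻¹ := by group
    _ = 1 := by rw [h3]; group

/-- (OMSTAB) -/
theorem omStab {K : Type*} [Field K] [Fintype K] [CharP K 3] {m : ℕ} (C : Ctx K (3 ^ m))
    (hK : Fintype.card K = 3 ^ (2 * m + 1)) (hcan : CanonG2 K) :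
    StOmStab K m := by
  intro g x hx
  unfold qq
  exact stab_pow C hK hcan g x hx

/-- elements of `H¹` fix the point `B¹` -/
theorem H1_fix_one {K : Type*} [Field K] {e : ℕ} (h : ↥(twistedG2 K e)) (hh : h ∈ H1G K e) :
    h • (QuotientGroup.mk 1 : ↥(twistedG2 K e) ⧸ B1sub K e) = QuotientGroup.mk 1 := by
  show (QuotientGroup.mk (h * 1) : ↥(twistedG2 K e) ⧸ B1sub K e) = QuotientGroup.mk 1
  rw [mk_eq_iff, mul_one, OneMemClass.coe_one, mul_one]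
  exact inv_mem (H_le_B ((mem_H1G h).mp hh))

/-- (H1) -/
theorem h1 {K : Type*} [Field K] [Fintype K] [CharP K 3] {m : ℕ} (C : Ctx K (3 ^ m))
    (hK : Fintype.card K = 3 ^ (2 * m + 1)) : StH1 K m := by
  have hle : chevG2.diagonalSubgroup K ⊓ twistedG2 K (3 ^ m) ≤ twistedG2 K (3 ^ m) := inf_le_right
  refine ⟨?_, ?_, fun h hh => H1_fix_one h hh⟩
  · have := C.H1_cyclic
    exact isCyclic_of_surjective (Subgroup.subgroupOfEquivOfLe hle).symm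
      (Subgroup.subgroupOfEquivOfLe hle).symm.surjective
  · unfold H1G qq
    rw [Nat.card_congr (Subgroup.subgroupOfEquivOfLe hle).toEquiv, C.card_H1 hK]

/-- (AINV) -/
theorem aInv {K : Type*} [Field K] [CharP K 3] {e : ℕ} (C : Ctx K e) : StAInv C :=
  ⟨aEl_ne_one C, aEl_mul_self C, aEl_mem_H C⟩

example {K : Type*} [Field K] [Fintype K] [CharP K 3] {m : ℕ} (C : Ctx K (3 ^ m))
    (hK : Fintype.card K = 3 ^ (2 * m + 1)) (hcan : CanonG2 K) (hW : WeylG2 K) :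
    Cfsg.Agent.H45.S8.StOmCard K m := omCard C hK hcan hW

end Cfsg.Agent.H22.S8
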