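import Cfsg.Agent.H45.S8Defs1
/-!
Team project S1158 (helper45), wave 2, pieces OMTRANS, OMTHREE, OMU, OM3FIX (helper22).
-/
set_option autoImplicit false
set_option synthInstance.maxHeartbeats 400000
open Cfsg Cfsg.Lie
open scoped Pointwise

namespace Cfsg.Agent.H22.S8

open Cfsg.Agent.H22 Cfsg.Agent.H22.GEx Cfsg.Agent.H22.Ree Cfsg.Agent.H7.RT Cfsg.Agent.H45.S8

/-- two distinct cosets can be moved to `B¹`, `n₀ B¹` -/
theorem move2 {K : Type*} [Field K] [Fintype K] [CharP K 3] {e m : ℕ} (C : Ctx K e)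
    (hK : Fintype.card K = 3 ^ (2 * m + 1)) (hcan : CanonG2 K) (hW : WeylG2 K)
    (x y : ↥(twistedG2 K e) ⧸ B1sub K e) (hxy : x ≠ y) :
    ∃ g : ↥(twistedG2 K e), g • x = QuotientGroup.mk 1 ∧ g • y = QuotientGroup.mk C.n0G := by
  obtain ⟨g₁, rfl⟩ := QuotientGroup.mk_surjective x
  have h1 : g₁⁻¹ • (QuotientGroup.mk g₁ : ↥(twistedG2 K e) ⧸ B1sub K e) = QuotientGroup.mk 1 := by
    show QuotientGroup.mk (g₁⁻¹ * g₁) = _
    rw [inv_mul_cancel]
  have h2 : g₁⁻¹ • y ≠ QuotientGroup.mk 1 := by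
    intro h
    apply hxy
    rw [← h1] at h
    exact (MulAction.injective g₁⁻¹ h).symm
  rcases C.coset_cases hK hcan hW (g₁⁻¹ • y) with h | ⟨u₁, hu₁, h3⟩
  · exact absurd h h2
  have h4 : (u₁⁻¹ * g₁⁻¹) • (QuotientGroup.mk g₁ : ↥(twistedG2 K e) ⧸ B1sub K e) =
      QuotientGroup.mk 1 := by
    rw [mul_smul, h1]
    show QuotientGroup.mk (u₁⁻¹ * 1) = _
    rw [mk_eq_iff, mul_one, Subgroup.coe_inv, inv_inv, OneMemClass.coe_one, mul_one]
    exact U_le_B hu₁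
  have h5 : (u₁⁻¹ * g₁⁻¹) • y = QuotientGroup.mk C.n0G := by
    rw [mul_smul, h3]
    show QuotientGroup.mk (u₁⁻¹ * (u₁ * C.n0G)) = _
    rw [inv_mul_cancel_left]
  exact ⟨_, h4, h5⟩

/-- (OMTRANS) -/
theorem omTrans {K : Type*} [Field K] [Fintype K] [CharP K 3] {e m : ℕ} (C : Ctx K e)
    (hK : Fintype.card K = 3 ^ (2 * m + 1)) (hcan : CanonG2 K) (hW : WeylG2 K) :
    StOmTrans K e := by
  intro x y x' y' hxy hxy'
  obtain ⟨g, hg1, hg2⟩ := move2 C hK hcan hW x y hxy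
  obtain ⟨g', hg1', hg2'⟩ := move2 C hK hcan hW x' y' hxy'
  refine ⟨g'⁻¹ * g, ?_, ?_⟩
  · rw [mul_smul, hg1, ← hg1', inv_smul_smul]
  · rw [mul_smul, hg2, ← hg2', inv_smul_smul]

/-- (OMTHREE) -/
theorem omThree {K : Type*} [Field K] [Fintype K] [CharP K 3] {e m : ℕ} (C : Ctx K e)
    (hK : Fintype.card K = 3 ^ (2 * m + 1)) (hcan : CanonG2 K) (hW : WeylG2 K) :
    StOmThree K e := by
  intro g x y z hxy hxz hyz hx hy hz
  obtain ⟨g₀, u, hu, hx', hy', hz', hne⟩ := C.exists_move hK hcan hW x y z hxy hxz hyz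
  have key := C.stab_cases hcan u (g₀ * g * g₀⁻¹) hu hne
    (by rw [← hx', mul_smul, mul_smul, inv_smul_smul, hx])
    (by rw [← hy', mul_smul, mul_smul, inv_smul_smul, hy])
    (by rw [← hz', mul_smul, mul_smul, inv_smul_smul, hz])
  have hsq : (g₀ * g * g₀⁻¹) * (g₀ * g * g₀⁻¹) = 1 := by
    rcases key with h | h
    · have h' : g₀ * g * g₀⁻¹ = 1 := Subtype.ext h
      rw [h', mul_one]
    · have h' : g₀ * g * g₀⁻¹ = aEl C := Subtype.ext h
      rw [h', aEl_mul_self]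
  calc g * g = g₀⁻¹ * ((g₀ * g * g₀⁻¹) * (g₀ * g * g₀⁻¹)) * g₀ := by group
    _ = 1 := by rw [hsq]; group

/-- (OMU) -/
theorem omU {K : Type*} [Field K] [Fintype K] [CharP K 3] {e m : ℕ} (C : Ctx K e)
    (hK : Fintype.card K = 3 ^ (2 * m + 1)) (hcan : CanonG2 K) (hW : WeylG2 K) :
    StOmU K e := by
  intro u hu hu1 x hx
  rcases C.coset_cases hK hcan hW x with h | ⟨v, hv, rfl⟩
  · exact h
  · exfalso
    apply hu1
    have huU := (mem_U1sub u).mp hu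
    have h0 : (QuotientGroup.mk (u * (v * C.n0G)) : ↥(twistedG2 K e) ⧸ B1sub K e) =
        QuotientGroup.mk (v * C.n0G) := hx
    have h1 := (mk_eq_iff _ _).mp h0
    have h2 : (C.n0 : GL chevG2.Idx K)⁻¹ *
        ((v : GL chevG2.Idx K)⁻¹ * (u : GL chevG2.Idx K)⁻¹ * (v : GL chevG2.Idx K)) *
        (C.n0 : GL chevG2.Idx K) ∈ chevG2.borelSubgroup K := by
      have e1 : ((u * (v * C.n0G) : ↥(twistedG2 K e)) : GL chevG2.Idx K)⁻¹ *
          ((v * C.n0G : ↥(twistedG2 K e)) : GL chevG2.Idx K) =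
          (C.n0 : GL chevG2.Idx K)⁻¹ *
            ((v : GL chevG2.Idx K)⁻¹ * (u : GL chevG2.Idx K)⁻¹ * (v : GL chevG2.Idx K)) *
            (C.n0 : GL chevG2.Idx K) := by
        rw [Subgroup.coe_mul, Subgroup.coe_mul, C.n0G_coe]; group
      rw [e1] at h1
      exact h1
    have hyU : (v : GL chevG2.Idx K)⁻¹ * (u : GL chevG2.Idx K)⁻¹ * (v : GL chevG2.Idx K) ∈
        chevG2.posUnipotent K := mul_mem (mul_mem (inv_mem hv) (inv_mem huU)) hv
    have hyH := C.mem_H_of_conj hcan _ (U_le_B hyU) h2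
    have hy1 := C.U_inf_H hcan _ hyU hyH
    apply Subtype.ext
    show (u : GL chevG2.Idx K) = 1
    calc (u : GL chevG2.Idx K) = (v : GL chevG2.Idx K) *
          ((v : GL chevG2.Idx K)⁻¹ * (u : GL chevG2.Idx K)⁻¹ * (v : GL chevG2.Idx K))⁻¹ *
          (v : GL chevG2.Idx K)⁻¹ := by group
      _ = 1 := by rw [hy1]; group

/-- (OM3FIX) -/
theorem omThreeFix {K : Type*} [Field K] [Fintype K] [CharP K 3] {e m : ℕ} (C : Ctx K e)
    (hK : Fintype.card K = 3 ^ (2 * m + 1)) (hcan : CanonG2 K) (hW : WeylG2 K) :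
    StOmThreeFix K e := by
  intro z g hz hgz
  have : Fact (Nat.Prime 3) := ⟨Nat.prime_three⟩
  obtain ⟨P₀, hP₀⟩ := C.exists_sylow_eq_U1 hK hcan hW
  have hp : IsPGroup 3 ↥(Subgroup.zpowers z) :=
    IsPGroup.of_card (n := 1) (by rw [Nat.card_zpowers, hz, pow_one])
  obtain ⟨Q, hQ⟩ := hp.exists_le_sylow
  obtain ⟨c, rfl⟩ := MulAction.exists_smul_eq ↥(twistedG2 K e) P₀ Q
  have hzQ : z ∈ ((c • P₀ : Sylow 3 ↥(twistedG2 K e)) : Subgroup ↥(twistedG2 K e)) :=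
    hQ (Subgroup.mem_zpowers z)
  rw [Sylow.coe_subgroup_smul, Subgroup.mem_pointwise_smul_iff_inv_smul_mem, MulAut.smul_def,
    MulAut.conj_inv_apply, hP₀] at hzQ
  have hz1 : c⁻¹ * z * c ≠ 1 := by
    intro h
    have h' : z = 1 := by
      calc z = c * (c⁻¹ * z * c) * c⁻¹ := by group
        _ = 1 := by rw [h]; group
    rw [h', orderOf_one] at hz
    norm_num at hz
  refine ⟨QuotientGroup.mk c, ?_⟩
  have e2 : z • (QuotientGroup.mk c : ↥(twistedG2 K e) ⧸ B1sub K e) = QuotientGroup.mk c := by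
    show (QuotientGroup.mk (z * c) : ↥(twistedG2 K e) ⧸ B1sub K e) = QuotientGroup.mk c
    rw [mk_eq_iff]
    have hU := inv_mem (U_le_B ((mem_U1sub _).mp hzQ))
    have e3 : ((c⁻¹ * z * c : ↥(twistedG2 K e)) : GL chevG2.Idx K)⁻¹ =
        ((z * c : ↥(twistedG2 K e)) : GL chevG2.Idx K)⁻¹ * (c : GL chevG2.Idx K) := by
      rw [Subgroup.coe_mul, Subgroup.coe_mul, Subgroup.coe_mul, Subgroup.coe_inv]; group
    rw [e3] at hU
    exact hU
  have hfix : (c⁻¹ * z * c) • (c⁻¹ • (g • (QuotientGroup.mk c : ↥(twistedG2 K e) ⧸ B1sub K e))) =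
      c⁻¹ • (g • (QuotientGroup.mk c : ↥(twistedG2 K e) ⧸ B1sub K e)) := by
    rw [← mul_smul, ← mul_smul, ← mul_smul]
    have e1 : c⁻¹ * z * c * c⁻¹ * g = c⁻¹ * g * z := by
      calc c⁻¹ * z * c * c⁻¹ * g = c⁻¹ * (z * g) := by group
        _ = c⁻¹ * (g * z) := by rw [hgz]
        _ = c⁻¹ * g * z := by group
    rw [e1, mul_smul (c⁻¹ * g) z, e2]
  have h3 := omU C hK hcan hW (c⁻¹ * z * c) hzQ hz1 _ hfix
  have h4 : g • (QuotientGroup.mk c : ↥(twistedG2 K e) ⧸ B1sub K e) =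
      c • (c⁻¹ • (g • QuotientGroup.mk c)) := by rw [smul_inv_smul]
  rw [h4, h3]
  show (QuotientGroup.mk (c * 1) : ↥(twistedG2 K e) ⧸ B1sub K e) = _
  rw [mul_one]

end Cfsg.Agent.H22.S8
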