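import Cfsg.Agent.H45.S8Defs1
import Cfsg.Agent.H19.R2UFix
import Cfsg.Agent.H19.R2ConjR
/-!
Team project S1158 (helper45), wave 2, piece OMFIXA (helper22): the involution `h(-1,-1)` of
`²G₂(q)` has exactly `q + 1` fixed points on the cosets of `B¹`.
-/
set_option autoImplicit false
set_option synthInstance.maxHeartbeats 400000
open Cfsg Cfsg.Lie

namespace Cfsg.Agent.H22.S8

open Cfsg.Agent.H22 Cfsg.Agent.H22.GEx Cfsg.Agent.H22.Ree Cfsg.Agent.H7.RT Cfsg.Agent.H45.S8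

/-- elements of `H` fix the point `B¹` -/
theorem H1_fix_one' {K : Type*} [Field K] {e : ℕ} (h : ↥(twistedG2 K e))
    (hh : (h : GL chevG2.Idx K) ∈ chevG2.diagonalSubgroup K) :
    h • (QuotientGroup.mk 1 : ↥(twistedG2 K e) ⧸ B1sub K e) = QuotientGroup.mk 1 := by
  show (QuotientGroup.mk (h * 1) : ↥(twistedG2 K e) ⧸ B1sub K e) = QuotientGroup.mk 1
  rw [mk_eq_iff, mul_one, OneMemClass.coe_one, mul_one]
  exact inv_mem (H_le_B hh)

section

variable {K : Type*} [Field K] [CharP K 3] {e : ℕ} (C : Ctx K e)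

/-- the element `R(0,x,0)` of `²G₂` -/
def rEl (x : K) : ↥(twistedG2 K e) :=
  ⟨(C.SP.R C.τ 0 x 0 : GL chevG2.Idx K), (C.reeEl (0, x, 0)).2.2⟩

theorem rEl_coe (x : K) :
    ((rEl C x : ↥(twistedG2 K e)) : GL chevG2.Idx K) = (C.SP.R C.τ 0 x 0 : GL chevG2.Idx K) := rfl

theorem rEl_mem_U (x : K) :
    ((rEl C x : ↥(twistedG2 K e)) : GL chevG2.Idx K) ∈ chevG2.posUnipotent K :=
  (C.reeEl (0, x, 0)).2.1

theorem rEl_inj : Function.Injective (rEl C) := by
  intro x x' h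
  have h1 : (C.SP.R C.τ 0 x 0 : GL chevG2.Idx K) = (C.SP.R C.τ 0 x' 0 : GL chevG2.Idx K) :=
    congrArg (fun z : ↥(twistedG2 K e) => (z : GL chevG2.Idx K)) h
  have h2 : C.SP.R C.τ 0 x 0 = C.SP.R C.τ 0 x' 0 := Subtype.ext h1
  exact (USys.R_inj (signs_pos K C.θ) C.τ C.E_inj _ _ _ _ _ _ h2).2.1

theorem aEl_comm_rEl (x : K) : aEl C * rEl C x = rEl C x * aEl C := by
  apply Subtype.ext
  rw [Subgroup.coe_mul, Subgroup.coe_mul, aEl_coe, rEl_coe]
  have h := Cfsg.Agent.H19.R2.conjR C 0 x 0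
  rw [neg_zero] at h
  exact congrArg (fun z : ↥(chevG2.group K) => (z : GL chevG2.Idx K)) h

/-- `u n₀ B¹ ≠ B¹` -/
theorem mk_mul_n0_ne (hcan : CanonG2 K) (u : ↥(twistedG2 K e))
    (hu : (u : GL chevG2.Idx K) ∈ chevG2.posUnipotent K) :
    (QuotientGroup.mk (u * C.n0G) : ↥(twistedG2 K e) ⧸ B1sub K e) ≠ QuotientGroup.mk 1 := by
  intro h
  have h1 := (mk_eq_iff _ _).mp h
  rw [OneMemClass.coe_one, mul_one, Subgroup.coe_mul, C.n0G_coe] at h1
  apply C.n0_not_B hcan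
  have h2 := mul_mem (inv_mem (U_le_B hu)) (inv_mem h1)
  have e1 : (u : GL chevG2.Idx K)⁻¹ * ((u : GL chevG2.Idx K) * (C.n0 : GL chevG2.Idx K))⁻¹⁻¹ =
      (C.n0 : GL chevG2.Idx K) := by group
  rw [e1] at h2
  exact h2

/-- `u n₀ B¹ = u' n₀ B¹` only for `u = u'` -/
theorem mk_mul_n0_inj (hcan : CanonG2 K) (u u' : ↥(twistedG2 K e))
    (hu : (u : GL chevG2.Idx K) ∈ chevG2.posUnipotent K)
    (hu' : (u' : GL chevG2.Idx K) ∈ chevG2.posUnipotent K)
    (h : (QuotientGroup.mk (u * C.n0G) : ↥(twistedG2 K e) ⧸ B1sub K e) =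
      QuotientGroup.mk (u' * C.n0G)) : u = u' := by
  have h1 := (mk_eq_iff _ _).mp h
  rw [Subgroup.coe_mul, Subgroup.coe_mul, C.n0G_coe] at h1
  have e1 : ((u : GL chevG2.Idx K) * (C.n0 : GL chevG2.Idx K))⁻¹ *
      ((u' : GL chevG2.Idx K) * (C.n0 : GL chevG2.Idx K)) =
      (C.n0 : GL chevG2.Idx K)⁻¹ * ((u : GL chevG2.Idx K)⁻¹ * (u' : GL chevG2.Idx K)) *
        (C.n0 : GL chevG2.Idx K) := by group
  rw [e1] at h1
  have hyU : (u : GL chevG2.Idx K)⁻¹ * (u' : GL chevG2.Idx K) ∈ chevG2.posUnipotent K :=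
    mul_mem (inv_mem hu) hu'
  have hy1 := C.U_inf_H hcan _ hyU (C.mem_H_of_conj hcan _ (U_le_B hyU) h1)
  apply Subtype.ext
  have h2 : (u' : GL chevG2.Idx K) = (u : GL chevG2.Idx K) *
      ((u : GL chevG2.Idx K)⁻¹ * (u' : GL chevG2.Idx K)) := by group
  rw [hy1, mul_one] at h2
  exact h2.symm

/-- `u n₀ B¹` is fixed by `a` iff `a` commutes with `u` -/
theorem fix_iff (hcan : CanonG2 K) (v : ↥(twistedG2 K e))
    (hv : (v : GL chevG2.Idx K) ∈ chevG2.posUnipotent K) :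
    aEl C • (QuotientGroup.mk (v * C.n0G) : ↥(twistedG2 K e) ⧸ B1sub K e) =
      QuotientGroup.mk (v * C.n0G) ↔ aEl C * v = v * aEl C := by
  have hA := aEl_mem_H C
  have e1 : ((aEl C * (v * C.n0G) : ↥(twistedG2 K e)) : GL chevG2.Idx K)⁻¹ *
      ((v * C.n0G : ↥(twistedG2 K e)) : GL chevG2.Idx K) =
      (C.n0 : GL chevG2.Idx K)⁻¹ * ((v : GL chevG2.Idx K)⁻¹ *
        ((aEl C : ↥(twistedG2 K e)) : GL chevG2.Idx K)⁻¹ * (v : GL chevG2.Idx K)) *
        (C.n0 : GL chevG2.Idx K) := by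
    rw [Subgroup.coe_mul, Subgroup.coe_mul, C.n0G_coe]; group
  constructor
  · intro h
    have h0 : (QuotientGroup.mk (aEl C * (v * C.n0G)) : ↥(twistedG2 K e) ⧸ B1sub K e) =
        QuotientGroup.mk (v * C.n0G) := h
    have h1 := (mk_eq_iff _ _).mp h0
    rw [e1] at h1
    have hyB : (v : GL chevG2.Idx K)⁻¹ * ((aEl C : ↥(twistedG2 K e)) : GL chevG2.Idx K)⁻¹ *
        (v : GL chevG2.Idx K) ∈ chevG2.borelSubgroup K :=
      mul_mem (mul_mem (inv_mem (U_le_B hv)) (inv_mem (H_le_B hA))) (U_le_B hv)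
    have hyH := C.mem_H_of_conj hcan _ hyB h1
    have hwH := mul_mem hA hyH
    have hwU : ((aEl C : ↥(twistedG2 K e)) : GL chevG2.Idx K) *
        ((v : GL chevG2.Idx K)⁻¹ * ((aEl C : ↥(twistedG2 K e)) : GL chevG2.Idx K)⁻¹ *
          (v : GL chevG2.Idx K)) ∈ chevG2.posUnipotent K := by
      have h3 := mul_mem (C.H_conj_U _ _ hA (inv_mem hv)) hv
      have e2 : ((aEl C : ↥(twistedG2 K e)) : GL chevG2.Idx K) * (v : GL chevG2.Idx K)⁻¹ *
          ((aEl C : ↥(twistedG2 K e)) : GL chevG2.Idx K)⁻¹ * (v : GL chevG2.Idx K) =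
          ((aEl C : ↥(twistedG2 K e)) : GL chevG2.Idx K) *
            ((v : GL chevG2.Idx K)⁻¹ * ((aEl C : ↥(twistedG2 K e)) : GL chevG2.Idx K)⁻¹ *
              (v : GL chevG2.Idx K)) := by group
      rw [e2] at h3
      exact h3
    have hw1 := C.U_inf_H hcan _ hwU hwH
    apply Subtype.ext
    rw [Subgroup.coe_mul, Subgroup.coe_mul]
    calc ((aEl C : ↥(twistedG2 K e)) : GL chevG2.Idx K) * (v : GL chevG2.Idx K)
        = (v : GL chevG2.Idx K) * (((aEl C : ↥(twistedG2 K e)) : GL chevG2.Idx K) *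
            ((v : GL chevG2.Idx K)⁻¹ * ((aEl C : ↥(twistedG2 K e)) : GL chevG2.Idx K)⁻¹ *
              (v : GL chevG2.Idx K)))⁻¹ * ((aEl C : ↥(twistedG2 K e)) : GL chevG2.Idx K) := by
          group
      _ = (v : GL chevG2.Idx K) * ((aEl C : ↥(twistedG2 K e)) : GL chevG2.Idx K) := by
          rw [hw1]; group
  · intro h
    show (QuotientGroup.mk (aEl C * (v * C.n0G)) : ↥(twistedG2 K e) ⧸ B1sub K e) =
        QuotientGroup.mk (v * C.n0G)
    rw [mk_eq_iff, e1]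
    have h' : ((aEl C : ↥(twistedG2 K e)) : GL chevG2.Idx K) * (v : GL chevG2.Idx K) =
        (v : GL chevG2.Idx K) * ((aEl C : ↥(twistedG2 K e)) : GL chevG2.Idx K) := by
      have := congrArg (fun z : ↥(twistedG2 K e) => (z : GL chevG2.Idx K)) h
      simpa using this
    have e3 : (v : GL chevG2.Idx K)⁻¹ * ((aEl C : ↥(twistedG2 K e)) : GL chevG2.Idx K)⁻¹ *
        (v : GL chevG2.Idx K) = ((aEl C : ↥(twistedG2 K e)) : GL chevG2.Idx K)⁻¹ := by
      calc (v : GL chevG2.Idx K)⁻¹ * ((aEl C : ↥(twistedG2 K e)) : GL chevG2.Idx K)⁻¹ *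
            (v : GL chevG2.Idx K)
          = (v : GL chevG2.Idx K)⁻¹ * ((aEl C : ↥(twistedG2 K e)) : GL chevG2.Idx K)⁻¹ *
            ((v : GL chevG2.Idx K) * ((aEl C : ↥(twistedG2 K e)) : GL chevG2.Idx K)) *
            ((aEl C : ↥(twistedG2 K e)) : GL chevG2.Idx K)⁻¹ := by group
        _ = (v : GL chevG2.Idx K)⁻¹ * ((aEl C : ↥(twistedG2 K e)) : GL chevG2.Idx K)⁻¹ *
            (((aEl C : ↥(twistedG2 K e)) : GL chevG2.Idx K) * (v : GL chevG2.Idx K)) *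
            ((aEl C : ↥(twistedG2 K e)) : GL chevG2.Idx K)⁻¹ := by rw [h']
        _ = ((aEl C : ↥(twistedG2 K e)) : GL chevG2.Idx K)⁻¹ := by group
    rw [e3]
    exact H_le_B (N_conj_H _ _ C.n0_mem_N (inv_mem hA)).2

/-- the fixed points of `a` on the cosets of `B¹` -/
theorem card_fix [Fintype K] {m : ℕ} (hK : Fintype.card K = 3 ^ (2 * m + 1)) (hcan : CanonG2 K)
    (hW : WeylG2 K) :
    Nat.card ↥(MulAction.fixedBy (↥(twistedG2 K e) ⧸ B1sub K e) (aEl C)) =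
      3 ^ (2 * m + 1) + 1 := by
  classical
  obtain ⟨f, hf⟩ : ∃ f : Option K → ↥(twistedG2 K e) ⧸ B1sub K e,
      f = fun o => o.elim (QuotientGroup.mk 1) (fun x => QuotientGroup.mk (rEl C x * C.n0G)) :=
    ⟨_, rfl⟩
  have hnone : f none = QuotientGroup.mk 1 := by rw [hf]; rfl
  have hsome : ∀ x : K, f (some x) = QuotientGroup.mk (rEl C x * C.n0G) := by
    intro x; rw [hf]; rfl
  have hinj : Function.Injective f := by
    intro o o' h
    rcases o with _ | x <;> rcases o' with _ | x'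
    · rfl
    · rw [hnone, hsome] at h
      exact absurd h.symm (mk_mul_n0_ne C hcan _ (rEl_mem_U C x'))
    · rw [hnone, hsome] at h
      exact absurd h (mk_mul_n0_ne C hcan _ (rEl_mem_U C x))
    · rw [hsome, hsome] at h
      rw [rEl_inj C (mk_mul_n0_inj C hcan _ _ (rEl_mem_U C x) (rEl_mem_U C x') h)]
  have hrange : Set.range f = MulAction.fixedBy (↥(twistedG2 K e) ⧸ B1sub K e) (aEl C) := by
    ext y
    rw [MulAction.mem_fixedBy]
    constructor
    · rintro ⟨o, rfl⟩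
      rcases o with _ | x
      · rw [hnone]
        exact H1_fix_one' (aEl C) (aEl_mem_H C)
      · rw [hsome]
        exact (fix_iff C hcan _ (rEl_mem_U C x)).mpr (aEl_comm_rEl C x)
    · intro hy
      rcases C.coset_cases hK hcan hW y with h | ⟨v, hv, rfl⟩
      · exact ⟨none, by rw [hnone, h]⟩
      · have hcomm := (fix_iff C hcan v hv).mp hy
        have hcomm' : (C.hh (-1) (-1) : GL chevG2.Idx K) * (v : GL chevG2.Idx K) =
            (v : GL chevG2.Idx K) * (C.hh (-1) (-1) : GL chevG2.Idx K) :=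
          congrArg (fun z : ↥(twistedG2 K e) => (z : GL chevG2.Idx K)) hcomm
        obtain ⟨u, hu⟩ := Cfsg.Agent.H19.R2.ufix C (Cfsg.Agent.H19.R2.conjR C) (v : GL chevG2.Idx K)
          ⟨hv, v.2⟩ hcomm'
        have hvr : v = rEl C u := Subtype.ext hu
        exact ⟨some u, by rw [hsome, hvr]⟩
  rw [← hrange, Nat.card_range_of_injective hinj, Nat.card_eq_fintype_card, Fintype.card_option, hK]

end

/-- (OMFIXA) -/
theorem omFixA {K : Type*} [Field K] [Fintype K] [CharP K 3] {m : ℕ} (C : Ctx K (3 ^ m))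
    (hK : Fintype.card K = 3 ^ (2 * m + 1)) (hcan : CanonG2 K) (hW : WeylG2 K) :
    StOmFixA C := by
  unfold StOmFixA qq
  exact card_fix C hK hcan hW

example {K : Type*} [Field K] [Fintype K] [CharP K 3] {m : ℕ} (C : Ctx K (3 ^ m))
    (hK : Fintype.card K = 3 ^ (2 * m + 1)) (hcan : CanonG2 K) (hW : WeylG2 K) :
    Cfsg.Agent.H45.S8.StOmFixA C := omFixA C hK hcan hW

end Cfsg.Agent.H22.S8
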