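import Mathlib

/-!
A homomorphism out of `SL₂(F)`: if elements `x(t)`, `y(t)` of a group satisfy the rank one relations
(additivity, the action of `w(t) = x(t) y(-t⁻¹) x(t)` on them, multiplicativity of `h(t) = w(t) w(-1)`),
then there is a homomorphism from `SL₂(F)` sending the upper and lower elementary matrices to `x(t)` and
`y(t)`.  It is defined through the Bruhat normal form.
-/

set_option autoImplicit false

namespace Cfsg.Agent.H22.SL2

open Matrix

variable {F : Type*} [Field F] {G : Type*} [Group G]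

/-- `w(t) = x(t) y(-t⁻¹) x(t)` -/
def wE (x y : F → G) (t : F) : G := x t * y (-t⁻¹) * x t

/-- `h(t) = w(t) w(-1)` -/
def hE (x y : F → G) (t : F) : G := wE x y t * wE x y (-1)

/-- the rank one relations -/
structure Rel (x y : F → G) : Prop where
  xadd : ∀ s t, x s * x t = x (s + t)
  yadd : ∀ s t, y s * y t = y (s + t)
  wx : ∀ t u, t ≠ 0 → wE x y t * x u = y (-(t⁻¹ ^ 2 * u)) * wE x y t
  wy : ∀ t u, t ≠ 0 → wE x y t * y u = x (-(t ^ 2 * u)) * wE x y t
  hmul : ∀ t u, t ≠ 0 → u ≠ 0 → hE x y t * hE x y u = hE x y (t * u)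

section lemmas

variable {x y : F → G} (R : Rel x y)
include R

theorem x_zero : x 0 = 1 := by
  have : x 0 * x 0 = x 0 * 1 := by rw [R.xadd, add_zero, mul_one]
  exact mul_left_cancel this

theorem y_zero : y 0 = 1 := by
  have : y 0 * y 0 = y 0 * 1 := by rw [R.yadd, add_zero, mul_one]
  exact mul_left_cancel this

theorem x_inv (t : F) : (x t)⁻¹ = x (-t) := by
  apply inv_eq_of_mul_eq_one_right
  rw [R.xadd, add_neg_cancel, x_zero R]

theorem y_inv (t : F) : (y t)⁻¹ = y (-t) := by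
  apply inv_eq_of_mul_eq_one_right
  rw [R.yadd, add_neg_cancel, y_zero R]

theorem w_inv (t : F) : (wE x y t)⁻¹ = wE x y (-t) := by
  unfold wE
  rw [_root_.mul_inv_rev, _root_.mul_inv_rev, x_inv R, y_inv R, neg_neg, inv_neg, neg_neg, mul_assoc]

theorem w_mul_neg (t : F) : wE x y t * wE x y (-t) = 1 := by
  rw [← w_inv R, mul_inv_cancel]

theorem w_neg_mul (t : F) : wE x y (-t) * wE x y t = 1 := by
  rw [← w_inv R, inv_mul_cancel]

theorem h_one : hE x y 1 = 1 := w_mul_neg R 1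

theorem h_mul_w (t : F) : hE x y t * wE x y 1 = wE x y t := by
  unfold hE
  rw [mul_assoc, w_neg_mul R 1, mul_one]

theorem w1_x (u : F) : wE x y 1 * x u = y (-u) * wE x y 1 := by
  rw [R.wx 1 u one_ne_zero]
  congr 2
  simp

theorem w1_y (u : F) : wE x y 1 * y u = x (-u) * wE x y 1 := by
  rw [R.wy 1 u one_ne_zero]
  congr 2
  simp

theorem h_x (c v : F) (hc : c ≠ 0) : hE x y c * x v = x (c ^ 2 * v) * hE x y c := by
  unfold hE
  rw [mul_assoc, R.wx (-1) v (by simp), ← mul_assoc, R.wy c _ hc, mul_assoc]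
  congr 2
  simp

theorem x_h (c u : F) (hc : c ≠ 0) : x u * hE x y c = hE x y c * x (c⁻¹ ^ 2 * u) := by
  rw [h_x R c _ hc]
  congr 2
  field_simp

omit R in
theorem yxy_aux (W a b : G) (h : W = a * b * a) (e1 : W * a = b * W) (e2 : W * b = a * W) :
    W = b * a * b := by
  have : W * W = b * a * b * W := by
    calc W * W = W * (a * b * a) := by rw [← h]
      _ = (W * a) * b * a := by simp only [mul_assoc]
      _ = b * (W * b) * a := by rw [e1]; simp only [mul_assoc]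
      _ = b * a * (W * a) := by rw [e2]; simp only [mul_assoc]
      _ = b * a * b * W := by rw [e1]; simp only [mul_assoc]
  exact mul_right_cancel this

theorem w_eq_yxy (t : F) (ht : t ≠ 0) : wE x y t = y (-t⁻¹) * x t * y (-t⁻¹) := by
  apply yxy_aux (wE x y t) (x t) (y (-t⁻¹)) rfl
  · rw [R.wx t t ht]
    congr 2
    field_simp
  · rw [R.wy t _ ht]
    congr 2
    field_simp

theorem w1_w (a : F) (ha : a ≠ 0) : wE x y 1 * wE x y a * wE x y (-1) = wE x y a⁻¹ := by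
  rw [w_eq_yxy R a⁻¹ (inv_ne_zero ha), inv_inv]
  have e : wE x y 1 * wE x y a = y (-a) * x a⁻¹ * y (-a) * wE x y 1 := by
    calc wE x y 1 * wE x y a = wE x y 1 * (x a * y (-a⁻¹) * x a) := rfl
      _ = (wE x y 1 * x a) * y (-a⁻¹) * x a := by simp only [mul_assoc]
      _ = y (-a) * (wE x y 1 * y (-a⁻¹)) * x a := by rw [w1_x R]; simp only [mul_assoc]
      _ = y (-a) * x a⁻¹ * (wE x y 1 * x a) := by rw [w1_y R, neg_neg]; simp only [mul_assoc]
      _ = y (-a) * x a⁻¹ * y (-a) * wE x y 1 := by rw [w1_x R]; simp only [mul_assoc]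
  rw [e, mul_assoc, w_mul_neg R 1, mul_one]

theorem w1_h (a : F) (ha : a ≠ 0) : wE x y 1 * hE x y a = wE x y a⁻¹ := by
  unfold hE
  rw [← mul_assoc]
  exact w1_w R a ha

theorem w_h (t c : F) (ht : t ≠ 0) (hc : c ≠ 0) : wE x y t * hE x y c = wE x y (t * c⁻¹) := by
  rw [← h_mul_w R t, mul_assoc, w1_h R c hc, ← h_mul_w R c⁻¹, ← mul_assoc,
    R.hmul t c⁻¹ ht (inv_ne_zero hc), h_mul_w R]

theorem w1_wneg (c : F) (hc : c ≠ 0) : wE x y 1 * wE x y (-c⁻¹) = hE x y c := by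
  have h1 : hE x y c * hE x y c⁻¹ = 1 := by
    rw [R.hmul c c⁻¹ hc (inv_ne_zero hc), mul_inv_cancel₀ hc, h_one R]
  have h2 : hE x y c = (hE x y c⁻¹)⁻¹ := eq_inv_of_mul_eq_one_left h1
  rw [h2]
  unfold hE
  rw [_root_.mul_inv_rev, w_inv R, w_inv R, neg_neg]

theorem y_eq (v : F) (_hv : v ≠ 0) : y v = x v⁻¹ * wE x y (-v⁻¹) * x v⁻¹ := by
  unfold wE
  have e : -(-v⁻¹)⁻¹ = v := by
    rw [inv_neg, inv_inv, neg_neg]
  rw [e]
  have a1 : x v⁻¹ * x (-v⁻¹) = 1 := by rw [R.xadd, add_neg_cancel, x_zero R]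
  have a2 : x (-v⁻¹) * x v⁻¹ = 1 := by rw [R.xadd, neg_add_cancel, x_zero R]
  calc y v = (x v⁻¹ * x (-v⁻¹)) * y v * (x (-v⁻¹) * x v⁻¹) := by rw [a1, a2, one_mul, mul_one]
    _ = x v⁻¹ * (x (-v⁻¹) * y v * x (-v⁻¹)) * x v⁻¹ := by simp only [mul_assoc]

end lemmas

/-! ### The elementary matrices -/

/-- upper elementary matrix -/
def uM (s : F) : SpecialLinearGroup (Fin 2) F := ⟨!![1, s; 0, 1], by simp [Matrix.det_fin_two]⟩

/-- lower elementary matrix -/
def lM (s : F) : SpecialLinearGroup (Fin 2) F := ⟨!![1, 0; s, 1], by simp [Matrix.det_fin_two]⟩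

/-- the Weyl element -/
def nM : SpecialLinearGroup (Fin 2) F := ⟨!![0, 1; -1, 0], by simp [Matrix.det_fin_two]⟩

theorem det_eq (g : SpecialLinearGroup (Fin 2) F) : g.1 0 0 * g.1 1 1 - g.1 0 1 * g.1 1 0 = 1 := by
  have := g.2
  rwa [Matrix.det_fin_two] at this

theorem uM_mul_00 (s : F) (g : SpecialLinearGroup (Fin 2) F) :
    (uM s * g).1 0 0 = g.1 0 0 + s * g.1 1 0 := by
  rw [Matrix.SpecialLinearGroup.coe_mul]
  simp [uM, Matrix.mul_apply, Fin.sum_univ_two]

theorem uM_mul_01 (s : F) (g : SpecialLinearGroup (Fin 2) F) :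
    (uM s * g).1 0 1 = g.1 0 1 + s * g.1 1 1 := by
  rw [Matrix.SpecialLinearGroup.coe_mul]
  simp [uM, Matrix.mul_apply, Fin.sum_univ_two]

theorem uM_mul_10 (s : F) (g : SpecialLinearGroup (Fin 2) F) : (uM s * g).1 1 0 = g.1 1 0 := by
  rw [Matrix.SpecialLinearGroup.coe_mul]
  simp [uM, Matrix.mul_apply, Fin.sum_univ_two]

theorem uM_mul_11 (s : F) (g : SpecialLinearGroup (Fin 2) F) : (uM s * g).1 1 1 = g.1 1 1 := by
  rw [Matrix.SpecialLinearGroup.coe_mul]
  simp [uM, Matrix.mul_apply, Fin.sum_univ_two]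

theorem lM_mul_00 (s : F) (g : SpecialLinearGroup (Fin 2) F) : (lM s * g).1 0 0 = g.1 0 0 := by
  rw [Matrix.SpecialLinearGroup.coe_mul]
  simp [lM, Matrix.mul_apply, Fin.sum_univ_two]

theorem lM_mul_01 (s : F) (g : SpecialLinearGroup (Fin 2) F) : (lM s * g).1 0 1 = g.1 0 1 := by
  rw [Matrix.SpecialLinearGroup.coe_mul]
  simp [lM, Matrix.mul_apply, Fin.sum_univ_two]

theorem lM_mul_10 (s : F) (g : SpecialLinearGroup (Fin 2) F) :
    (lM s * g).1 1 0 = s * g.1 0 0 + g.1 1 0 := by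
  rw [Matrix.SpecialLinearGroup.coe_mul]
  simp [lM, Matrix.mul_apply, Fin.sum_univ_two]

theorem lM_mul_11 (s : F) (g : SpecialLinearGroup (Fin 2) F) :
    (lM s * g).1 1 1 = s * g.1 0 1 + g.1 1 1 := by
  rw [Matrix.SpecialLinearGroup.coe_mul]
  simp [lM, Matrix.mul_apply, Fin.sum_univ_two]

theorem nM_mul_00 (g : SpecialLinearGroup (Fin 2) F) : (nM * g).1 0 0 = g.1 1 0 := by
  rw [Matrix.SpecialLinearGroup.coe_mul]
  simp [nM, Matrix.mul_apply, Fin.sum_univ_two]

theorem nM_mul_01 (g : SpecialLinearGroup (Fin 2) F) : (nM * g).1 0 1 = g.1 1 1 := by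
  rw [Matrix.SpecialLinearGroup.coe_mul]
  simp [nM, Matrix.mul_apply, Fin.sum_univ_two]

theorem nM_mul_10 (g : SpecialLinearGroup (Fin 2) F) : (nM * g).1 1 0 = -g.1 0 0 := by
  rw [Matrix.SpecialLinearGroup.coe_mul]
  simp [nM, Matrix.mul_apply, Fin.sum_univ_two]

theorem nM_mul_11 (g : SpecialLinearGroup (Fin 2) F) : (nM * g).1 1 1 = -g.1 0 1 := by
  rw [Matrix.SpecialLinearGroup.coe_mul]
  simp [nM, Matrix.mul_apply, Fin.sum_univ_two]

theorem sl_ext (g g' : SpecialLinearGroup (Fin 2) F) (h00 : g.1 0 0 = g'.1 0 0)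
    (h01 : g.1 0 1 = g'.1 0 1) (h10 : g.1 1 0 = g'.1 1 0) (h11 : g.1 1 1 = g'.1 1 1) : g = g' := by
  apply Subtype.ext
  ext i j
  fin_cases i <;> fin_cases j
  · exact h00
  · exact h01
  · exact h10
  · exact h11

theorem nM_lM (s : F) : (nM : SpecialLinearGroup (Fin 2) F) * lM s = uM (-s) * nM := by
  apply sl_ext
  · rw [nM_mul_00, uM_mul_00]; simp [nM, lM]
  · rw [nM_mul_01, uM_mul_01]; simp [nM, lM]
  · rw [nM_mul_10, uM_mul_10]; simp [nM, lM]
  · rw [nM_mul_11, uM_mul_11]; simp [nM, lM]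

/-- decomposition into elementary matrices when the lower left entry is non-zero -/
theorem decomp (g : SpecialLinearGroup (Fin 2) F) (hc : g.1 1 0 ≠ 0) :
    g = uM ((g.1 0 0 - 1) / g.1 1 0) * (lM (g.1 1 0) * uM ((g.1 1 1 - 1) / g.1 1 0)) := by
  have hd := det_eq g
  apply sl_ext
  · rw [uM_mul_00, lM_mul_00, lM_mul_10]
    simp only [uM, Matrix.of_apply, Matrix.cons_val_zero, Matrix.cons_val_one,
      Matrix.cons_val', Matrix.cons_val_fin_one]
    field_simp
    ring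
  · rw [uM_mul_01, lM_mul_01, lM_mul_11]
    simp only [uM, Matrix.of_apply, Matrix.cons_val_zero, Matrix.cons_val_one,
      Matrix.cons_val', Matrix.cons_val_fin_one]
    field_simp
    linear_combination (-1 : F) * hd
  · rw [uM_mul_10, lM_mul_10]
    simp [uM]
  · rw [uM_mul_11, lM_mul_11]
    simp only [uM, Matrix.of_apply, Matrix.cons_val_zero, Matrix.cons_val_one,
      Matrix.cons_val', Matrix.cons_val_fin_one]
    field_simp
    ring

/-! ### The map -/

open scoped Classical in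
/-- the map, through the Bruhat normal form -/
noncomputable def phi (x y : F → G) (g : SpecialLinearGroup (Fin 2) F) : G :=
  if g.1 1 0 = 0 then x (g.1 0 0 * g.1 0 1) * hE x y (g.1 0 0)
  else x (g.1 0 0 / g.1 1 0) * wE x y (-(g.1 1 0)⁻¹) * x (g.1 1 1 / g.1 1 0)

section main

variable {x y : F → G} (R : Rel x y)
include R

theorem phi_one : phi x y 1 = 1 := by
  unfold phi
  rw [if_pos (by simp)]
  simp [x_zero R, h_one R]

theorem phi_uM_mul (s : F) (g : SpecialLinearGroup (Fin 2) F) :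
    phi x y (uM s * g) = x s * phi x y g := by
  have hd := det_eq g
  unfold phi
  rw [uM_mul_00, uM_mul_01, uM_mul_10, uM_mul_11]
  by_cases hc : g.1 1 0 = 0
  · rw [if_pos hc, if_pos hc, hc, mul_zero, add_zero, ← mul_assoc, R.xadd]
    congr 2
    rw [hc, mul_zero, sub_zero] at hd
    linear_combination s * hd
  · rw [if_neg hc, if_neg hc, ← mul_assoc, ← mul_assoc, R.xadd]
    congr 3
    field_simp
    ring

theorem phi_nM_mul (g : SpecialLinearGroup (Fin 2) F) :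
    phi x y (nM * g) = wE x y 1 * phi x y g := by
  have hd := det_eq g
  unfold phi
  rw [nM_mul_00, nM_mul_01, nM_mul_10, nM_mul_11]
  by_cases ha : g.1 0 0 = 0
  · have hc : g.1 1 0 ≠ 0 := by
      intro hc
      rw [ha, hc] at hd
      simp at hd
    rw [if_pos (by rw [ha, neg_zero]), if_neg hc, ha, zero_div, x_zero R, one_mul, ← mul_assoc,
      w1_wneg R _ hc, h_x R _ _ hc]
    congr 2
    field_simp
  · have hna : -g.1 0 0 ≠ 0 := neg_ne_zero.mpr ha
    rw [if_neg hna]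
    by_cases hc : g.1 1 0 = 0
    · rw [if_pos hc, hc, zero_div, x_zero R, one_mul, ← mul_assoc, w1_x R, mul_assoc,
        w1_h R _ ha, inv_neg, neg_neg, R.wx _ _ (inv_ne_zero ha)]
      congr 2
      field_simp
    · rw [if_neg hc]
      have hv : -(g.1 0 0 / g.1 1 0) ≠ 0 := neg_ne_zero.mpr (div_ne_zero ha hc)
      have e1 : wE x y 1 * (x (g.1 0 0 / g.1 1 0) * wE x y (-(g.1 1 0)⁻¹) * x (g.1 1 1 / g.1 1 0))
          = y (-(g.1 0 0 / g.1 1 0)) * hE x y (g.1 1 0) * x (g.1 1 1 / g.1 1 0) := by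
        rw [← mul_assoc, ← mul_assoc, w1_x R, mul_assoc (y _), w1_wneg R _ hc]
      rw [e1, y_eq R _ hv]
      have e2 : (-(g.1 0 0 / g.1 1 0))⁻¹ = -(g.1 1 0 / g.1 0 0) := by
        field_simp
      rw [e2, neg_neg]
      have e3 : x (-(g.1 1 0 / g.1 0 0)) * wE x y (g.1 1 0 / g.1 0 0) * x (-(g.1 1 0 / g.1 0 0)) *
          hE x y (g.1 1 0) * x (g.1 1 1 / g.1 1 0)
          = x (-(g.1 1 0 / g.1 0 0)) * (wE x y (g.1 1 0 / g.1 0 0) * hE x y (g.1 1 0)) *
            (x ((g.1 1 0)⁻¹ ^ 2 * -(g.1 1 0 / g.1 0 0)) * x (g.1 1 1 / g.1 1 0)) := by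
        rw [mul_assoc _ (x (-(g.1 1 0 / g.1 0 0))) (hE x y (g.1 1 0)), x_h R _ _ hc]
        simp only [mul_assoc]
      rw [e3, w_h R _ _ (div_ne_zero hc ha) hc, R.xadd]
      have e4 : -g.1 1 0 / -g.1 0 0 = g.1 1 0 / g.1 0 0 := by rw [neg_div_neg_eq]
      have e5 : -(-g.1 0 0)⁻¹ = (g.1 0 0)⁻¹ := by rw [inv_neg, neg_neg]
      have e6 : -g.1 0 1 / -g.1 0 0 = g.1 0 1 / g.1 0 0 := by rw [neg_div_neg_eq]
      have e7 : g.1 1 0 / g.1 0 0 * (g.1 1 0)⁻¹ = (g.1 0 0)⁻¹ := by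
        field_simp
      have e8 : (g.1 1 0)⁻¹ ^ 2 * -(g.1 1 0 / g.1 0 0) + g.1 1 1 / g.1 1 0 = g.1 0 1 / g.1 0 0 := by
        field_simp
        linear_combination hd
      have e9 : g.1 1 0 / -g.1 0 0 = -(g.1 1 0 / g.1 0 0) := by rw [div_neg]
      rw [e5, e6, e7, e8, e9]

theorem phi_lM_mul (s : F) (g : SpecialLinearGroup (Fin 2) F) :
    phi x y (lM s * g) = y s * phi x y g := by
  have h1 := phi_nM_mul R (lM s * g)
  rw [← mul_assoc, nM_lM, mul_assoc, phi_uM_mul R, phi_nM_mul R, ← mul_assoc, ← w1_y R,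
    mul_assoc] at h1
  exact (mul_left_cancel h1).symm

theorem phi_uM (s : F) : phi x y (uM s) = x s := by
  have := phi_uM_mul R s 1
  rwa [mul_one, phi_one R, mul_one] at this

theorem phi_lM (s : F) : phi x y (lM s) = y s := by
  have := phi_lM_mul R s 1
  rwa [mul_one, phi_one R, mul_one] at this

theorem phi_mul (g g' : SpecialLinearGroup (Fin 2) F) :
    phi x y (g * g') = phi x y g * phi x y g' := by
  have key : ∀ g : SpecialLinearGroup (Fin 2) F, g.1 1 0 ≠ 0 →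
      ∀ g', phi x y (g * g') = phi x y g * phi x y g' := by
    intro g hc g'
    have e := decomp g hc
    have a1 : phi x y g = x ((g.1 0 0 - 1) / g.1 1 0) * (y (g.1 1 0) *
        x ((g.1 1 1 - 1) / g.1 1 0)) := by
      conv_lhs => rw [e]
      rw [phi_uM_mul R, phi_lM_mul R, phi_uM R]
    conv_lhs => rw [e]
    rw [mul_assoc, mul_assoc, phi_uM_mul R, phi_lM_mul R, phi_uM_mul R, a1]
    simp only [mul_assoc]
  by_cases hc : g.1 1 0 = 0
  · have hd := det_eq g
    have ha : g.1 0 0 ≠ 0 := by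
      intro ha
      rw [ha, hc] at hd
      simp at hd
    have hc' : (lM (-1) * g).1 1 0 ≠ 0 := by
      rw [lM_mul_10, hc, add_zero]
      simpa using ha
    have e : g = lM 1 * (lM (-1) * g) := by
      rw [← mul_assoc]
      have : (lM 1 : SpecialLinearGroup (Fin 2) F) * lM (-1) = 1 := by
        apply sl_ext
        · rw [lM_mul_00]; simp [lM]
        · rw [lM_mul_01]; simp [lM]
        · rw [lM_mul_10]; simp [lM]
        · rw [lM_mul_11]; simp [lM]
      rw [this, one_mul]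
    have a1 : phi x y g = y 1 * phi x y (lM (-1) * g) := by
      conv_lhs => rw [e]
      rw [phi_lM_mul R]
    conv_lhs => rw [e]
    rw [mul_assoc, phi_lM_mul R, key _ hc', a1, mul_assoc]
  · exact key g hc g'

omit R in
theorem phi_mem (K : Subgroup G) (hx : ∀ t, x t ∈ K) (hy : ∀ t, y t ∈ K)
    (g : SpecialLinearGroup (Fin 2) F) : phi x y g ∈ K := by
  have hw : ∀ t, wE x y t ∈ K := fun t => K.mul_mem (K.mul_mem (hx _) (hy _)) (hx _)
  unfold phi
  split_ifs
  · exact K.mul_mem (hx _) (K.mul_mem (hw _) (hw _))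
  · exact K.mul_mem (K.mul_mem (hx _) (hw _)) (hx _)

/-- the homomorphism -/
noncomputable def phiHom : SpecialLinearGroup (Fin 2) F →* G :=
  MonoidHom.mk' (phi x y) (phi_mul R)

theorem phiHom_apply (g : SpecialLinearGroup (Fin 2) F) : phiHom R g = phi x y g := rfl

end main

end Cfsg.Agent.H22.SL2
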