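import Mathlib
import Cfsg.Prelude.Def_Sporadic_a

/-!
# Strongly regular graphs with parameters (100, 22, 0, 6)

Fix a vertex `v₀`.  Its 22 neighbours are the points and the 77 non-neighbours are the blocks
(a non-neighbour `m` is identified with the set of common neighbours of `m` and `v₀`) of a Steiner
system S(3, 6, 22), and the graph is the point-block graph of that system.
-/

set_option autoImplicit false
open Finset

namespace Cfsg.Agent.H22.SRG
open Classical

variable {V : Type*} [Fintype V]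

/-- The neighbours of a vertex, as a finset. -/
noncomputable def nb (G : SimpleGraph V) (v : V) : Finset V := univ.filter (G.Adj v)

@[simp] lemma mem_nb {G : SimpleGraph V} {v w : V} : w ∈ nb G v ↔ G.Adj v w := by simp [nb]

/-- The hypotheses of a strongly regular graph with parameters (100, 22, 0, 6), instance-free. -/
structure Hyp (G : SimpleGraph V) : Prop where
  card : Fintype.card V = 100
  deg : ∀ v, (nb G v).card = 22
  tri : ∀ u v w, G.Adj u v → G.Adj u w → G.Adj v w → False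
  mu : ∀ u v, u ≠ v → ¬ G.Adj u v → (nb G u ∩ nb G v).card = 6

lemma hyp_of_srg {G : SimpleGraph V} [DecidableRel G.Adj] (hG : G.IsSRGWith 100 22 0 6) : Hyp G := by
  refine ⟨hG.card, ?_, ?_, ?_⟩
  · intro v
    have := hG.regular v
    rw [← this]
    unfold SimpleGraph.degree
    congr 1
    ext w; simp
  · intro u v w huv huw hvw
    have := hG.of_adj u v huv
    rw [Fintype.card_eq_zero_iff] at this
    exact this.false ⟨w, huw, hvw⟩
  · intro u v huv hn
    have := hG.of_not_adj huv hn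
    rw [← this]
    symm
    apply Fintype.card_of_subtype
    intro x; simp [SimpleGraph.mem_commonNeighbors]

section main
variable {G : SimpleGraph V} (h : Hyp G)
include h

/-- Non-adjacent non-neighbours of `v₀` have exactly two common neighbours among the neighbours
of `v₀`. -/
lemma inter_two {v₀ m m' : V} (hm0 : m ≠ v₀) (hm : ¬ G.Adj v₀ m) (hm0' : m' ≠ v₀)
    (hm' : ¬ G.Adj v₀ m') (hne : m' ≠ m) (hna : ¬ G.Adj m m') :
    ((nb G v₀ ∩ nb G m).filter (fun q => G.Adj m' q)).card = 2 := by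
  set Bm := nb G v₀ ∩ nb G m with hBm
  have hBm6 : Bm.card = 6 := h.mu v₀ m (Ne.symm hm0) hm
  set R : Finset V := univ.filter (fun x => x ≠ v₀ ∧ ¬ G.Adj v₀ x ∧ x ≠ m ∧ ¬ G.Adj m x) with hR
  have hRcard : R.card = 60 := by
    have e : R = (({v₀, m} : Finset V) ∪ (nb G v₀ ∪ nb G m))ᶜ := by
      ext x; simp [hR]; tauto
    rw [e, card_compl, h.card]
    have d : Disjoint ({v₀, m} : Finset V) (nb G v₀ ∪ nb G m) := by
      rw [disjoint_left]; intro x hx hx'
      simp at hx hx'
      rcases hx with rfl | rfl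
      · rcases hx' with h1 | h1
        · exact G.ne_of_adj h1 rfl
        · exact hm h1.symm
      · rcases hx' with h1 | h1
        · exact hm h1
        · exact G.ne_of_adj h1 rfl
    have u : (nb G v₀ ∪ nb G m).card = 38 := by
      have := card_union_add_card_inter (nb G v₀) (nb G m)
      rw [h.deg, h.deg, ← hBm, hBm6] at this; omega
    rw [card_union_of_disjoint d, u, card_pair (Ne.symm hm0)]
  have s1 : ∑ x ∈ R, (Bm.filter (fun q => G.Adj x q)).card = 120 := by
    have := Finset.sum_card_bipartiteAbove_eq_sum_card_bipartiteBelow (s := R) (t := Bm)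
      (r := fun x q => G.Adj x q)
    simp only [bipartiteAbove, bipartiteBelow] at this
    rw [this]
    have : ∀ q ∈ Bm, (R.filter (fun x => G.Adj x q)).card = 20 := by
      intro q hq
      simp [hBm] at hq
      have e : R.filter (fun x => G.Adj x q) = ((nb G q).erase v₀).erase m := by
        ext x; simp [hR]
        constructor
        · rintro ⟨⟨hx0, -, hxm, -⟩, hxq⟩; exact ⟨hxm, hx0, hxq.symm⟩
        · rintro ⟨hxm, hx0, hqx⟩
          refine ⟨⟨hx0, ?_, hxm, ?_⟩, hqx.symm⟩
          · intro hv; exact h.tri v₀ q x hq.1 hv hqx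
          · intro hmx; exact h.tri m q x hq.2 hmx hqx
      rw [e, card_erase_of_mem, card_erase_of_mem, h.deg]
      · simp; exact hq.1.symm
      · simp; exact ⟨hm0, hq.2.symm⟩
    rw [sum_congr rfl this]; simp [hBm6]
  have s2 : ∑ x ∈ R, ((Bm.filter (fun q => G.Adj x q)).card * (Bm.filter (fun q => G.Adj x q)).card
      - (Bm.filter (fun q => G.Adj x q)).card) = 120 := by
    have e1 : ∀ x, (Bm.filter (fun q => G.Adj x q)).card * (Bm.filter (fun q => G.Adj x q)).card
        - (Bm.filter (fun q => G.Adj x q)).card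
        = (Bm.offDiag.filter (fun p => G.Adj x p.1 ∧ G.Adj x p.2)).card := by
      intro x
      rw [← offDiag_card]
      congr 1
      ext ⟨a, b⟩; simp [mem_offDiag]; tauto
    simp_rw [e1]
    have := Finset.sum_card_bipartiteAbove_eq_sum_card_bipartiteBelow (s := R) (t := Bm.offDiag)
      (r := fun x p => G.Adj x p.1 ∧ G.Adj x p.2)
    simp only [bipartiteAbove, bipartiteBelow] at this
    rw [this]
    have : ∀ p ∈ Bm.offDiag, (R.filter (fun x => G.Adj x p.1 ∧ G.Adj x p.2)).card = 4 := by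
      rintro ⟨q, r⟩ hp
      simp [mem_offDiag, hBm] at hp
      obtain ⟨⟨hq0, hqm⟩, ⟨hr0, hrm⟩, hqr⟩ := hp
      have e : R.filter (fun x => G.Adj x q ∧ G.Adj x r) = ((nb G q ∩ nb G r).erase v₀).erase m := by
        ext x; simp [hR]
        constructor
        · rintro ⟨⟨hx0, -, hxm, -⟩, hxq, hxr⟩; exact ⟨hxm, hx0, hxq.symm, hxr.symm⟩
        · rintro ⟨hxm, hx0, hqx, hrx⟩
          refine ⟨⟨hx0, ?_, hxm, ?_⟩, hqx.symm, hrx.symm⟩
          · intro hv; exact h.tri v₀ q x hq0 hv hqx
          · intro hmx; exact h.tri m q x hqm hmx hqx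
      rw [e, card_erase_of_mem, card_erase_of_mem,
        h.mu q r hqr (fun hqr' => h.tri v₀ q r hq0 hr0 hqr')]
      · simp; exact ⟨hq0.symm, hr0.symm⟩
      · simp; exact ⟨hm0, hqm.symm, hrm.symm⟩
    rw [sum_congr rfl this, sum_const, offDiag_card, hBm6]; rfl
  have hmem : m' ∈ R := by simp [hR]; exact ⟨hm0', hm', hne, hna⟩
  have key : ∑ x ∈ R, (((Bm.filter (fun q => G.Adj x q)).card : ℤ) - 2) ^ 2 = 0 := by
    have e : ∀ x : V, (((Bm.filter (fun q => G.Adj x q)).card : ℤ) - 2) ^ 2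
        = (((Bm.filter (fun q => G.Adj x q)).card * (Bm.filter (fun q => G.Adj x q)).card
            - (Bm.filter (fun q => G.Adj x q)).card : ℕ) : ℤ)
          - 3 * ((Bm.filter (fun q => G.Adj x q)).card : ℤ) + 4 := by
      intro x; rw [Nat.cast_sub (Nat.le_mul_self _)]; push_cast; ring
    simp_rw [e]
    rw [sum_add_distrib, sum_sub_distrib, ← Nat.cast_sum, ← mul_sum, ← Nat.cast_sum, s1, s2]
    simp [hRcard]
  have h0 := (sum_eq_zero_iff_of_nonneg (fun _ _ => sq_nonneg _)).1 key m' hmem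
  have h2 : ((Bm.filter (fun q => G.Adj m' q)).card : ℤ) = 2 := by
    have := pow_eq_zero_iff (two_ne_zero) |>.1 h0
    linarith
  exact_mod_cast h2

/-- Two distinct non-neighbours of `v₀` have 0 or 2 common neighbours among the neighbours of
`v₀`. -/
lemma blocks_inter {v₀ m m' : V} (hm0 : m ≠ v₀) (hm : ¬ G.Adj v₀ m) (hm0' : m' ≠ v₀)
    (hm' : ¬ G.Adj v₀ m') (hne : m' ≠ m) :
    ((nb G v₀ ∩ nb G m) ∩ nb G m').card = 0 ∨ ((nb G v₀ ∩ nb G m) ∩ nb G m').card = 2 := by
  by_cases ha : G.Adj m m'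
  · left
    rw [card_eq_zero, eq_empty_iff_forall_notMem]
    intro x hx
    simp at hx
    exact h.tri m m' x ha hx.2.1 hx.2.2
  · right
    rw [← inter_two h hm0 hm hm0' hm' hne ha]
    congr 1
    ext x; simp [and_assoc]

/-- Any three neighbours of `v₀` have a common neighbour other than `v₀`. -/
lemma exists_block {v₀ q r u : V} (hq : G.Adj v₀ q) (hr : G.Adj v₀ r) (hu : G.Adj v₀ u)
    (hqr : q ≠ r) (hqu : q ≠ u) (hru : r ≠ u) :
    ∃ m, m ≠ v₀ ∧ ¬ G.Adj v₀ m ∧ G.Adj m q ∧ G.Adj m r ∧ G.Adj m u := by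
  set S := (nb G q ∩ nb G r).erase v₀ with hS
  have hS5 : S.card = 5 := by
    rw [hS, card_erase_of_mem (by simp; exact ⟨hq.symm, hr.symm⟩),
      h.mu q r hqr (fun e => h.tri v₀ q r hq hr e)]
  have hSm : ∀ m ∈ S, m ≠ v₀ ∧ ¬ G.Adj v₀ m ∧ G.Adj m q ∧ G.Adj m r := by
    intro m hm; simp [hS] at hm
    exact ⟨hm.1, fun e => h.tri v₀ q m hq e hm.2.1, hm.2.1.symm, hm.2.2.symm⟩
  set T : V → Finset V := fun m => ((nb G v₀ ∩ nb G m).erase q).erase r with hT
  have hT4 : ∀ m ∈ S, (T m).card = 4 := by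
    intro m hm
    obtain ⟨h1, h2, h3, h4⟩ := hSm m hm
    rw [hT]; simp only
    rw [card_erase_of_mem, card_erase_of_mem, h.mu v₀ m (Ne.symm h1) h2]
    · simp; exact ⟨hq, h3⟩
    · simp; exact ⟨Ne.symm hqr, hr, h4⟩
  have hdis : (S : Set V).PairwiseDisjoint T := by
    intro m hm m' hm' hne
    obtain ⟨h1, h2, h3, h4⟩ := hSm m hm
    obtain ⟨h1', h2', h3', h4'⟩ := hSm m' hm'
    rw [Function.onFun, disjoint_left]
    intro x hx hx'
    simp [hT] at hx hx'
    have hsub : ({q, r, x} : Finset V) ⊆ (nb G v₀ ∩ nb G m) ∩ nb G m' := by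
      intro y hy; simp at hy ⊢
      rcases hy with rfl | rfl | rfl
      · exact ⟨hq, h3, h3'⟩
      · exact ⟨hr, h4, h4'⟩
      · exact ⟨hx.2.2.1, hx.2.2.2, hx'.2.2.2⟩
    have hc3 : ({q, r, x} : Finset V).card = 3 :=
      card_eq_three.2 ⟨q, r, x, hqr, Ne.symm hx.2.1, Ne.symm hx.1, rfl⟩
    have := card_le_card hsub
    rcases blocks_inter h h1 h2 h1' h2' (Ne.symm hne) with e | e <;> omega
  have hcard : (S.biUnion T).card = 20 := by
    rw [card_biUnion hdis, sum_congr rfl hT4]; simp [hS5]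
  have hsub : S.biUnion T ⊆ ((nb G v₀).erase q).erase r := by
    intro x hx; simp [hT] at hx ⊢
    obtain ⟨m, -, h1, h2, h3, -⟩ := hx
    exact ⟨h1, h2, h3⟩
  have hc20 : (((nb G v₀).erase q).erase r).card = 20 := by
    rw [card_erase_of_mem, card_erase_of_mem, h.deg] <;> simp [hq, hr, Ne.symm hqr]
  have heq := eq_of_subset_of_card_le hsub (by rw [hcard, hc20])
  have hmem : u ∈ ((nb G v₀).erase q).erase r := by simp; exact ⟨Ne.symm hru, Ne.symm hqu, hu⟩
  rw [← heq] at hmem
  simp [hT] at hmem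
  obtain ⟨m, hm, -, -, -, hmu⟩ := hmem
  obtain ⟨h1, h2, h3, h4⟩ := hSm m hm
  exact ⟨m, h1, h2, h3, h4, hmu⟩

end main

end Cfsg.Agent.H22.SRG
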