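import Cfsg.Agent.H22.SRG100

/-!
# A (100, 22, 0, 6) strongly regular graph is the point-block graph of an S(3, 6, 22)
-/

set_option autoImplicit false
open Finset

namespace Cfsg.Agent.H22.SRG
open Classical

variable {V : Type*} [Fintype V]

/-- The points: the neighbours of `v₀`. -/
abbrev Pt (G : SimpleGraph V) (v₀ : V) : Type _ := {x : V // G.Adj v₀ x}

/-- The block of a vertex `m`: the points adjacent to `m`. -/
noncomputable def blk (G : SimpleGraph V) (v₀ : V) (m : V) : Finset (Pt G v₀) :=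
  univ.filter (fun x => G.Adj m x.1)

@[simp] lemma mem_blk {G : SimpleGraph V} {v₀ m : V} {x : Pt G v₀} :
    x ∈ blk G v₀ m ↔ G.Adj m x.1 := by simp [blk]

/-- The blocks: one for each vertex that is neither `v₀` nor a neighbour of `v₀`. -/
def Blocks (G : SimpleGraph V) (v₀ : V) : Set (Finset (Pt G v₀)) :=
  {b | ∃ m, m ≠ v₀ ∧ ¬ G.Adj v₀ m ∧ b = blk G v₀ m}

lemma blk_map (G : SimpleGraph V) (v₀ m : V) :
    (blk G v₀ m).map (Function.Embedding.subtype _) = nb G v₀ ∩ nb G m := by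
  ext x
  simp only [mem_map, mem_blk, Function.Embedding.coe_subtype, mem_inter, mem_nb]
  constructor
  · rintro ⟨⟨a, ha⟩, h1, rfl⟩; exact ⟨ha, h1⟩
  · rintro ⟨h1, h2⟩; exact ⟨⟨x, h1⟩, h2, rfl⟩

section main
variable {G : SimpleGraph V} (h : Hyp G)
include h

lemma card_Pt (v₀ : V) : Fintype.card (Pt G v₀) = 22 := by
  rw [← h.deg v₀]
  apply Fintype.card_of_subtype
  intro x; simp

lemma card_blk {v₀ m : V} (hm0 : m ≠ v₀) (hm : ¬ G.Adj v₀ m) : (blk G v₀ m).card = 6 := by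
  rw [← card_map (Function.Embedding.subtype _), blk_map, h.mu v₀ m (Ne.symm hm0) hm]

/-- A set of three points lies in the blocks of at most one vertex. -/
lemma blk_unique {v₀ m m' : V} (hm0 : m ≠ v₀) (hm : ¬ G.Adj v₀ m) (hm0' : m' ≠ v₀)
    (hm' : ¬ G.Adj v₀ m') {s : Finset (Pt G v₀)} (hs : 3 ≤ s.card) (h1 : s ⊆ blk G v₀ m)
    (h2 : s ⊆ blk G v₀ m') : m' = m := by
  by_contra hne
  have hsub : s.map (Function.Embedding.subtype _) ⊆ (nb G v₀ ∩ nb G m) ∩ nb G m' := by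
    intro x hx
    simp only [mem_map, Function.Embedding.coe_subtype] at hx
    obtain ⟨a, ha, rfl⟩ := hx
    have e1 := mem_blk.1 (h1 ha)
    have e2 := mem_blk.1 (h2 ha)
    simp only [mem_inter, mem_nb]
    exact ⟨⟨a.2, e1⟩, e2⟩
  have := card_le_card hsub
  rw [card_map] at this
  rcases blocks_inter h hm0 hm hm0' hm' hne with e | e <;> omega

lemma blk_inj {v₀ m m' : V} (hm0 : m ≠ v₀) (hm : ¬ G.Adj v₀ m) (hm0' : m' ≠ v₀)
    (hm' : ¬ G.Adj v₀ m') (e : blk G v₀ m = blk G v₀ m') : m = m' := by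
  have h6 := card_blk h hm0 hm
  exact (blk_unique h hm0 hm hm0' hm' (s := blk G v₀ m) (by omega) subset_rfl (e ▸ subset_rfl)).symm

/-- The neighbours of `v₀` with the blocks of the non-neighbours form an S(3, 6, 22). -/
theorem steiner (v₀ : V) : Cfsg.IsSteinerSystem 3 6 (Blocks G v₀) := by
  refine ⟨?_, ?_⟩
  · rintro b ⟨m, hm0, hm, rfl⟩
    exact card_blk h hm0 hm
  · intro s hs
    obtain ⟨x, y, z, hxy, hxz, hyz, rfl⟩ := card_eq_three.1 hs
    obtain ⟨m, hm0, hm, h1, h2, h3⟩ := exists_block h x.2 y.2 z.2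
      (fun e => hxy (Subtype.ext e)) (fun e => hxz (Subtype.ext e)) (fun e => hyz (Subtype.ext e))
    have hsub : ({x, y, z} : Finset (Pt G v₀)) ⊆ blk G v₀ m := by
      intro w hw
      simp only [mem_insert, mem_singleton] at hw
      rcases hw with rfl | rfl | rfl
      · exact mem_blk.2 h1
      · exact mem_blk.2 h2
      · exact mem_blk.2 h3
    refine ⟨blk G v₀ m, ⟨⟨m, hm0, hm, rfl⟩, hsub⟩, ?_⟩
    rintro b ⟨⟨m', hm0', hm', rfl⟩, hsub'⟩
    rw [blk_unique h hm0 hm hm0' hm' (le_of_eq hs.symm) hsub hsub']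

/-- Distinct non-neighbours of `v₀` are adjacent exactly when their blocks are disjoint. -/
lemma disjoint_blk_iff {v₀ m m' : V} (hm0 : m ≠ v₀) (hm : ¬ G.Adj v₀ m) (hm0' : m' ≠ v₀)
    (hm' : ¬ G.Adj v₀ m') (hne : m ≠ m') :
    Disjoint (blk G v₀ m) (blk G v₀ m') ↔ G.Adj m m' := by
  constructor
  · intro hd
    by_contra ha
    have h2 := inter_two h hm0 hm hm0' hm' (Ne.symm hne) ha
    have hne' : ((nb G v₀ ∩ nb G m).filter (fun q => G.Adj m' q)).Nonempty := by
      rw [← card_pos]; omega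
    obtain ⟨q, hq⟩ := hne'
    simp only [mem_filter, mem_inter, mem_nb] at hq
    exact (disjoint_left.1 hd) (a := ⟨q, hq.1.1⟩) (mem_blk.2 hq.1.2) (mem_blk.2 hq.2)
  · intro ha
    rw [disjoint_left]
    intro x hx hx'
    exact h.tri m m' x.1 ha (mem_blk.1 hx) (mem_blk.1 hx')

end main

/-- The map from the vertices to the vertices of the point-block graph. -/
noncomputable def toPB (G : SimpleGraph V) (v₀ : V) (v : V) :
    Option (Pt G v₀ ⊕ Blocks G v₀) :=
  if h0 : v = v₀ then none else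
  if h1 : G.Adj v₀ v then some (Sum.inl ⟨v, h1⟩)
  else some (Sum.inr ⟨blk G v₀ v, v, h0, h1, rfl⟩)

lemma toPB_cases (G : SimpleGraph V) (v₀ v : V) :
    (v = v₀ ∧ toPB G v₀ v = none) ∨
    (∃ h1 : G.Adj v₀ v, toPB G v₀ v = some (Sum.inl ⟨v, h1⟩)) ∨
    (∃ (h0 : v ≠ v₀) (h1 : ¬ G.Adj v₀ v), toPB G v₀ v = some (Sum.inr ⟨blk G v₀ v, v, h0, h1, rfl⟩)) := by
  by_cases h0 : v = v₀
  · left; exact ⟨h0, by simp [toPB, h0]⟩
  · by_cases h1 : G.Adj v₀ v
    · right; left; exact ⟨h1, by simp [toPB, h0, h1]⟩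
    · right; right; exact ⟨h0, h1, by simp [toPB, h0, h1]⟩

lemma toPB_surj (G : SimpleGraph V) (v₀ : V) : Function.Surjective (toPB G v₀) := by
  rintro (_ | ⟨x, hx⟩ | ⟨b, m, hm0, hm, rfl⟩)
  · exact ⟨v₀, by simp [toPB]⟩
  · refine ⟨x, ?_⟩
    have : x ≠ v₀ := fun e => G.ne_of_adj hx e.symm
    simp [toPB, this, hx]
  · refine ⟨m, ?_⟩
    simp [toPB, hm0, hm]

lemma toPB_inj {G : SimpleGraph V} (h : Hyp G) (v₀ : V) : Function.Injective (toPB G v₀) := by
  intro u v e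
  rcases toPB_cases G v₀ u with ⟨hu, eu⟩ | ⟨hu, eu⟩ | ⟨hu0, hu, eu⟩ <;>
  rcases toPB_cases G v₀ v with ⟨hv, ev⟩ | ⟨hv, ev⟩ | ⟨hv0, hv, ev⟩ <;>
  rw [eu, ev] at e
  · rw [hu, hv]
  · simp at e
  · simp at e
  · simp at e
  · simpa using e
  · simp at e
  · simp at e
  · simp at e
  · have : blk G v₀ u = blk G v₀ v :=
      congrArg Subtype.val (Sum.inr.inj (Option.some.inj e))
    exact blk_inj h hu0 hu hv0 hv this

lemma toPB_adj {G : SimpleGraph V} (h : Hyp G) (v₀ u v : V) :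
    (Cfsg.pointBlockGraph (Blocks G v₀)).Adj (toPB G v₀ u) (toPB G v₀ v) ↔ G.Adj u v := by
  have hne : toPB G v₀ u ≠ toPB G v₀ v ↔ u ≠ v := (toPB_inj h v₀).ne_iff
  rw [Cfsg.pointBlockGraph, SimpleGraph.fromRel_adj, hne]
  rcases toPB_cases G v₀ u with ⟨hu, eu⟩ | ⟨hu, eu⟩ | ⟨hu0, hu, eu⟩ <;>
  rcases toPB_cases G v₀ v with ⟨hv, ev⟩ | ⟨hv, ev⟩ | ⟨hv0, hv, ev⟩ <;>
  rw [eu, ev] <;> simp only [Cfsg.pointBlockRel]
  · subst hu; subst hv; simp
  · subst hu
    simp only [or_false, and_true]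
    exact ⟨fun _ => hv, fun e => G.ne_of_adj e⟩
  · subst hu
    simp only [or_self, and_false, false_iff]
    exact hv
  · subst hv
    simp only [false_or, and_true]
    exact ⟨fun _ => hu.symm, fun e => G.ne_of_adj e⟩
  · simp only [or_self, and_false, false_iff]
    exact fun e => h.tri v₀ u v hu hv e
  · simp only [or_false, mem_blk]
    constructor
    · rintro ⟨-, e⟩; exact e.symm
    · intro e; exact ⟨G.ne_of_adj e, e.symm⟩
  · subst hv
    simp only [or_self, and_false, false_iff]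
    exact fun e => hu e.symm
  · simp only [false_or, mem_blk]
    constructor
    · rintro ⟨-, e⟩; exact e
    · intro e; exact ⟨G.ne_of_adj e, e⟩
  · by_cases huv : u = v
    · subst huv; simp
    · have e1 := disjoint_blk_iff h hu0 hu hv0 hv huv
      have e2 := disjoint_blk_iff h hv0 hv hu0 hu (Ne.symm huv)
      simp only [e1, e2]
      constructor
      · rintro ⟨-, e | e⟩
        · exact e
        · exact e.symm
      · intro e; exact ⟨huv, Or.inl e⟩

/-- A (100, 22, 0, 6) strongly regular graph is the point-block graph of the system `Blocks`. -/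
noncomputable def isoPB {G : SimpleGraph V} (h : Hyp G) (v₀ : V) :
    G ≃g Cfsg.pointBlockGraph (Blocks G v₀) where
  toEquiv := Equiv.ofBijective (toPB G v₀) ⟨toPB_inj h v₀, toPB_surj G v₀⟩
  map_rel_iff' := by
    intro u v
    exact toPB_adj h v₀ u v

end Cfsg.Agent.H22.SRG
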