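import Cfsg.Agent.H22.SRG100b

/-!
# Isomorphic set systems have isomorphic point-block graphs; uniqueness of the (100, 22, 0, 6) graph
from the uniqueness of S(3, 6, 22)
-/

set_option autoImplicit false
open Finset

namespace Cfsg.Agent.H22.SRG

section pb
variable {α β : Type*} [DecidableEq α] [DecidableEq β]

/-- The bijection on finsets induced by a bijection of the ground sets. -/
def imgEquiv (e : α ≃ β) : Finset α ≃ Finset β where
  toFun b := b.image e
  invFun c := c.image e.symm
  left_inv b := by simp [Finset.image_image]
  right_inv c := by simp [Finset.image_image]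

/-- The induced bijection of the blocks. -/
def blockEquiv (e : α ≃ β) {B : Set (Finset α)} {B' : Set (Finset β)}
    (hB : (fun b => b.image e) '' B = B') : B ≃ B' :=
  ((imgEquiv e).image B).trans (Equiv.setCongr hB)

lemma blockEquiv_coe (e : α ≃ β) {B : Set (Finset α)} {B' : Set (Finset β)}
    (hB : (fun b => b.image e) '' B = B') (b : B) :
    ((blockEquiv e hB b : B') : Finset β) = (b : Finset α).image e := rfl

/-- Isomorphic set systems have isomorphic point-block graphs. -/
def pbIso (e : α ≃ β) {B : Set (Finset α)} {B' : Set (Finset β)}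
    (hB : (fun b => b.image e) '' B = B') :
    Cfsg.pointBlockGraph B ≃g Cfsg.pointBlockGraph B' where
  toEquiv := Equiv.optionCongr (Equiv.sumCongr e (blockEquiv e hB))
  map_rel_iff' := by
    intro u v
    have hne : (Equiv.optionCongr (Equiv.sumCongr e (blockEquiv e hB))) u ≠
        (Equiv.optionCongr (Equiv.sumCongr e (blockEquiv e hB))) v ↔ u ≠ v :=
      (Equiv.injective _).ne_iff
    rw [Cfsg.pointBlockGraph, Cfsg.pointBlockGraph, SimpleGraph.fromRel_adj,
      SimpleGraph.fromRel_adj, hne]
    have key : ∀ u v : Option (α ⊕ B),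
        Cfsg.pointBlockRel B' ((Equiv.optionCongr (Equiv.sumCongr e (blockEquiv e hB))) u)
          ((Equiv.optionCongr (Equiv.sumCongr e (blockEquiv e hB))) v) ↔
        Cfsg.pointBlockRel B u v := by
      rintro (_ | a | b) (_ | a' | b') <;>
        simp only [Equiv.optionCongr_apply, Option.map_none, Option.map_some, Equiv.sumCongr_apply,
          Sum.map_inl, Sum.map_inr, Cfsg.pointBlockRel]
      · rw [blockEquiv_coe]
        simp [Finset.mem_image]
      · rw [blockEquiv_coe, blockEquiv_coe]
        exact Finset.disjoint_image e.injective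
    rw [key u v, key v u]

end pb

open Classical in
/-- Uniqueness of the (100, 22, 0, 6) strongly regular graph, given the uniqueness of the Steiner
system S(3, 6, 22) on the neighbourhoods. -/
theorem srg_unique {V W : Type*} [Fintype V] [Fintype W] {G : SimpleGraph V} {H : SimpleGraph W}
    (hG : Hyp G) (hH : Hyp H)
    (huniq : ∀ (v : V) (w : W), Cfsg.SetSystemIso (Blocks G v) (Blocks H w)) :
    Nonempty (G ≃g H) := by
  have hV : Nonempty V := by
    rw [← Fintype.card_pos_iff, hG.card]; norm_num
  have hW : Nonempty W := by
    rw [← Fintype.card_pos_iff, hH.card]; norm_num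
  obtain ⟨v⟩ := hV
  obtain ⟨w⟩ := hW
  obtain ⟨e, he⟩ := huniq v w
  exact ⟨(isoPB hG v).trans ((pbIso e he).trans (isoPB hH w).symm)⟩

end Cfsg.Agent.H22.SRG
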