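import Cfsg.Agent.H22.W22

/-!
# Uniqueness of S(3, 6, 22)
-/

set_option autoImplicit false

namespace Cfsg.Agent.H22.W22

open Finset Cfsg

variable {α : Type*} [Fintype α] [DecidableEq α] {B : Set (Finset α)}

/-- there is a block and a point off it -/
theorem exists_flag (hα : Fintype.card α = 22) (hB : IsSteinerSystem 3 6 B) :
    ∃ b ∈ B, ∃ p : α, p ∉ b := by
  have h77 := Cfsg.Agent.H10.steiner3_card_blocks hα hB
  obtain ⟨b, hb⟩ : (Cfsg.Agent.H10.blockFinset B).Nonempty := by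
    rw [← Finset.card_pos, h77]; norm_num
  have hb' := Cfsg.Agent.H10.mem_blockFinset.1 hb
  have hlt : b.card < (Finset.univ : Finset α).card := by
    rw [hB.1 b hb', Finset.card_univ, hα]; norm_num
  obtain ⟨p, -, hp⟩ := Finset.exists_mem_notMem_of_card_lt_card hlt
  exact ⟨b, hb', p, hp⟩

omit [Fintype α] in
/-- a bijection between two finsets of the same size, as a function on the ambient types -/
theorem exists_map {β : Type*} (b : Finset α) (b' : Finset β) (h : b.card = b'.card) (y₀ : β) :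
    ∃ f : α → β, Set.InjOn f b ∧ ∀ a ∈ b, f a ∈ b' := by
  classical
  let e : ↥b ≃ ↥b' := Finset.equivOfCardEq h
  refine ⟨fun x => if hx : x ∈ b then ((e ⟨x, hx⟩ : ↥b') : β) else y₀, ?_, ?_⟩
  · intro x hx y hy hxy
    simp only [mem_coe] at hx hy
    simp only [dif_pos hx, dif_pos hy] at hxy
    have := e.injective (Subtype.ext hxy)
    exact congrArg Subtype.val this
  · intro a ha
    simp only [dif_pos ha]
    exact (e ⟨a, ha⟩).2

/-- any two Steiner systems S(3, 6, 22) are isomorphic -/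
theorem steiner_iso {α' : Type*} [Fintype α'] [DecidableEq α'] {B' : Set (Finset α')}
    (hα : Fintype.card α = 22) (hα' : Fintype.card α' = 22)
    (hB : IsSteinerSystem 3 6 B) (hB' : IsSteinerSystem 3 6 B') : Cfsg.SetSystemIso B B' := by
  obtain ⟨b₀, hb₀, p, hp⟩ := exists_flag hα hB
  obtain ⟨b₀', hb₀', p', hp'⟩ := exists_flag hα' hB'
  obtain ⟨f, hfi, hf⟩ := exists_map b₀ b₀' (by rw [hB.1 b₀ hb₀, hB'.1 b₀' hb₀']) p'
  obtain ⟨g, -, -, hg⟩ := iso_exists hα hα' hB hB' hb₀ hp hb₀' hp' f hfi hf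
  exact ⟨g, hg⟩

end Cfsg.Agent.H22.W22
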