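import Cfsg.Agent.H22.SRG100c
import Cfsg.Agent.H22.W22b

/-!
# Uniqueness of the strongly regular graph with parameters (100, 22, 0, 6)
-/

set_option autoImplicit false

namespace Cfsg.Agent.H22.SRG

open Classical in
/-- any two graphs satisfying `Hyp` are isomorphic -/
theorem hyp_unique {V W : Type*} [Fintype V] [Fintype W] {G : SimpleGraph V} {H : SimpleGraph W}
    (hG : Hyp G) (hH : Hyp H) : Nonempty (G ≃g H) :=
  srg_unique hG hH (fun v w =>
    Cfsg.Agent.H22.W22.steiner_iso (card_Pt hG v) (card_Pt hH w) (steiner hG v) (steiner hH w))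

end Cfsg.Agent.H22.SRG
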