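import Cfsg.Agent.H22.Plane4Even
import Cfsg.Agent.H10.Steiner22
import Cfsg.Agent.H8.Steiner

/-!
# Steiner systems S(3, 6, 22)

The derived design at a point `p` is a projective plane of order 4; the 56 blocks off `p` are
hyperovals and are exactly the hyperovals meeting a fixed one of them evenly.  Hence, given points
`p`, `p'` and blocks `b₀ ∌ p`, `b₀' ∌ p'` of two such systems, every bijection `b₀ → b₀'` extends to
exactly one isomorphism sending `p` to `p'`.
-/

set_option autoImplicit false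

namespace Cfsg.Agent.H22.W22

open Finset Cfsg
open Cfsg.Agent.H22.Plane4

variable {α : Type*} [Fintype α] [DecidableEq α] {B : Set (Finset α)}

/-- the points other than `p` -/
abbrev Pts (p : α) : Type _ := {a : α // a ≠ p}

/-- the part of a set off `p` -/
abbrev sub (p : α) (b : Finset α) : Finset (Pts p) := Finset.subtype (fun a => a ≠ p) b

/-- the lines of the derived plane at `p` -/
def Lp (B : Set (Finset α)) (p : α) : Set (Finset (Pts p)) :=
  {b' : Finset {a : α // a ≠ p} | ∃ b ∈ B, p ∈ b ∧ b' = Finset.subtype (fun a => a ≠ p) b}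

omit [Fintype α] in
theorem card_sub {p : α} {b : Finset α} (hp : p ∉ b) : (sub p b).card = b.card := by
  rw [Finset.card_subtype, filter_true_of_mem]
  intro x hx e
  exact hp (e ▸ hx)

omit [Fintype α] in
theorem card_sub_le {p : α} {b : Finset α} : (sub p b).card ≤ b.card := by
  rw [Finset.card_subtype]
  exact card_filter_le _ _

omit [Fintype α] in
theorem sub_inter {p : α} {b c : Finset α} : sub p (b ∩ c) = sub p b ∩ sub p c := by
  ext x
  simp

omit [Fintype α] in
theorem sub_eq {p : α} {s t : Finset α} (h : sub p s = sub p t) (hp : p ∈ s ↔ p ∈ t) : s = t := by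
  ext x
  by_cases hx : x = p
  · subst hx; exact hp
  · have := Finset.ext_iff.1 h ⟨x, hx⟩
    simpa using this

theorem card_Pts (hα : Fintype.card α = 22) (p : α) : Fintype.card (Pts p) = 21 := by
  have := Fintype.card_subtype_compl (fun a : α => a = p)
  rw [Fintype.card_subtype_eq, hα] at this
  exact this

theorem plane (hα : Fintype.card α = 22) (hB : IsSteinerSystem 3 6 B) (p : α) :
    IsPlane (Lp B p) :=
  ⟨card_Pts hα p, Cfsg.Agent.H8.steiner_derived hB p⟩

omit [Fintype α] in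
theorem oval_sub (hB : IsSteinerSystem 3 6 B) {p : α} {b : Finset α}
    (hb : b ∈ B) (hp : p ∉ b) : IsOval (Lp B p) (sub p b) := by
  refine ⟨by rw [card_sub hp, hB.1 b hb], ?_⟩
  rintro l ⟨c, hc, hpc, rfl⟩
  have hne : c ≠ b := fun e => hp (e ▸ hpc)
  have h1 : (sub p (c ∩ b)).card ≤ 2 :=
    card_sub_le.trans (Cfsg.Agent.H10.steiner3_inter_le hB hb hc hne)
  rwa [sub_inter] at h1

/-- the blocks off `p`, as sets of points other than `p` -/
noncomputable def off (B : Set (Finset α)) (p : α) : Finset (Finset (Pts p)) :=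
  ((Cfsg.Agent.H10.blockFinset B).filter (fun b => p ∉ b)).image (sub p)

theorem mem_off {p : α} {S : Finset (Pts p)} : S ∈ off B p ↔ ∃ b ∈ B, p ∉ b ∧ S = sub p b := by
  simp only [off, mem_image, mem_filter, Cfsg.Agent.H10.mem_blockFinset]
  constructor
  · rintro ⟨b, ⟨hb, hp⟩, rfl⟩; exact ⟨b, hb, hp, rfl⟩
  · rintro ⟨b, hb, hp, rfl⟩; exact ⟨b, ⟨hb, hp⟩, rfl⟩

theorem card_off (hα : Fintype.card α = 22) (hB : IsSteinerSystem 3 6 B) (p : α) :
    (off B p).card = 56 := by
  rw [off, card_image_of_injOn]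
  · have h1 := Cfsg.Agent.H10.steiner3_card_one hα hB p
    have h2 := Cfsg.Agent.H10.steiner3_card_blocks hα hB
    have h3 := Finset.card_filter_add_card_filter_not (s := Cfsg.Agent.H10.blockFinset B)
      (fun d => p ∈ d)
    omega
  · intro b hb c hc e
    simp only [coe_filter, Set.mem_setOf_eq] at hb hc
    exact sub_eq e (by simp [hb.2, hc.2])

theorem off_eq_even (hα : Fintype.card α = 22) (hB : IsSteinerSystem 3 6 B) {p : α}
    {b₀ : Finset α} (hb₀ : b₀ ∈ B) (hp : p ∉ b₀) :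
    off B p = (indSets (Lp B p) 6).filter (fun O => Even (O ∩ sub p b₀).card) := by
  have O := oval_sub hB hb₀ hp
  apply eq_of_subset_of_card_le
  · intro S hS
    obtain ⟨b, hb, hpb, rfl⟩ := mem_off.1 hS
    have Ob := oval_sub hB hb hpb
    rw [mem_filter, mem_indSets]
    refine ⟨⟨Ob.card, Ob.indep⟩, ?_⟩
    rw [← sub_inter, card_sub (fun h => hp (mem_inter.1 h).2)]
    by_cases hne : b = b₀
    · subst hne
      rw [inter_self, hB.1 b hb]; decide
    · rcases Cfsg.Agent.H10.steiner3_inter_zero_or_two hα hB hb₀ hb hne with e | e <;>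
        rw [e] <;> decide
  · rw [card_even (plane hα hB p) (mem_indSets.2 ⟨O.card, O.indep⟩), card_off hα hB p]

section iso

variable {α' : Type*} [Fintype α'] [DecidableEq α'] {B' : Set (Finset α')}

omit [Fintype α] [Fintype α'] in
/-- how a bijection sending `p` to `p'` acts on the parts off `p` -/
theorem sub_image {p : α} {p' : α'} (g : α ≃ α') (g₀ : Pts p ≃ Pts p')
    (hg : ∀ x : Pts p, g x.1 = (g₀ x).1) (b : Finset α) :
    sub p' (b.image g) = (sub p b).image g₀ := by
  ext y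
  simp only [mem_subtype, mem_image]
  constructor
  · rintro ⟨x, hx, e⟩
    have hxp : x ≠ p := by
      rintro rfl
      have := hg (g₀.symm y)
      rw [Equiv.apply_symm_apply, ← e] at this
      exact (g₀.symm y).2 (g.injective this)
    refine ⟨⟨x, hxp⟩, hx, ?_⟩
    apply Subtype.ext
    rw [← hg ⟨x, hxp⟩]
    exact e
  · rintro ⟨x, hx, rfl⟩
    exact ⟨x.1, hx, hg x⟩

omit [Fintype α] [Fintype α'] in
theorem mem_image_iff {p : α} {p' : α'} (g : α ≃ α') (hp : g p = p') (b : Finset α) :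
    p' ∈ b.image g ↔ p ∈ b := by
  rw [← hp]
  exact (Function.Injective.mem_finset_image g.injective)

/-- the extension of a bijection of the points off `p`, `p'` -/
def extEquiv (p : α) (p' : α') (g₀ : Pts p ≃ Pts p') : α ≃ α' :=
  (Equiv.optionSubtypeNe p).symm.trans ((Equiv.optionCongr g₀).trans (Equiv.optionSubtypeNe p'))

omit [Fintype α] [Fintype α'] in
theorem extEquiv_self (p : α) (p' : α') (g₀ : Pts p ≃ Pts p') : extEquiv p p' g₀ p = p' := by
  simp [extEquiv]

omit [Fintype α] [Fintype α'] in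
theorem extEquiv_ne (p : α) (p' : α') (g₀ : Pts p ≃ Pts p') (x : Pts p) :
    extEquiv p p' g₀ x.1 = (g₀ x).1 := by
  simp [extEquiv, Equiv.optionSubtypeNe_symm_of_ne x.2]

/-- a bijection respecting the plane structures and the distinguished ovals maps blocks to
blocks -/
theorem image_mem (hα : Fintype.card α = 22) (hα' : Fintype.card α' = 22)
    (hB : IsSteinerSystem 3 6 B) (hB' : IsSteinerSystem 3 6 B')
    {p : α} {b₀ : Finset α} (hb₀ : b₀ ∈ B) (hp : p ∉ b₀)
    {p' : α'} {b₀' : Finset α'} (hb₀' : b₀' ∈ B') (hp' : p' ∉ b₀')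
    (g : α ≃ α') (g₀ : Pts p ≃ Pts p') (hgp : g p = p') (hg : ∀ x : Pts p, g x.1 = (g₀ x).1)
    (k₀ : ∀ l ∈ Lp B p, l.image g₀ ∈ Lp B' p') (h₀ : (sub p b₀).image g₀ = sub p' b₀')
    {b : Finset α} (hb : b ∈ B) : b.image g ∈ B' := by
  have P := plane hα hB p
  have P' := plane hα' hB' p'
  by_cases hpb : p ∈ b
  · obtain ⟨c, hc, hpc, e⟩ := k₀ (sub p b) ⟨b, hb, hpb, rfl⟩
    rw [← sub_image g g₀ hg] at e
    have : b.image g = c := sub_eq e (by simp [mem_image_iff g hgp, hpb, hpc])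
    rw [this]; exact hc
  · have h1 : sub p b ∈ off B p := mem_off.2 ⟨b, hb, hpb, rfl⟩
    rw [off_eq_even hα hB hb₀ hp, mem_filter, mem_indSets] at h1
    obtain ⟨⟨h6, hi⟩, hev⟩ := h1
    have h2 : (sub p b).image g₀ ∈ off B' p' := by
      rw [off_eq_even hα' hB' hb₀' hp', mem_filter, mem_indSets]
      refine ⟨⟨by rw [card_image_of_injective _ g₀.injective, h6], ?_⟩, ?_⟩
      · intro l' hl'
        rw [← image_lines P P' g₀ k₀] at hl'
        obtain ⟨l, hl, rfl⟩ := hl'
        rw [← image_inter _ _ g₀.injective, card_image_of_injective _ g₀.injective]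
        exact hi l hl
      · rw [← h₀, ← image_inter _ _ g₀.injective, card_image_of_injective _ g₀.injective]
        exact hev
    obtain ⟨c, hc, hpc, e⟩ := mem_off.1 h2
    rw [← sub_image g g₀ hg] at e
    have : b.image g = c := sub_eq e (by simp [mem_image_iff g hgp, hpb, hpc])
    rw [this]; exact hc

/-- a bijection mapping the blocks of one S(3, 6, 22) into those of another is an isomorphism -/
theorem image_blocks (hα : Fintype.card α = 22) (hα' : Fintype.card α' = 22)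
    (hB : IsSteinerSystem 3 6 B) (hB' : IsSteinerSystem 3 6 B') (g : α ≃ α')
    (k : ∀ b ∈ B, b.image g ∈ B') : (fun b : Finset α => b.image g) '' B = B' := by
  apply Set.Subset.antisymm
  · rintro _ ⟨b, hb, rfl⟩
    exact k b hb
  · intro c hc
    have hsub : (Cfsg.Agent.H10.blockFinset B).image (fun b : Finset α => b.image g)
        ⊆ Cfsg.Agent.H10.blockFinset B' := by
      intro x hx
      obtain ⟨b, hb, rfl⟩ := mem_image.1 hx
      exact Cfsg.Agent.H10.mem_blockFinset.2 (k b (Cfsg.Agent.H10.mem_blockFinset.1 hb))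
    have hinj : Function.Injective (fun b : Finset α => b.image g) :=
      Finset.image_injective g.injective
    have hcard : (Cfsg.Agent.H10.blockFinset B').card
        ≤ ((Cfsg.Agent.H10.blockFinset B).image (fun b : Finset α => b.image g)).card := by
      rw [card_image_of_injective _ hinj, Cfsg.Agent.H10.steiner3_card_blocks hα hB,
        Cfsg.Agent.H10.steiner3_card_blocks hα' hB']
    have heq := eq_of_subset_of_card_le hsub hcard
    have hc' : c ∈ Cfsg.Agent.H10.blockFinset B' := Cfsg.Agent.H10.mem_blockFinset.2 hc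
    rw [← heq] at hc'
    obtain ⟨b, hb, rfl⟩ := mem_image.1 hc'
    exact ⟨b, Cfsg.Agent.H10.mem_blockFinset.1 hb, rfl⟩

/-- **Strong uniqueness of S(3, 6, 22)**: a bijection between blocks `b₀`, `b₀'` of two systems
extends to an isomorphism sending a given point off `b₀` to a given point off `b₀'`. -/
theorem iso_exists (hα : Fintype.card α = 22) (hα' : Fintype.card α' = 22)
    (hB : IsSteinerSystem 3 6 B) (hB' : IsSteinerSystem 3 6 B')
    {p : α} {b₀ : Finset α} (hb₀ : b₀ ∈ B) (hp : p ∉ b₀)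
    {p' : α'} {b₀' : Finset α'} (hb₀' : b₀' ∈ B') (hp' : p' ∉ b₀')
    (f : α → α') (hfi : Set.InjOn f b₀) (hf : ∀ a ∈ b₀, f a ∈ b₀') :
    ∃ g : α ≃ α', g p = p' ∧ (∀ a ∈ b₀, g a = f a) ∧ (fun b : Finset α => b.image g) '' B = B' := by
  classical
  have P := plane hα hB p
  have P' := plane hα' hB' p'
  have O := oval_sub hB hb₀ hp
  have O' := oval_sub hB' hb₀' hp'
  obtain ⟨y₀⟩ : Nonempty (Pts p') := by
    rw [← Fintype.card_pos_iff, card_Pts hα' p']; norm_num
  let f₀ : Pts p → Pts p' := fun x => if h : f x.1 ≠ p' then ⟨f x.1, h⟩ else y₀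
  have hf₀ : ∀ x : Pts p, x.1 ∈ b₀ → (f₀ x).1 = f x.1 := by
    intro x hx
    have h : f x.1 ≠ p' := fun e => hp' (e ▸ hf x.1 hx)
    simp only [f₀, dif_pos h]
  have hfi₀ : Set.InjOn f₀ (sub p b₀) := by
    intro x hx y hy e
    rw [mem_coe, mem_subtype] at hx hy
    have := congrArg Subtype.val e
    rw [hf₀ x hx, hf₀ y hy] at this
    exact Subtype.ext (hfi hx hy this)
  have hfH₀ : ∀ a ∈ sub p b₀, f₀ a ∈ sub p' b₀' := by
    intro a ha
    rw [mem_subtype] at ha ⊢
    rw [hf₀ a ha]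
    exact hf a.1 ha
  obtain ⟨g₀, hg₀, k₀⟩ := recon_exists P P' O O' f₀ hfi₀ hfH₀
  have h₀ : (sub p b₀).image g₀ = sub p' b₀' := by
    apply eq_of_subset_of_card_le
    · intro y hy
      obtain ⟨x, hx, rfl⟩ := mem_image.1 hy
      rw [hg₀ x hx]
      exact hfH₀ x hx
    · rw [card_image_of_injective _ g₀.injective, O.card, O'.card]
  refine ⟨extEquiv p p' g₀, extEquiv_self p p' g₀, ?_, ?_⟩
  · intro a ha
    have hap : a ≠ p := fun e => hp (e ▸ ha)
    have := extEquiv_ne p p' g₀ ⟨a, hap⟩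
    rw [this, hg₀ ⟨a, hap⟩ (mem_subtype.2 ha), hf₀ ⟨a, hap⟩ ha]
  · exact image_blocks hα hα' hB hB' _ (fun b hb =>
      image_mem hα hα' hB hB' hb₀ hp hb₀' hp' _ g₀ (extEquiv_self p p' g₀)
        (extEquiv_ne p p' g₀) k₀ h₀ hb)

/-- the isomorphism of `iso_exists` is unique -/
theorem iso_unique (hα : Fintype.card α = 22) (hα' : Fintype.card α' = 22)
    (hB : IsSteinerSystem 3 6 B) (hB' : IsSteinerSystem 3 6 B')
    {p : α} {b₀ : Finset α} (hb₀ : b₀ ∈ B) (hp : p ∉ b₀)
    (g₁ g₂ : α ≃ α') (hp₁ : g₁ p = g₂ p) (h₁ : ∀ a ∈ b₀, g₁ a = g₂ a)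
    (k₁ : ∀ b ∈ B, b.image g₁ ∈ B') (k₂ : ∀ b ∈ B, b.image g₂ ∈ B') : g₁ = g₂ := by
  classical
  set p' := g₂ p with hp'
  have P := plane hα hB p
  have P' := plane hα' hB' p'
  have O := oval_sub hB hb₀ hp
  have hb₀' : b₀.image g₂ ∈ B' := k₂ b₀ hb₀
  have hpb' : p' ∉ b₀.image g₂ := by
    rw [mem_image_iff g₂ rfl]; exact hp
  have O' := oval_sub hB' hb₀' hpb'
  have hr₁ : ∀ a : α, a ≠ p ↔ g₁ a ≠ p' := by
    intro a; rw [← hp₁]; exact g₁.injective.ne_iff.symm
  have hr₂ : ∀ a : α, a ≠ p ↔ g₂ a ≠ p' := by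
    intro a; exact g₂.injective.ne_iff.symm
  let e₁ : Pts p ≃ Pts p' := Equiv.subtypeEquiv g₁ hr₁
  let e₂ : Pts p ≃ Pts p' := Equiv.subtypeEquiv g₂ hr₂
  have he₁ : ∀ x : Pts p, g₁ x.1 = (e₁ x).1 := fun x => rfl
  have he₂ : ∀ x : Pts p, g₂ x.1 = (e₂ x).1 := fun x => rfl
  have kl : ∀ (g : α ≃ α') (e : Pts p ≃ Pts p'), g p = p' → (∀ x : Pts p, g x.1 = (e x).1) →
      (∀ b ∈ B, b.image g ∈ B') → ∀ l ∈ Lp B p, l.image e ∈ Lp B' p' := by
    rintro g e hgp hge k l ⟨b, hb, hpb, rfl⟩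
    exact ⟨b.image g, k b hb, (mem_image_iff g hgp b).2 hpb, (sub_image g e hge b).symm⟩
  have hfi : Set.InjOn (fun x : Pts p => e₂ x) (sub p b₀) := e₂.injective.injOn
  have hfH : ∀ a ∈ sub p b₀, e₂ a ∈ sub p' (b₀.image g₂) := by
    intro a ha
    rw [sub_image g₂ e₂ he₂]
    exact mem_image_of_mem _ ha
  have h12 : ∀ a ∈ sub p b₀, e₁ a = e₂ a := by
    intro a ha
    apply Subtype.ext
    rw [← he₁, ← he₂]
    exact h₁ a.1 (mem_subtype.1 ha)
  have := recon_unique P P' O O' (fun x : Pts p => e₂ x) hfi hfH e₁ e₂ h12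
    (kl g₁ e₁ hp₁ he₁ k₁) (fun a _ => rfl) (kl g₂ e₂ rfl he₂ k₂)
  apply Equiv.ext
  intro x
  by_cases hx : x = p
  · rw [hx, hp₁]
  · have h := congrArg (fun e : Pts p ≃ Pts p' => (e ⟨x, hx⟩).1) this
    exact h

end iso

end Cfsg.Agent.H22.W22
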