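import Cfsg.Agent.H22.W22b

/-!
# The automorphism group of an S(3, 6, 22)

It acts sharply transitively on the triples (point `p`, block `b ∌ p`, labelling of `b`), so it has
order `22 * 56 * 720 = 887040`; it is 3-transitive on the points.
-/

set_option autoImplicit false

namespace Cfsg.Agent.H22.W22

open Finset Cfsg
open scoped Pointwise

variable {α : Type*} [Fintype α] [DecidableEq α] {B : Set (Finset α)}

omit [Fintype α] in
theorem smul_finset_eq (g : Equiv.Perm α) (b : Finset α) : g • b = b.image g := by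
  ext x
  simp [Finset.mem_smul_finset]

omit [Fintype α] in
theorem image_eq_of_mem {g : Equiv.Perm α} (hg : g ∈ setSystemAut B) :
    (fun b : Finset α => b.image g) '' B = B := by
  rw [← Cfsg.Agent.H22.Plane4.smul_lines]
  exact MulAction.mem_stabilizer_iff.1 hg

omit [Fintype α] in
theorem mem_of_image_eq {g : Equiv.Perm α} (hg : (fun b : Finset α => b.image g) '' B = B) :
    g ∈ setSystemAut B := by
  rw [MulAction.mem_stabilizer_iff, Cfsg.Agent.H22.Plane4.smul_lines]
  exact hg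

omit [Fintype α] in
theorem image_mem_of_mem {g : Equiv.Perm α} (hg : g ∈ setSystemAut B) {b : Finset α}
    (hb : b ∈ B) : b.image g ∈ B := by
  rw [← image_eq_of_mem hg]
  exact ⟨b, hb, rfl⟩

theorem card_blocks_off (hα : Fintype.card α = 22) (hB : IsSteinerSystem 3 6 B) (p : α) :
    ((Cfsg.Agent.H10.blockFinset B).filter (fun b => p ∉ b)).card = 56 := by
  have h1 := Cfsg.Agent.H10.steiner3_card_one hα hB p
  have h2 := Cfsg.Agent.H10.steiner3_card_blocks hα hB
  have h3 := Finset.card_filter_add_card_filter_not (s := Cfsg.Agent.H10.blockFinset B)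
    (fun d => p ∈ d)
  omega

/-- the number of flags (point, block off it) -/
theorem ncard_flags (hα : Fintype.card α = 22) (hB : IsSteinerSystem 3 6 B) :
    {x : α × Finset α | x.2 ∈ B ∧ x.1 ∉ x.2}.ncard = 1232 := by
  have e : {x : α × Finset α | x.2 ∈ B ∧ x.1 ∉ x.2}
      = ↑(((Finset.univ : Finset α) ×ˢ Cfsg.Agent.H10.blockFinset B).filter
          (fun x => x.1 ∉ x.2)) := by
    ext x
    simp [Cfsg.Agent.H10.mem_blockFinset]
  rw [e, Set.ncard_coe_finset, Finset.card_filter, Finset.sum_product]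
  have : ∀ p ∈ (Finset.univ : Finset α),
      ∑ b ∈ Cfsg.Agent.H10.blockFinset B, (if (p, b).1 ∉ (p, b).2 then 1 else 0) = 56 := by
    intro p _
    rw [← Finset.card_filter]
    exact card_blocks_off hα hB p
  rw [Finset.sum_congr rfl this, Finset.sum_const, Finset.card_univ, hα]
  rfl

/-- the automorphism group is transitive on flags with labelled block -/
theorem exists_aut (hα : Fintype.card α = 22) (hB : IsSteinerSystem 3 6 B)
    {p : α} {b₀ : Finset α} (hb₀ : b₀ ∈ B) (hp : p ∉ b₀)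
    {p' : α} {b₀' : Finset α} (hb₀' : b₀' ∈ B) (hp' : p' ∉ b₀')
    (f : α → α) (hfi : Set.InjOn f b₀) (hf : ∀ a ∈ b₀, f a ∈ b₀') :
    ∃ g : setSystemAut B, g.1 p = p' ∧ (∀ a ∈ b₀, g.1 a = f a) ∧ b₀.image g.1 = b₀' := by
  obtain ⟨g, h1, h2, h3⟩ := iso_exists hα hα hB hB hb₀ hp hb₀' hp' f hfi hf
  refine ⟨⟨g, mem_of_image_eq h3⟩, h1, h2, ?_⟩
  apply eq_of_subset_of_card_le
  · intro y hy
    obtain ⟨a, ha, rfl⟩ := mem_image.1 hy
    show g a ∈ b₀'
    rw [h2 a ha]
    exact hf a ha
  · rw [card_image_of_injective _ g.injective, hB.1 _ hb₀, hB.1 _ hb₀']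

/-- an automorphism is determined by its values on a point and a block off it -/
theorem aut_unique (hα : Fintype.card α = 22) (hB : IsSteinerSystem 3 6 B)
    {p : α} {b₀ : Finset α} (hb₀ : b₀ ∈ B) (hp : p ∉ b₀)
    (g₁ g₂ : setSystemAut B) (h1 : g₁.1 p = g₂.1 p) (h2 : ∀ a ∈ b₀, g₁.1 a = g₂.1 a) :
    g₁ = g₂ := by
  apply Subtype.ext
  exact iso_unique hα hα hB hB hb₀ hp g₁.1 g₂.1 h1 h2
    (fun b hb => image_mem_of_mem g₁.2 hb) (fun b hb => image_mem_of_mem g₂.2 hb)

/-- the order of the automorphism group of an S(3, 6, 22) -/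
theorem card_aut (hα : Fintype.card α = 22) (hB : IsSteinerSystem 3 6 B) :
    Nat.card (setSystemAut B) = 887040 := by
  classical
  obtain ⟨b₀, hb₀, p₀, hp₀⟩ := exists_flag hα hB
  have horb : MulAction.orbit (setSystemAut B) ((p₀, b₀) : α × Finset α)
      = {x : α × Finset α | x.2 ∈ B ∧ x.1 ∉ x.2} := by
    ext ⟨p, b⟩
    constructor
    · rintro ⟨g, hg⟩
      have e1 : g.1 p₀ = p := congrArg Prod.fst hg
      have e2 : g.1 • b₀ = b := congrArg Prod.snd hg
      rw [smul_finset_eq] at e2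
      refine ⟨?_, ?_⟩
      · show b ∈ B
        rw [← e2]; exact image_mem_of_mem g.2 hb₀
      · show p ∉ b
        rw [← e1, ← e2]
        intro h
        obtain ⟨a, ha, e⟩ := mem_image.1 h
        exact hp₀ (g.1.injective e ▸ ha)
    · rintro ⟨hb, hp⟩
      obtain ⟨f, hfi, hf⟩ := exists_map b₀ b (by rw [hB.1 b₀ hb₀, hB.1 b hb]) p
      obtain ⟨g, h1, -, h3⟩ := exists_aut hα hB hb₀ hp₀ hb hp f hfi hf
      refine ⟨g, ?_⟩
      show ((g.1 p₀, g.1 • b₀) : α × Finset α) = (p, b)
      rw [smul_finset_eq, h1, h3]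
  have hstab : Nat.card (MulAction.stabilizer (setSystemAut B) ((p₀, b₀) : α × Finset α)) = 720 := by
    have hst : ∀ g : MulAction.stabilizer (setSystemAut B) ((p₀, b₀) : α × Finset α),
        g.1.1 p₀ = p₀ ∧ b₀.image g.1.1 = b₀ := by
      intro g
      have hg := MulAction.mem_stabilizer_iff.1 g.2
      have e1 : g.1.1 p₀ = p₀ := congrArg Prod.fst hg
      have e2 : g.1.1 • b₀ = b₀ := congrArg Prod.snd hg
      rw [smul_finset_eq] at e2
      exact ⟨e1, e2⟩
    have hmem : ∀ g : MulAction.stabilizer (setSystemAut B) ((p₀, b₀) : α × Finset α),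
        ∀ x, g.1.1 x ∈ b₀ ↔ x ∈ b₀ := by
      intro g x
      have e := Finset.ext_iff.1 (hst g).2 (g.1.1 x)
      exact e.symm.trans (Function.Injective.mem_finset_image g.1.1.injective)
    let ρ : MulAction.stabilizer (setSystemAut B) ((p₀, b₀) : α × Finset α) → Equiv.Perm ↥b₀ :=
      fun g => g.1.1.subtypePerm (hmem g)
    have hbij : Function.Bijective ρ := by
      constructor
      · intro g g' h
        apply Subtype.ext
        apply aut_unique hα hB hb₀ hp₀
        · rw [(hst g).1, (hst g').1]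
        · intro a ha
          have := congrArg (fun σ : Equiv.Perm ↥b₀ => ((σ ⟨a, ha⟩ : ↥b₀) : α)) h
          exact this
      · intro σ
        let f : α → α := fun x => if h : x ∈ b₀ then ((σ ⟨x, h⟩ : ↥b₀) : α) else x
        have hf' : ∀ x (h : x ∈ b₀), f x = ((σ ⟨x, h⟩ : ↥b₀) : α) := fun x h => dif_pos h
        have hfi : Set.InjOn f b₀ := by
          intro x hx y hy hxy
          rw [hf' x hx, hf' y hy] at hxy
          have := σ.injective (Subtype.ext hxy)
          exact congrArg Subtype.val this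
        have hfH : ∀ a ∈ b₀, f a ∈ b₀ := by
          intro a ha
          rw [hf' a ha]
          exact (σ ⟨a, ha⟩).2
        obtain ⟨g, h1, h2, h3⟩ := exists_aut hα hB hb₀ hp₀ hb₀ hp₀ f hfi hfH
        have hgs : g ∈ MulAction.stabilizer (setSystemAut B) ((p₀, b₀) : α × Finset α) := by
          rw [MulAction.mem_stabilizer_iff]
          show ((g.1 p₀, g.1 • b₀) : α × Finset α) = (p₀, b₀)
          rw [smul_finset_eq, h1, h3]
        refine ⟨⟨g, hgs⟩, ?_⟩
        apply Equiv.ext
        rintro ⟨x, hx⟩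
        apply Subtype.ext
        show g.1 x = ((σ ⟨x, hx⟩ : ↥b₀) : α)
        rw [h2 x hx, hf' x hx]
    rw [Nat.card_congr (Equiv.ofBijective ρ hbij), Nat.card_eq_fintype_card, Fintype.card_perm,
      Fintype.card_coe, hB.1 b₀ hb₀]
    rfl
  rw [← Subgroup.index_mul_card (MulAction.stabilizer (setSystemAut B)
    ((p₀, b₀) : α × Finset α)), hstab, MulAction.index_stabilizer, horb, ncard_flags hα hB]

/-- a block through two points avoiding a third -/
theorem exists_block_off (hα : Fintype.card α = 22) (hB : IsSteinerSystem 3 6 B) {x0 x1 x2 : α}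
    (h01 : x0 ≠ x1) (h02 : x0 ≠ x2) (h12 : x1 ≠ x2) :
    ∃ b ∈ B, x1 ∈ b ∧ x2 ∈ b ∧ x0 ∉ b := by
  have hc3 : ({x0, x1, x2} : Finset α).card = 3 := card_eq_three.2 ⟨x0, x1, x2, h01, h02, h12, rfl⟩
  obtain ⟨b₁, ⟨hb₁, hs₁⟩, hu₁⟩ := hB.2 _ hc3
  have hlt : b₁.card < (Finset.univ : Finset α).card := by
    rw [hB.1 b₁ hb₁, Finset.card_univ, hα]; norm_num
  obtain ⟨z, -, hz⟩ := Finset.exists_mem_notMem_of_card_lt_card hlt
  have hx1 : x1 ∈ b₁ := hs₁ (by simp)
  have hx2 : x2 ∈ b₁ := hs₁ (by simp)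
  have hz1 : x1 ≠ z := fun e => hz (e ▸ hx1)
  have hz2 : x2 ≠ z := fun e => hz (e ▸ hx2)
  have hc3' : ({x1, x2, z} : Finset α).card = 3 := card_eq_three.2 ⟨x1, x2, z, h12, hz1, hz2, rfl⟩
  obtain ⟨b, ⟨hb, hs⟩, -⟩ := hB.2 _ hc3'
  refine ⟨b, hb, hs (by simp), hs (by simp), ?_⟩
  intro h0
  have : b = b₁ := hu₁ b ⟨hb, by
    intro y hy
    simp only [mem_insert, mem_singleton] at hy
    rcases hy with rfl | rfl | rfl
    · exact h0
    · exact hs (by simp)
    · exact hs (by simp)⟩
  exact hz (this ▸ hs (by simp))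

omit [Fintype α] in
/-- a bijection between two finsets of the same size with two prescribed values -/
theorem exists_map_two (b b' : Finset α) (h : b.card = b'.card) {x1 x2 y1 y2 : α}
    (hx1 : x1 ∈ b) (hx2 : x2 ∈ b) (hx : x1 ≠ x2) (hy1 : y1 ∈ b') (hy2 : y2 ∈ b') (hy : y1 ≠ y2) :
    ∃ f : α → α, Set.InjOn f b ∧ (∀ a ∈ b, f a ∈ b') ∧ f x1 = y1 ∧ f x2 = y2 := by
  have hc : ((b.erase x1).erase x2).card = ((b'.erase y1).erase y2).card := by
    rw [card_erase_of_mem (mem_erase.2 ⟨Ne.symm hx, hx2⟩), card_erase_of_mem hx1,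
      card_erase_of_mem (mem_erase.2 ⟨Ne.symm hy, hy2⟩), card_erase_of_mem hy1, h]
  obtain ⟨f₀, hfi₀, hf₀⟩ := exists_map ((b.erase x1).erase x2) ((b'.erase y1).erase y2) hc y1
  have hf₀' : ∀ a ∈ b, a ≠ x1 → a ≠ x2 → f₀ a ∈ b' ∧ f₀ a ≠ y1 ∧ f₀ a ≠ y2 := by
    intro a ha h1 h2
    have := hf₀ a (mem_erase.2 ⟨h2, mem_erase.2 ⟨h1, ha⟩⟩)
    rw [mem_erase, mem_erase] at this
    exact ⟨this.2.2, this.2.1, this.1⟩
  refine ⟨fun a => if a = x1 then y1 else if a = x2 then y2 else f₀ a, ?_, ?_, ?_, ?_⟩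
  · intro a ha a' ha' e
    simp only [mem_coe] at ha ha'
    simp only at e
    by_cases h1 : a = x1
    · by_cases h1' : a' = x1
      · rw [h1, h1']
      · by_cases h2' : a' = x2
        · rw [if_pos h1, if_neg h1', if_pos h2'] at e
          exact absurd e hy
        · rw [if_pos h1, if_neg h1', if_neg h2'] at e
          exact absurd e.symm (hf₀' a' ha' h1' h2').2.1
    · by_cases h2 : a = x2
      · by_cases h1' : a' = x1
        · rw [if_neg h1, if_pos h2, if_pos h1'] at e
          exact absurd e.symm hy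
        · by_cases h2' : a' = x2
          · rw [h2, h2']
          · rw [if_neg h1, if_pos h2, if_neg h1', if_neg h2'] at e
            exact absurd e.symm (hf₀' a' ha' h1' h2').2.2
      · by_cases h1' : a' = x1
        · rw [if_neg h1, if_neg h2, if_pos h1'] at e
          exact absurd e (hf₀' a ha h1 h2).2.1
        · by_cases h2' : a' = x2
          · rw [if_neg h1, if_neg h2, if_neg h1', if_pos h2'] at e
            exact absurd e (hf₀' a ha h1 h2).2.2
          · rw [if_neg h1, if_neg h2, if_neg h1', if_neg h2'] at e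
            exact hfi₀ (by simp [ha, h1, h2]) (by simp [ha', h1', h2']) e
  · intro a ha
    simp only
    by_cases h1 : a = x1
    · rw [if_pos h1]; exact hy1
    · by_cases h2 : a = x2
      · rw [if_neg h1, if_pos h2]; exact hy2
      · rw [if_neg h1, if_neg h2]; exact (hf₀' a ha h1 h2).1
  · simp
  · simp [Ne.symm hx]

/-- the automorphism group of an S(3, 6, 22) is 3-transitive on the points -/
theorem three_trans (hα : Fintype.card α = 22) (hB : IsSteinerSystem 3 6 B) :
    MulAction.IsMultiplyPretransitive (setSystemAut B) α 3 := by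
  refine ⟨fun x y => ?_⟩
  have hx01 : x 0 ≠ x 1 := fun e => by simpa using x.injective e
  have hx02 : x 0 ≠ x 2 := fun e => by simpa using x.injective e
  have hx12 : x 1 ≠ x 2 := fun e => by simpa using x.injective e
  have hy01 : y 0 ≠ y 1 := fun e => by simpa using y.injective e
  have hy02 : y 0 ≠ y 2 := fun e => by simpa using y.injective e
  have hy12 : y 1 ≠ y 2 := fun e => by simpa using y.injective e
  obtain ⟨b, hb, hb1, hb2, hb0⟩ := exists_block_off hα hB hx01 hx02 hx12
  obtain ⟨b', hb', hb1', hb2', hb0'⟩ := exists_block_off hα hB hy01 hy02 hy12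
  obtain ⟨f, hfi, hf, hf1, hf2⟩ := exists_map_two b b' (by rw [hB.1 b hb, hB.1 b' hb'])
    hb1 hb2 hx12 hb1' hb2' hy12
  obtain ⟨g, h1, h2, -⟩ := exists_aut hα hB hb hb0 hb' hb0' f hfi hf
  refine ⟨g, ?_⟩
  ext i
  show g.1 (x i) = y i
  fin_cases i
  · exact h1
  · show g.1 (x 1) = y 1
    rw [h2 _ hb1, hf1]
  · show g.1 (x 2) = y 2
    rw [h2 _ hb2, hf2]

end Cfsg.Agent.H22.W22
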